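import Cfsg.Agent.H637.A7Grp
import Cfsg.Agent.CharactersDeep.Carmichael

/-!
# Covers of `A₇` with kernel of exponent two, and homomorphisms given by Carmichael relations (helper637)

`P → A₇` onto, kernel central of exponent two, `P` perfect; `Q` a group with elements `S i`, `(S i)³ = 1`, `(S i * S j)² = m`,
`m` a central involution or trivial: `exists_good` : a subgroup `D ≤ P × Q` which is onto `P`, contains `(·, S i)`, and is a cover
of `A₇` with kernel `{1, z}`, `z = (·, m)`; involutions lift to square roots of `z`.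

* `Good.real` : elements of `D` not of order seven modulo `z` are conjugate to their inverses;
* `Good.class_eq` : trace functions with the same central character.
-/

set_option autoImplicit false
set_option linter.unusedSectionVars false

namespace Cfsg.Agent.H637.A7Cov

open Equiv.Perm Cfsg.Agent.H637.A7Grp Subgroup
open scoped commutatorElement

universe u v w

/-- the cover -/
structure Good {D : Type u} [Group D] (π : D →* alternatingGroup (Fin 7)) (g : Fin 5 → D) (z : D) : Prop where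
  fin : Finite D
  gP : ∀ i, π (g i) = s i
  cube : ∀ i, g i ^ 3 = 1
  sq : ∀ i j, i ≠ j → (g i * g j) ^ 2 = z
  zc : ∀ d, z * d = d * z
  zz : z * z = 1
  gen : closure (Set.range g) = ⊤
  ker : ∀ d, π d = 1 → d = 1 ∨ d = z

section good

variable {D : Type u} [Group D] {π : D →* alternatingGroup (Fin 7)} {g : Fin 5 → D} {z : D} (H : Good π g z)

include H

theorem Good.pi_z : π z = 1 := by
  have h1 := H.sq 0 1 (by decide)
  rw [← h1, map_pow, map_mul, H.gP, H.gP]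
  exact s_sq 0 1 (by decide)

theorem Good.surj : Function.Surjective π := by
  rw [← MonoidHom.range_eq_top, eq_top_iff, ← closure_s, closure_le]
  rintro _ ⟨i, rfl⟩
  exact ⟨g i, H.gP i⟩

/-- elements with the same image -/
theorem Good.eq_or {a b : D} (h : π a = π b) : a = b ∨ a = z * b := by
  rcases H.ker (a * b⁻¹) (by rw [map_mul, map_inv, h, mul_inv_cancel]) with h1 | h1
  · exact Or.inl (mul_inv_eq_one.1 h1)
  · exact Or.inr (mul_inv_eq_iff_eq_mul.1 h1)

/-- involutions lift to square roots of `z` -/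
theorem Good.sq_eq {y : D} (h2 : π y * π y = 1) (h1 : π y ≠ 1) : y * y = z := by
  have e1 : π (g 0 * g 1) * π (g 0 * g 1) = 1 := by
    rw [map_mul, H.gP, H.gP, ← pow_two]
    exact s_sq 0 1 (by decide)
  have e2 : π (g 0 * g 1) ≠ 1 := by
    rw [map_mul, H.gP, H.gP]
    exact s_ne 0 1 (by decide)
  obtain ⟨c, hc⟩ := isConj_iff.1 (invol_conj e1 e2 h2 h1)
  obtain ⟨c', rfl⟩ := H.surj c
  have e3 : π y = π (c' * (g 0 * g 1) * c'⁻¹) := by rw [map_mul π (c' * _), map_mul π c', map_inv, hc]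
  have e4 : c' * (g 0 * g 1) * c'⁻¹ * (c' * (g 0 * g 1) * c'⁻¹) = z := by
    calc c' * (g 0 * g 1) * c'⁻¹ * (c' * (g 0 * g 1) * c'⁻¹) = c' * ((g 0 * g 1) * (g 0 * g 1)) * c'⁻¹ := by group
      _ = z := by rw [← pow_two, H.sq 0 1 (by decide), ← H.zc, mul_inv_cancel_right]
  rcases H.eq_or e3 with h | h
  · rw [h, e4]
  · rw [h]
    calc z * (c' * (g 0 * g 1) * c'⁻¹) * (z * (c' * (g 0 * g 1) * c'⁻¹))
        = z * z * (c' * (g 0 * g 1) * c'⁻¹ * (c' * (g 0 * g 1) * c'⁻¹)) := by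
          rw [mul_assoc z, ← mul_assoc _ z, ← H.zc (c' * (g 0 * g 1) * c'⁻¹), mul_assoc z, mul_assoc z]
      _ = z := by rw [H.zz, one_mul, e4]

/-- **Elements not of order seven modulo `z` are real.** -/
theorem Good.real {d : D} (h : (π d : Equiv.Perm (Fin 7)).cycleType ≠ {7}) : ∃ y, y * d * y⁻¹ = d⁻¹ := by
  obtain ⟨y, h1, h2, h3, h4⟩ := (strong (π d)).resolve_left h
  obtain ⟨y', rfl⟩ := H.surj y
  have e1 := H.sq_eq h1 h2
  have e2 : y' * d * (y' * d) = z := H.sq_eq (by rw [map_mul]; exact h3) (by rw [map_mul]; exact h4)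
  refine ⟨y', ?_⟩
  have e3 : y' * d * y'⁻¹ * (y' * y') * d = z := by
    rw [← e2]
    group
  rw [e1] at e3
  have e4 : y' * d * y'⁻¹ * z * d * z⁻¹ = 1 := by rw [e3, mul_inv_cancel]
  have e5 : y' * d * y'⁻¹ * z * d * z⁻¹ = y' * d * y'⁻¹ * d := by
    have e6 : z * d * z⁻¹ = d := by rw [H.zc, mul_inv_cancel_right]
    calc y' * d * y'⁻¹ * z * d * z⁻¹ = y' * d * y'⁻¹ * (z * d * z⁻¹) := by group
      _ = y' * d * y'⁻¹ * d := by rw [e6]
  rw [e5] at e4
  exact mul_eq_one_iff_eq_inv.1 e4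

/-- the element of order seven -/
theorem Good.exists_x {Q : Type*} [Group Q] (β : D →* Q) (hβ : β (g 0 * g 1 * g 2 * g 3 * g 4) ^ 7 = 1) :
    ∃ x : D, π x = x7 ∧ x ^ 7 = 1 ∧ β x = β (g 0 * g 1 * g 2 * g 3 * g 4) := by
  set y := g 0 * g 1 * g 2 * g 3 * g 4 with hy
  have hpy : π y = x7 := by
    rw [hy, map_mul, map_mul, map_mul, map_mul, H.gP, H.gP, H.gP, H.gP, H.gP]
    rfl
  have h7 : y ^ 7 = 1 ∨ y ^ 7 = z := H.ker _ (by rw [map_pow, hpy, x7_seven])
  have h14 : y ^ 7 * y ^ 7 = 1 := by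
    rcases h7 with h | h
    · rw [h, one_mul]
    · rw [h, H.zz]
  refine ⟨y ^ 8, ?_, ?_, ?_⟩
  · rw [map_pow, hpy, show 8 = 7 + 1 from rfl, pow_succ, x7_seven, one_mul]
  · calc (y ^ 8) ^ 7 = (y ^ 7 * y ^ 7) ^ 4 := by rw [← pow_add, ← pow_mul, ← pow_mul]
      _ = 1 := by rw [h14, one_pow]
  · rw [map_pow, show 8 = 7 + 1 from rfl, pow_succ, hβ, one_mul]

/-- elements of order seven modulo `z` -/
theorem Good.seven {x : D} (hx : π x = x7) {d : D} (h : (π d : Equiv.Perm (Fin 7)).cycleType = {7}) :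
    ∃ c : D, d = c * x * c⁻¹ ∨ d = c * x⁻¹ * c⁻¹ ∨ d = z * (c * x * c⁻¹) ∨ d = z * (c * x⁻¹ * c⁻¹) := by
  rcases seven_conj h with ⟨c, hc⟩ | ⟨c, hc⟩
  · obtain ⟨c', rfl⟩ := H.surj c
    rcases H.eq_or (a := d) (b := c' * x * c'⁻¹) (by rw [map_mul, map_mul, map_inv, hx, hc]) with h1 | h1
    · exact ⟨c', Or.inl h1⟩
    · exact ⟨c', Or.inr (Or.inr (Or.inl h1))⟩
  · obtain ⟨c', rfl⟩ := H.surj c
    rcases H.eq_or (a := d) (b := c' * x⁻¹ * c'⁻¹) (by rw [map_mul, map_mul, map_inv, map_inv, hx, hc]) with h1 | h1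
    · exact ⟨c', Or.inr (Or.inl h1)⟩
    · exact ⟨c', Or.inr (Or.inr (Or.inr h1))⟩

theorem Good.z_inv : z⁻¹ = z := inv_eq_of_mul_eq_one_left H.zz

/-- **Trace functions with the same central character.** -/
theorem Good.class_eq {K : Type*} [CommRing K] {x : D} (hx : π x = x7) {τ τ' : D → K} (hτ : ∀ d c, τ (c * d * c⁻¹) = τ d)
    (hτ' : ∀ d c, τ' (c * d * c⁻¹) = τ' d) {ε : K} (hz : ∀ d, τ (z * d) = ε * τ d) (hz' : ∀ d, τ' (z * d) = ε * τ' d)
    (d : D) : (τ' x - τ' x⁻¹) * (τ d - τ d⁻¹) = (τ x - τ x⁻¹) * (τ' d - τ' d⁻¹) := by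
  by_cases h : (π d : Equiv.Perm (Fin 7)).cycleType = {7}
  · have hinv : ∀ d, (z * d)⁻¹ = z * d⁻¹ := by
      intro d
      rw [mul_inv_rev, H.z_inv, H.zc]
    obtain ⟨c, h1 | h1 | h1 | h1⟩ := H.seven hx h
    · have h2 : d⁻¹ = c * x⁻¹ * c⁻¹ := by rw [h1]; group
      rw [h2, h1, hτ, hτ', hτ, hτ']
      ring
    · have h2 : d⁻¹ = c * x * c⁻¹ := by rw [h1]; group
      rw [h2, h1, hτ, hτ', hτ, hτ']
      ring
    · have h2 : d⁻¹ = z * (c * x⁻¹ * c⁻¹) := by rw [h1, hinv]; group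
      rw [h2, h1, hz, hz, hz', hz', hτ, hτ', hτ, hτ']
      ring
    · have h2 : d⁻¹ = z * (c * x * c⁻¹) := by rw [h1, hinv]; group
      rw [h2, h1, hz, hz, hz', hz', hτ, hτ', hτ, hτ']
      ring
  · obtain ⟨y, hy⟩ := H.real h
    rw [← hy, hτ, hτ', sub_self, sub_self, mul_zero, mul_zero]

end good

section build

variable {P : Type u} [Group P] (π : P →* alternatingGroup (Fin 7)) (hπ : Function.Surjective π)
  (hk : ∀ k, π k = 1 → (∀ g, k * g = g * k) ∧ k * k = 1) (hperf : commutator P = ⊤)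

include hπ hk

/-- lifts of the Carmichael generators -/
theorem exists_lifts : ∃ q : Fin 5 → P, (∀ i, π (q i) = s i) ∧ (∀ i, q i ^ 3 = 1) := by
  choose q hq using fun i => hπ (s i)
  refine ⟨fun i => q i ^ 4, fun i => ?_, fun i => ?_⟩
  · rw [map_pow, hq, pow_succ, s_cube, one_mul]
  · have h1 := (hk (q i ^ 3) (by rw [map_pow, hq, s_cube])).2
    calc (q i ^ 4) ^ 3 = (q i ^ 3 * q i ^ 3) ^ 2 := by rw [← pow_add, ← pow_mul, ← pow_mul]
      _ = 1 := by rw [h1, one_pow]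

theorem sq_const {q : Fin 5 → P} (hq : ∀ i, π (q i) = s i) {i j : Fin 5} (hij : i ≠ j) :
    (q i * q j) ^ 2 = (q 0 * q 1) ^ 2 := by
  have e1 : ∀ {i j : Fin 5}, i ≠ j → π (q i * q j) * π (q i * q j) = 1 := by
    intro i j hij
    rw [map_mul, hq, hq, ← pow_two]
    exact s_sq i j hij
  have e2 : ∀ {i j : Fin 5}, i ≠ j → π (q i * q j) ≠ 1 := by
    intro i j hij
    rw [map_mul, hq, hq]
    exact s_ne i j hij
  obtain ⟨c, hc⟩ := isConj_iff.1 (invol_conj (e1 (i := 0) (j := 1) (by decide)) (e2 (i := 0) (j := 1) (by decide)) (e1 hij) (e2 hij))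
  obtain ⟨c', rfl⟩ := hπ c
  have e3 : π (q i * q j * (c' * (q 0 * q 1) * c'⁻¹)⁻¹) = 1 := by
    rw [map_mul π (q i * q j), map_inv, map_mul π (c' * _), map_mul π c', map_inv, hc, mul_inv_cancel]
  obtain ⟨h1, h2⟩ := hk _ e3
  set k := q i * q j * (c' * (q 0 * q 1) * c'⁻¹)⁻¹ with hk'
  have e4 : q i * q j = k * (c' * (q 0 * q 1) * c'⁻¹) := by rw [hk']; group
  have e5 : (q 0 * q 1) ^ 2 * c'⁻¹ = c'⁻¹ * (q 0 * q 1) ^ 2 := ((hk _ (by
    rw [map_pow, pow_two]
    exact e1 (by decide))).1 c'⁻¹)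
  calc (q i * q j) ^ 2 = k * (c' * (q 0 * q 1) * c'⁻¹) * (k * (c' * (q 0 * q 1) * c'⁻¹)) := by rw [e4, pow_two]
    _ = k * k * (c' * (q 0 * q 1) * c'⁻¹ * (c' * (q 0 * q 1) * c'⁻¹)) := by
        rw [mul_assoc k, ← mul_assoc _ k, ← h1 (c' * (q 0 * q 1) * c'⁻¹), mul_assoc k, mul_assoc k]
    _ = c' * ((q 0 * q 1) ^ 2 * c'⁻¹) := by rw [h2, one_mul, pow_two]; group
    _ = (q 0 * q 1) ^ 2 := by rw [e5, mul_inv_cancel_left]

include hperf

theorem closure_lifts {q : Fin 5 → P} (hq : ∀ i, π (q i) = s i) : closure (Set.range q) = ⊤ := by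
  set T := closure (Set.range q) with hT
  have h1 : ∀ g : P, ∃ t ∈ T, ∃ k, π k = 1 ∧ g = t * k := by
    intro g
    have h2 : π g ∈ T.map π := by
      have h3 : T.map π = ⊤ := by
        rw [hT, MonoidHom.map_closure, ← Set.range_comp, ← closure_s]
        congr 1
        ext y
        simp only [Set.mem_range, Function.comp_apply, hq]
      rw [h3]
      trivial
    obtain ⟨t, ht, e⟩ := h2
    refine ⟨t, ht, t⁻¹ * g, ?_, by group⟩
    rw [map_mul, map_inv, e, inv_mul_cancel]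
  rw [eq_top_iff, ← hperf, commutator_def, commutator_le]
  intro a _ b _
  obtain ⟨t, ht, k, hk1, rfl⟩ := h1 a
  obtain ⟨t', ht', k', hk1', rfl⟩ := h1 b
  have c1 := (hk k hk1).1
  have c2 := (hk k' hk1').1
  have e1 : ⁅t * k, t' * k'⁆ = ⁅t, t'⁆ := by
    rw [commutatorElement_def, commutatorElement_def, mul_inv_rev, mul_inv_rev]
    calc t * k * (t' * k') * (k⁻¹ * t⁻¹) * (k'⁻¹ * t'⁻¹)
        = t * (k * (t' * k' * k⁻¹)) * t⁻¹ * k'⁻¹ * t'⁻¹ := by group
      _ = t * (t' * k' * k⁻¹ * k) * t⁻¹ * k'⁻¹ * t'⁻¹ := by rw [c1 (t' * k' * k⁻¹)]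
      _ = t * t' * (k' * t⁻¹) * k'⁻¹ * t'⁻¹ := by group
      _ = t * t' * (t⁻¹ * k') * k'⁻¹ * t'⁻¹ := by rw [c2 t⁻¹]
      _ = t * t' * t⁻¹ * t'⁻¹ := by group
  rw [e1, commutatorElement_def]
  exact T.mul_mem (T.mul_mem (T.mul_mem ht ht') (T.inv_mem ht)) (T.inv_mem ht')

/-- **The cover.** -/
theorem exists_good {Q : Type v} [Group Q] {S : Fin 5 → Q} {m : Q} (hS3 : ∀ i, S i ^ 3 = 1)
    (hS2 : ∀ i j, i ≠ j → (S i * S j) ^ 2 = m) (hm : m * m = 1) (hmc : ∀ q, m * q = q * m) :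
    ∃ (D : Subgroup (P × Q)) (g : Fin 5 → D) (z : D),
      Good (π.comp ((MonoidHom.fst P Q).comp D.subtype)) g z ∧ (∀ p : P, ∃ d : D, d.1.1 = p) ∧
      (∀ i, (g i).1.2 = S i) ∧ z.1.2 = m := by
  obtain ⟨q, hq, hq3⟩ := exists_lifts π hπ hk
  set k := (q 0 * q 1) ^ 2 with hkdef
  have hk1 : π k = 1 := by
    rw [hkdef, map_pow, map_mul, hq, hq]
    exact s_sq 0 1 (by decide)
  obtain ⟨kc, kk⟩ := hk k hk1
  let D : Subgroup (P × Q) := closure (Set.range fun i => (q i, S i))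
  let g : Fin 5 → D := fun i => ⟨(q i, S i), subset_closure ⟨i, rfl⟩⟩
  have hgen : closure (Set.range g) = ⊤ := by
    rw [eq_top_iff]
    rintro ⟨d, hd⟩ -
    refine closure_induction (p := fun d hd => (⟨d, hd⟩ : D) ∈ closure (Set.range g)) ?_ ?_ ?_ ?_ hd
    · rintro _ ⟨i, rfl⟩
      exact subset_closure ⟨i, rfl⟩
    · exact one_mem _
    · intro a b ha hb h1 h2
      exact mul_mem h1 h2
    · intro a ha h1
      exact inv_mem h1
  let z : D := (g 0 * g 1) ^ 2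
  have hz1 : z.1.1 = k := rfl
  have hz2 : z.1.2 = m := hS2 0 1 (by decide)
  have zval : z.1 = (k, m) := Prod.ext hz1 hz2
  have hsq : ∀ i j, i ≠ j → (g i * g j) ^ 2 = z := by
    intro i j hij
    apply Subtype.ext
    rw [zval]
    exact Prod.ext (sq_const π hπ hk hq hij) (hS2 i j hij)
  have hcube : ∀ i, g i ^ 3 = 1 := fun i => Subtype.ext (Prod.ext (hq3 i) (hS3 i))
  have hzc : ∀ d, z * d = d * z := by
    intro d
    apply Subtype.ext
    show z.1 * d.1 = d.1 * z.1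
    rw [zval]
    exact Prod.ext (kc _) (hmc _)
  have hzz : z * z = 1 := by
    apply Subtype.ext
    show z.1 * z.1 = 1
    rw [zval]
    exact Prod.ext kk hm
  let ϖ : D →* alternatingGroup (Fin 7) := π.comp ((MonoidHom.fst P Q).comp D.subtype)
  have hϖ : ∀ i, ϖ (g i) = s i := hq
  have hϖz : ϖ z = 1 := hk1
  -- the quotient
  let N : Subgroup D := zpowers z
  have hNc : N ≤ center D := by
    rw [zpowers_le, mem_center_iff]
    intro d
    exact (hzc d).symm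
  have hNn : N.Normal := ⟨fun n hn d => by
    have h1 := mem_center_iff.1 (hNc hn) d
    rwa [h1, mul_inv_cancel_right]⟩
  have hy3 : ∀ i, ((g i : D ⧸ N)) ^ 3 = 1 := by
    intro i
    rw [← QuotientGroup.mk_pow, hcube]
    rfl
  have hy2 : ∀ i j, i ≠ j → ((g i : D ⧸ N) * (g j : D ⧸ N)) ^ 2 = 1 := by
    intro i j hij
    rw [← QuotientGroup.mk_mul, ← QuotientGroup.mk_pow, hsq i j hij, QuotientGroup.eq_one_iff]
    exact mem_zpowers z
  have hyg : closure (Set.range fun i => (g i : D ⧸ N)) = ⊤ := by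
    have h1 : (closure (Set.range g)).map (QuotientGroup.mk' N) = ⊤ := by
      rw [hgen, ← MonoidHom.range_eq_map, MonoidHom.range_eq_top]
      exact QuotientGroup.mk'_surjective N
    rw [MonoidHom.map_closure, ← Set.range_comp] at h1
    exact h1
  obtain ⟨hfq, hcard⟩ := CharactersDeep.Carmichael.card_le_of_closure_eq_top 5 _ hy3 hy2 hyg
  have hNker : N ≤ ϖ.ker := by
    rw [zpowers_le, MonoidHom.mem_ker]
    exact hϖz
  let θ : D ⧸ N →* alternatingGroup (Fin 7) := QuotientGroup.lift N ϖ hNker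
  have hθs : Function.Surjective θ := by
    rw [← MonoidHom.range_eq_top, eq_top_iff, ← closure_s, closure_le]
    rintro _ ⟨i, rfl⟩
    exact ⟨(g i : D ⧸ N), hϖ i⟩
  have hcA := card_A7
  have hce : Nat.card (D ⧸ N) = Nat.card (alternatingGroup (Fin 7)) := by
    have h1 := Nat.card_le_card_of_surjective θ hθs
    have h2 : (5 + 2).factorial = Nat.factorial 7 := rfl
    rw [h2] at hcard
    omega
  have hθi : Function.Injective θ :=
    ((Nat.bijective_iff_surjective_and_card θ).2 ⟨hθs, hce⟩).1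
  have hNe : ∀ d ∈ N, d = 1 ∨ d = z := by
    intro d hd
    obtain ⟨j, rfl⟩ := mem_zpowers_iff.1 hd
    rcases Int.even_or_odd' j with ⟨i, rfl | rfl⟩
    · left
      rw [zpow_mul, show z ^ (2 : ℤ) = 1 from by rw [zpow_ofNat, pow_two, hzz], one_zpow]
    · right
      rw [zpow_add, zpow_mul, show z ^ (2 : ℤ) = 1 from by rw [zpow_ofNat, pow_two, hzz], one_zpow, one_mul, zpow_one]
  have hker : ∀ d, ϖ d = 1 → d = 1 ∨ d = z := by
    intro d hd
    apply hNe
    rw [← QuotientGroup.eq_one_iff]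
    apply hθi
    rw [map_one]
    exact hd
  have hfD : Finite D := by
    have hfN : Finite N := by
      refine Set.Finite.subset (Set.toFinite {1, z}) ?_ |>.to_subtype
      intro d hd
      rcases hNe d hd with h | h
      · exact Or.inl h
      · exact Or.inr h
    exact Finite.of_subgroup_quotient N
  refine ⟨D, g, z, ⟨hfD, hϖ, hcube, hsq, hzc, hzz, hgen, hker⟩, ?_, fun i => rfl, hz2⟩
  intro p
  have h1 : D.map (MonoidHom.fst P Q) = ⊤ := by
    have h2 := closure_lifts π hπ hk hperf hq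
    show (closure (Set.range fun i => (q i, S i))).map (MonoidHom.fst P Q) = ⊤
    rw [MonoidHom.map_closure, ← Set.range_comp]
    exact h2
  have h2 : p ∈ D.map (MonoidHom.fst P Q) := by rw [h1]; trivial
  obtain ⟨d, hd, e⟩ := h2
  exact ⟨⟨d, hd⟩, e⟩

end build

end Cfsg.Agent.H637.A7Cov
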