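import Cfsg.Agent.H637.A7Four
import Cfsg.Agent.H637.A7Cov
import Cfsg.Agent.H915.LD
import Cfsg.Agent.H906.Trace
import Cfsg.Agent.S2116

/-!
# `A₇` and `2.A₇` in matrix groups, all degrees and characteristics (helper637)

`P` a core (`H915.LD.Core`) with `Soc P ≅ A₇` whose scalars have order at most two: `main` : `P` is self-dual, or `n = 4` or
(`n = 10`, `p ≠ 2`), `p ≠ 7`, and the traces are those of the four-dimensional representation of `2.A₇` or its dual, or its
symmetric square; `le_two` : the conclusion on the field.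
-/

set_option autoImplicit false
set_option linter.unusedSectionVars false

namespace Cfsg.Agent.H637.A7Main

open Cfsg Cfsg.Geo Matrix Module Cfsg.Agent.H637.A7Mat Cfsg.Agent.H637.A7Ev Cfsg.Agent.H637.RepPair
  Cfsg.Agent.H637.A7Four Cfsg.Agent.H637.A7Grp Cfsg.Agent.H637.A7Cov Cfsg.Agent.H915.LD

universe u v

/-! ### the roots -/

section root

variable {K : Type u} [Field K] [IsAlgClosed K]

theorem exists_b : ∃ b : K, b * b + b + 2 = 0 := by
  obtain ⟨b, hb⟩ := IsAlgClosed.exists_root (Polynomial.X ^ 2 + Polynomial.X + Polynomial.C 2 : Polynomial K) (by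
    have h1 : (Polynomial.X ^ 2 + Polynomial.X + Polynomial.C 2 : Polynomial K).degree = 2 := by
      compute_degree!
    rw [h1]; decide)
  refine ⟨b, ?_⟩
  rw [Polynomial.IsRoot.def] at hb
  simp only [Polynomial.eval_add, Polynomial.eval_pow, Polynomial.eval_X, Polynomial.eval_C] at hb
  rw [← hb]
  ring

/-- The Frobenius on the roots of `x² + x + 2`. -/
theorem frob_b {b : K} (hb : b * b + b + 2 = 0) (h7 : (7 : K) ≠ 0) (p : ℕ) [hp : Fact p.Prime] [CharP K p] :
    ((p % 7 = 1 ∨ p % 7 = 2 ∨ p % 7 = 4) ∧ b ^ p = b) ∨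
      ((p % 7 = 3 ∨ p % 7 = 5 ∨ p % 7 = 6) ∧ b ^ p = -1 - b) := by
  have : NeZero ((7 : ℕ) : K) := ⟨by exact_mod_cast h7⟩
  obtain ⟨ζ, hζ⟩ := HasEnoughRootsOfUnity.exists_primitiveRoot K 7
  have h71 : ζ ^ 7 = 1 := hζ.pow_eq_one
  have hs : 1 + ζ + ζ ^ 2 + ζ ^ 3 + ζ ^ 4 + ζ ^ 5 + ζ ^ 6 = 0 := by
    have h1 := hζ.geom_sum_eq_zero (by norm_num)
    simp only [Finset.sum_range_succ, Finset.sum_range_zero, pow_zero, pow_one, zero_add] at h1
    exact h1
  set e := ζ + ζ ^ 2 + ζ ^ 4 with he
  have hee : e * e + e + 2 = 0 := by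
    have h8 : ζ ^ 8 = ζ := by rw [show 8 = 7 + 1 from rfl, pow_succ, h71, one_mul]
    have : e * e + e + 2 = 2 * (1 + ζ + ζ ^ 2 + ζ ^ 3 + ζ ^ 4 + ζ ^ 5 + ζ ^ 6) + (ζ ^ 8 - ζ) := by
      rw [he]; ring
    rw [this, hs, h8]; ring
  have hbe : b = e ∨ b = -1 - e := by
    have h1 : (b - e) * (b + 1 + e) = 0 := by linear_combination hb - hee
    rcases mul_eq_zero.1 h1 with h | h
    · left; linear_combination h
    · right; linear_combination h
  have hp7 : p % 7 ≠ 0 := by
    intro h0
    have h1 : 7 ∣ p := Nat.dvd_of_mod_eq_zero h0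
    have h2 : p = 7 := ((Nat.prime_dvd_prime_iff_eq (by norm_num) hp.out).1 h1).symm
    apply h7
    have h3 := CharP.cast_eq_zero K p
    rw [h2] at h3
    exact_mod_cast h3
  have hpow : ∀ m : ℕ, ζ ^ m = ζ ^ (m % 7) := by
    intro m
    conv_lhs => rw [← Nat.div_add_mod m 7, pow_add, pow_mul, h71, one_pow, one_mul]
  have hep : e ^ p = ζ ^ (p % 7) + ζ ^ (2 * p % 7) + ζ ^ (4 * p % 7) := by
    rw [he, add_pow_char, add_pow_char, ← pow_mul, ← pow_mul, hpow p, hpow (2 * p), hpow (4 * p)]
  have h2 : 2 * p % 7 = 2 * (p % 7) % 7 := by omega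
  have h4 : 4 * p % 7 = 4 * (p % 7) % 7 := by omega
  have hcases : ((p % 7 = 1 ∨ p % 7 = 2 ∨ p % 7 = 4) ∧ e ^ p = e) ∨
      ((p % 7 = 3 ∨ p % 7 = 5 ∨ p % 7 = 6) ∧ e ^ p = -1 - e) := by
    have hlt : p % 7 < 7 := Nat.mod_lt _ (by norm_num)
    rw [h2, h4] at hep
    generalize p % 7 = r at *
    interval_cases r
    · exact absurd rfl hp7
    · left; refine ⟨by norm_num, ?_⟩; rw [hep, he]; ring
    · left; refine ⟨by norm_num, ?_⟩; rw [hep, he]; norm_num; ring
    · right; refine ⟨by norm_num, ?_⟩; rw [hep, he]; norm_num; linear_combination hs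
    · left; refine ⟨by norm_num, ?_⟩; rw [hep, he]; norm_num; ring
    · right; refine ⟨by norm_num, ?_⟩; rw [hep, he]; norm_num; linear_combination hs
    · right; refine ⟨by norm_num, ?_⟩; rw [hep, he]; norm_num; linear_combination hs
  rcases hcases with ⟨h5, h6⟩ | ⟨h5, h6⟩
  · left
    refine ⟨h5, ?_⟩
    rcases hbe with h | h
    · rw [h, h6]
    · rw [h, sub_pow_char, h6]
      have : (-1 : K) ^ p = -1 := by
        rw [← frobenius_def (R := K) (p := p), map_neg, map_one]
      rw [this]
  · right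
    refine ⟨h5, ?_⟩
    rcases hbe with h | h
    · rw [h, h6]
    · rw [h, sub_pow_char, h6]
      have : (-1 : K) ^ p = -1 := by
        rw [← frobenius_def (R := K) (p := p), map_neg, map_one]
      rw [this]

end root

/-! ### the group generated by the matrices -/

section gens

variable {K : Type u} [Field K] {b : K} (hb : b * b + b + 2 = 0)

/-- the generators as invertible matrices -/
def Su (hb : b * b + b + 2 = 0) (i : Fin 5) : GL (Fin 4) K where
  val := S b i
  inv := S b i ^ 2
  val_inv := by rw [← pow_succ', S_cube hb]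
  inv_val := by rw [← pow_succ, S_cube hb]

theorem Su_cube (i : Fin 5) : Su hb i ^ 3 = 1 := Units.ext (S_cube hb i)

theorem Su_sq (i j : Fin 5) (hij : i ≠ j) : (Su hb i * Su hb j) ^ 2 = -1 := Units.ext (S_sq hb hij)

end gens

/-! ### the Frobenius on the four-dimensional representation -/

section frob

variable {K : Type u} [Field K] {b : K} (hb : b * b + b + 2 = 0) (p : ℕ) [hp : Fact p.Prime] [CharP K p]
  {D : Type v} [Group D] (β : D →* GL (Fin 4) K) {g : Fin 5 → D} (hg : ∀ i, β (g i) = Su hb i)
  (hgen : Subgroup.closure (Set.range g) = ⊤)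

/-- the trace -/
def tU (β : D →* GL (Fin 4) K) (d : D) : K := (β d : Matrix (Fin 4) (Fin 4) K).trace

include hg hgen

theorem tU_frob_fix (hbp : b ^ p = b) (d : D) : tU β d ^ p = tU β d := by
  have key : ∀ d, ((β d : GL (Fin 4) K) : Matrix (Fin 4) (Fin 4) K).map (frobenius K p) = β d := by
    let Fr : GL (Fin 4) K →* GL (Fin 4) K := Units.map (RingHom.mapMatrix (frobenius K p)).toMonoidHom
    have h1 : Fr.comp β = β := by
      refine MonoidHom.eq_of_eqOn_dense hgen ?_
      rintro _ ⟨i, rfl⟩
      apply Units.ext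
      show ((β (g i) : GL (Fin 4) K) : Matrix (Fin 4) (Fin 4) K).map (frobenius K p) = β (g i)
      rw [hg]
      show (S b i).map (frobenius K p) = S b i
      unfold S
      rw [ev_map, frobenius_def, hbp]
    intro d
    exact congrArg Units.val (DFunLike.congr_fun h1 d)
  have h2 := congrArg Matrix.trace (key d)
  rw [← frobenius_def (R := K) (p := p)]
  unfold tU
  conv_rhs => rw [← h2]
  rw [Matrix.trace, Matrix.trace, map_sum]
  rfl

theorem tU_frob_inv (hbp : b ^ p = -1 - b) (d : D) : tU β d ^ p = tU β d⁻¹ := by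
  have key : ∀ d, (((β d : GL (Fin 4) K) : Matrix (Fin 4) (Fin 4) K).map (frobenius K p))ᵀ * ev b HZ * β d = ev b HZ := by
    intro d
    have hd : d ∈ Subgroup.closure (Set.range g) := by rw [hgen]; trivial
    induction hd using Subgroup.closure_induction with
    | mem x hx =>
      obtain ⟨i, rfl⟩ := hx
      rw [hg]
      show ((S b i).map (frobenius K p))ᵀ * ev b HZ * S b i = ev b HZ
      have h1 : (S b i).map (frobenius K p) = S (-1 - b) i := by
        unfold S
        rw [ev_map, frobenius_def, hbp]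
      rw [h1]
      exact S_herm hb i
    | one => rw [map_one, Units.val_one, Matrix.map_one _ (map_zero _) (map_one _), Matrix.transpose_one,
        Matrix.one_mul, Matrix.mul_one]
    | mul x y _ _ hx hy =>
      rw [map_mul, Units.val_mul, Matrix.map_mul, Matrix.transpose_mul]
      calc _ = (((β y : GL (Fin 4) K) : Matrix (Fin 4) (Fin 4) K).map (frobenius K p))ᵀ *
            ((((β x : GL (Fin 4) K) : Matrix (Fin 4) (Fin 4) K).map (frobenius K p))ᵀ * ev b HZ * β x) * β y := by
            simp only [Matrix.mul_assoc]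
        _ = _ := by rw [hx, hy]
    | inv x _ hx =>
      have h1 : (((β x⁻¹ : GL (Fin 4) K) : Matrix (Fin 4) (Fin 4) K).map (frobenius K p))ᵀ *
          (((β x : GL (Fin 4) K) : Matrix (Fin 4) (Fin 4) K).map (frobenius K p))ᵀ = 1 := by
        rw [← Matrix.transpose_mul, ← Matrix.map_mul, ← Units.val_mul, ← map_mul, mul_inv_cancel, map_one, Units.val_one,
          Matrix.map_one _ (map_zero _) (map_one _), Matrix.transpose_one]
      have h2 : ((β x : GL (Fin 4) K) : Matrix (Fin 4) (Fin 4) K) * (β x⁻¹ : GL (Fin 4) K) = 1 := by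
        rw [← Units.val_mul, ← map_mul, mul_inv_cancel, map_one, Units.val_one]
      calc _ = (((β x⁻¹ : GL (Fin 4) K) : Matrix (Fin 4) (Fin 4) K).map (frobenius K p))ᵀ *
            ((((β x : GL (Fin 4) K) : Matrix (Fin 4) (Fin 4) K).map (frobenius K p))ᵀ * ev b HZ * β x) *
              (β x⁻¹ : GL (Fin 4) K) := by rw [hx]
        _ = ((((β x⁻¹ : GL (Fin 4) K) : Matrix (Fin 4) (Fin 4) K).map (frobenius K p))ᵀ *
          (((β x : GL (Fin 4) K) : Matrix (Fin 4) (Fin 4) K).map (frobenius K p))ᵀ) * ev b HZ *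
            (((β x : GL (Fin 4) K) : Matrix (Fin 4) (Fin 4) K) * (β x⁻¹ : GL (Fin 4) K)) := by
            simp only [Matrix.mul_assoc]
        _ = _ := by rw [h1, h2, Matrix.one_mul, Matrix.mul_one]
  have h3 : ((β d : GL (Fin 4) K) : Matrix (Fin 4) (Fin 4) K) * (β d⁻¹ : GL (Fin 4) K) = 1 := by
    rw [← Units.val_mul, ← map_mul, mul_inv_cancel, map_one, Units.val_one]
  have h4 : (((β d : GL (Fin 4) K) : Matrix (Fin 4) (Fin 4) K).map (frobenius K p))ᵀ =
      ev b HZ * (β d⁻¹ : GL (Fin 4) K) * ev b HiZ := by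
    calc (((β d : GL (Fin 4) K) : Matrix (Fin 4) (Fin 4) K).map (frobenius K p))ᵀ
        = (((β d : GL (Fin 4) K) : Matrix (Fin 4) (Fin 4) K).map (frobenius K p))ᵀ * ev b HZ *
            (((β d : GL (Fin 4) K) : Matrix (Fin 4) (Fin 4) K) * (β d⁻¹ : GL (Fin 4) K)) * ev b HiZ := by
          rw [h3, Matrix.mul_one, Matrix.mul_assoc, H_inv hb, Matrix.mul_one]
      _ = ((((β d : GL (Fin 4) K) : Matrix (Fin 4) (Fin 4) K).map (frobenius K p))ᵀ * ev b HZ * β d) *
          (β d⁻¹ : GL (Fin 4) K) * ev b HiZ := by simp only [Matrix.mul_assoc]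
      _ = _ := by rw [key d]
  have h5 := congrArg Matrix.trace h4
  rw [Matrix.trace_transpose, Matrix.mul_assoc, Matrix.trace_mul_comm, Matrix.mul_assoc, H_inv' hb, Matrix.mul_one] at h5
  unfold tU
  rw [← h5, ← frobenius_def (R := K) (p := p), Matrix.trace, Matrix.trace, map_sum]
  rfl

end frob

/-! ### cores with few scalars -/

section core

variable {ι : Type} [Fintype ι] [DecidableEq ι] {F : Type u} [Field F] {P : Subgroup (GL ι F)}

/-- the matrix of an element of `P` over the extension -/
def mK (K : Type u) [Field K] [Algebra F K] (P : Subgroup (GL ι F)) : P →* Matrix ι ι K where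
  toFun g := ((g : GL ι F) : Matrix ι ι F).map (algebraMap F K)
  map_one' := by
    rw [Subgroup.coe_one, Units.val_one, Matrix.map_one _ (map_zero _) (map_one _)]
  map_mul' a b := by rw [Subgroup.coe_mul, Units.val_mul, Matrix.map_mul]

theorem trace_mK (K : Type u) [Field K] [Algebra F K] (g : P) : (mK K P g).trace = algebraMap F K (tr (g : GL ι F)) := by
  unfold tr
  show (((g : GL ι F) : Matrix ι ι F).map (algebraMap F K)).trace = _
  rw [Matrix.trace, Matrix.trace, map_sum]
  rfl

/-- an absolutely irreducible group spans over the extension -/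
theorem span_mK (K : Type u) [Field K] [Algebra F K] (h : ActsAbsolutelyIrreducibly (matrixSet P)) :
    Submodule.span K (Set.range (mK K P)) = ⊤ := by
  have h1 := H906.span_subtype h
  rw [eq_top_iff]
  have h2 : ∀ A : Matrix ι ι F, A.map (algebraMap F K) ∈ Submodule.span K (Set.range (mK K P)) := by
    intro A
    have hA : A ∈ Submodule.span F (Set.range ((Units.coeHom (Matrix ι ι F)).comp P.subtype)) := by rw [h1]; trivial
    induction hA using Submodule.span_induction with
    | mem x hx =>
      obtain ⟨g, rfl⟩ := hx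
      exact Submodule.subset_span ⟨g, rfl⟩
    | zero =>
      rw [Matrix.map_zero _ (map_zero _)]
      exact Submodule.zero_mem _
    | add x y _ _ hx hy =>
      rw [Matrix.map_add _ (map_add _)]
      exact Submodule.add_mem _ hx hy
    | smul c x _ hx =>
      have : (c • x).map (algebraMap F K) = (algebraMap F K c) • x.map (algebraMap F K) := by
        ext i j
        simp
      rw [this]
      exact Submodule.smul_mem _ _ hx
  intro M _
  rw [Matrix.matrix_eq_sum_single M]
  refine Submodule.sum_mem _ fun i _ => Submodule.sum_mem _ fun j _ => ?_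
  have h3 : Matrix.single i j (M i j) = M i j • (Matrix.single i j (1 : F)).map (algebraMap F K) := by
    ext k l
    simp [Matrix.single_apply]
  rw [h3]
  exact Submodule.smul_mem _ _ (h2 _)

theorem irreducible_mK [Nonempty ι] (K : Type u) [Field K] [Algebra F K] (h : ActsAbsolutelyIrreducibly (matrixSet P))
    {D : Type v} [Group D] (α : D →* P) (hα : Function.Surjective α) : (rep ((mK K P).comp α)).IsIrreducible := by
  refine irreducible_of _ fun X hX => ?_
  have h1 : ∀ M : Matrix ι ι K, ∀ v ∈ X, M *ᵥ v ∈ X := by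
    intro M v hv
    have hM : M ∈ Submodule.span K (Set.range (mK K P)) := by rw [span_mK K h]; trivial
    induction hM using Submodule.span_induction with
    | mem x hx =>
      obtain ⟨g, rfl⟩ := hx
      obtain ⟨d, rfl⟩ := hα g
      exact hX d v hv
    | zero =>
      rw [Matrix.zero_mulVec]
      exact X.zero_mem
    | add x y _ _ hx hy =>
      rw [Matrix.add_mulVec]
      exact X.add_mem hx hy
    | smul c x _ hx =>
      rw [Matrix.smul_mulVec]
      exact X.smul_mem _ hx
  by_cases hb : X = ⊥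
  · exact Or.inl hb
  · right
    obtain ⟨v, hv, hv0⟩ := Submodule.exists_mem_ne_zero_of_ne_bot hb
    obtain ⟨j, hj⟩ : ∃ j, v j ≠ 0 := by
      by_contra hcon
      push Not at hcon
      exact hv0 (funext hcon)
    rw [eq_top_iff]
    intro w _
    have h2 := h1 (Matrix.vecMulVec w (Pi.single j (v j)⁻¹)) v hv
    rw [Matrix.vecMulVec_mulVec, single_dotProduct, inv_mul_cancel₀ hj] at h2
    simpa using h2

/-- the conclusion -/
structure Concl (P : Subgroup (GL ι F)) (p : ℕ) (e : Soc P ≃* alternatingGroup (Fin 7)) (K : Type u) [Field K] [Algebra F K]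
    (b : K) (D : Type u) [Group D] (α : D →* P) (β : D →* GL (Fin 4) K) (g : Fin 5 → D) (z : D) : Prop where
  hb : b * b + b + 2 = 0
  good : Good ((e.toMonoidHom.comp (toSoc P)).comp α) g z
  surj : Function.Surjective α
  gS : ∀ i, (β (g i) : Matrix (Fin 4) (Fin 4) K) = S b i
  zm : β z = -1
  h7 : (7 : K) ≠ 0
  cases : (Fintype.card ι = 4 ∧ ((∀ d, algebraMap F K (tr (α d : GL ι F)) = tU β d) ∨
      ∀ d, algebraMap F K (tr (α d : GL ι F)) = tU β d⁻¹)) ∨
    (Fintype.card ι = 10 ∧ ((2 : K) ≠ 0 ∧ α z = 1) ∧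
      ((∀ d, algebraMap F K (tr (α d : GL ι F)) = tau (sym ((Units.coeHom _).comp β)) d) ∨
      ∀ d, algebraMap F K (tr (α d : GL ι F)) = tau (sym ((Units.coeHom _).comp β)) d⁻¹))

/-- In degree ten the scalars are trivial. -/
theorem Concl.scalars_eq {p : ℕ} {e : Soc P ≃* alternatingGroup (Fin 7)} {K : Type u} [Field K] [Algebra F K]
    {b : K} {D : Type u} [Group D] {α : D →* P} {β : D →* GL (Fin 4) K} {g : Fin 5 → D} {z : D}
    (H : Concl P p e K b D α β g z) (h10 : Fintype.card ι = 10) : (scalars ι F).subgroupOf P = ⊥ := by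
  have hz : α z = 1 := by
    rcases H.cases with ⟨h, -⟩ | ⟨-, ⟨-, h⟩, -⟩
    · omega
    · exact h
  rw [Subgroup.eq_bot_iff_forall]
  intro a ha
  obtain ⟨d, rfl⟩ := H.surj a
  have h1 : ((e.toMonoidHom.comp (toSoc P)).comp α) d = 1 := by
    have h2 : α d ∈ (e.toMonoidHom.comp (toSoc P)).ker := by
      rw [ker_comp e]
      exact ha
    exact h2
  rcases H.good.ker d h1 with h | h
  · rw [h, map_one]
  · rw [h, hz]

variable [Finite F] (p : ℕ) [hp : Fact p.Prime] [CharP F p]

/-- symmetric matrices are given by the entries above the diagonal -/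
def symEquiv (K : Type u) [Field K] (m : ℕ) : Sym (Fin m) K ≃ₗ[K] ({q : Fin m × Fin m // q.1 ≤ q.2} → K) where
  toFun M q := (M : Matrix (Fin m) (Fin m) K) q.1.1 q.1.2
  map_add' M N := rfl
  map_smul' c M := rfl
  invFun v := ⟨Matrix.of fun i j => v ⟨(min i j, max i j), min_le_max⟩, by
    show (Matrix.of fun i j => v ⟨(min i j, max i j), min_le_max⟩)ᵀ = _
    ext i j
    simp only [Matrix.transpose_apply, Matrix.of_apply]
    congr 2
    rw [min_comm, max_comm]⟩
  left_inv M := by
    apply Subtype.ext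
    ext i j
    show (M : Matrix (Fin m) (Fin m) K) (min i j) (max i j) = (M : Matrix (Fin m) (Fin m) K) i j
    rcases le_total i j with h | h
    · rw [min_eq_left h, max_eq_right h]
    · rw [min_eq_right h, max_eq_left h]
      exact congrFun (congrFun M.2 i) j
  right_inv v := by
    funext ⟨⟨i, j⟩, h⟩
    show v ⟨(min i j, max i j), min_le_max⟩ = v ⟨(i, j), h⟩
    congr 2
    exact Prod.ext (min_eq_left h) (max_eq_right h)

theorem finrank_sym (K : Type u) [Field K] : finrank K (Sym (Fin 4) K) = 10 := by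
  rw [(symEquiv K 4).finrank_eq, Module.finrank_fintype_fun_eq_card]
  decide

/-- **The main theorem.** -/
theorem main (hC : Core P) (e : Soc P ≃* alternatingGroup (Fin 7))
    (hZ : ∀ g ∈ P, g ∈ scalars ι F → g * g = 1) :
    SD P ∨ ∃ (b : AlgebraicClosure F) (D : Type u) (_ : Group D) (α : D →* P) (β : D →* GL (Fin 4) (AlgebraicClosure F))
      (g : Fin 5 → D) (z : D), Concl P p e (AlgebraicClosure F) b D α β g z := by
  classical
  set K := AlgebraicClosure F with hK
  have hι : Nonempty ι := hC.nonempty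
  have hKp : CharP K p := charP_of_injective_algebraMap (algebraMap F K).injective p
  obtain ⟨b, hb⟩ := exists_b (K := K)
  let π : P →* alternatingGroup (Fin 7) := e.toMonoidHom.comp (toSoc P)
  have hπ : Function.Surjective π := e.surjective.comp (toSoc_surjective P)
  have hker : π.ker = (scalars ι F).subgroupOf P := ker_comp e
  have hk : ∀ k, π k = 1 → (∀ g, k * g = g * k) ∧ k * k = 1 := by
    intro k hk
    have h1 : k ∈ (scalars ι F).subgroupOf P := by rw [← hker]; exact hk
    exact ⟨fun g => (Subgroup.mem_center_iff.1 (scalars_le_center h1) g).symm, Subtype.ext (hZ k k.2 h1)⟩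
  obtain ⟨D, g, z, H, hs, hgS, hzm⟩ := exists_good π hπ hk hC.commutator_top (S := Su hb) (m := -1) (Su_cube hb)
    (Su_sq hb) (by rw [neg_mul_neg, one_mul]) (fun q => by rw [neg_one_mul, mul_neg_one])
  let α : D →* P := (MonoidHom.fst _ _).comp D.subtype
  let β : D →* GL (Fin 4) K := (MonoidHom.snd _ _).comp D.subtype
  have hα : Function.Surjective α := hs
  have H' : Good (π.comp α) g z := H
  have hfin := H'.fin
  have hβg : ∀ i, β (g i) = Su hb i := hgS
  have hβz : β z = -1 := hzm
  -- the representations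
  let βm : D →* Matrix (Fin 4) (Fin 4) K := (Units.coeHom _).comp β
  have hgm : ∀ i, βm (g i) = S b i := fun i => congrArg Units.val (hβg i)
  have hρ := irreducible_mK K hC.absIrred α hα
  set ρ := rep ((mK K P).comp α) with hρdef
  have hτ : ∀ d, tau ρ d = algebraMap F K (tr (α d : GL ι F)) := fun d => by
    rw [hρdef, tau_rep]
    exact trace_mK K (α d)
  -- the element of order seven
  have hy : βm (g 0 * g 1 * g 2 * g 3 * g 4) = X b := by
    have h1 := rho_gx βm g hgm
    rw [← h1]
    congr 1
    unfold gx gw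
    simp only [List.map_cons, List.map_nil, List.prod_cons, List.prod_nil, mul_one, mul_assoc]
  obtain ⟨x, hx, hx7, hβx⟩ := H'.exists_x β (by
    apply Units.ext
    rw [Units.val_pow_eq_pow_val, Units.val_one]
    show (βm (g 0 * g 1 * g 2 * g 3 * g 4)) ^ 7 = 1
    rw [hy, X_seven hb])
  have hXx : βm x = X b := by
    rw [← hy]
    exact congrArg Units.val hβx
  have hxi : x⁻¹ = x ^ 6 := by
    rw [inv_eq_iff_mul_eq_one, ← pow_succ', hx7]
  by_cases h7 : (7 : K) = 0
  · -- characteristic seven
    left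
    have hp7 : p = 7 := by
      have h1 : ((7 : ℕ) : K) = 0 := by exact_mod_cast h7
      rw [CharP.cast_eq_zero_iff K p] at h1
      exact (Nat.prime_dvd_prime_iff_eq hp.out (by norm_num)).1 h1
    refine SD.of_reg p fun a ha hord => ?_
    obtain ⟨d, hd⟩ := hα ⟨a, ha⟩
    by_cases hct : ((π.comp α) d : Equiv.Perm (Fin 7)).cycleType = {7}
    · exfalso
      apply hord
      have h1 := orderOf_seven hct
      rw [hp7, ← h1]
      have h2 : orderOf ((π.comp α) d) ∣ orderOf (α d) := orderOf_map_dvd π (α d)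
      have h3 : orderOf (⟨a, ha⟩ : P) = orderOf a := Subgroup.orderOf_mk a ha
      rw [hd, h3] at h2
      exact h2
    · obtain ⟨y, hy'⟩ := H'.real hct
      have h1 : (α d)⁻¹ = α y * α d * (α y)⁻¹ := by
        rw [← map_inv, ← map_inv, ← map_mul, ← map_mul, hy']
      have h2 : tr ((α d)⁻¹ : P).1 = tr (α d).1 := by
        rw [h1]
        exact tr_conj _ _
      rw [hd] at h2
      exact h2
  · by_cases hSD : SD P
    · exact Or.inl hSD
    · right
      have hne : ∃ d, tau ρ d⁻¹ ≠ tau ρ d := by
        unfold SD at hSD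
        push Not at hSD
        obtain ⟨a, ha, hne⟩ := hSD
        obtain ⟨d, hd⟩ := hα ⟨a, ha⟩
        refine ⟨d, ?_⟩
        rw [hτ, hτ, map_inv, hd]
        intro h
        exact hne ((algebraMap F K).injective h)
      -- the scalar
      have hz1 : α z ∈ (scalars ι F).subgroupOf P := by
        rw [← hker]
        exact H'.pi_z
      obtain ⟨c, hc⟩ := (mem_scalars_iff _).1 (Subgroup.mem_subgroupOf.1 hz1)
      have hzz : ∀ d, tr (α (z * d) : GL ι F) = (c : F) * tr (α d : GL ι F) := by
        intro d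
        refine tr_smul ?_
        rw [map_mul, Subgroup.coe_mul, Units.val_mul, hc, Matrix.smul_mul, Matrix.one_mul]
      have hcc : (c : F) * c = 1 := by
        have h1 : ((α z * α z : P) : GL ι F) = 1 := by
          rw [← map_mul, H'.zz, map_one, Subgroup.coe_one]
        have h2 := congrArg (fun u : GL ι F => (u : Matrix ι ι F) (Classical.arbitrary ι) (Classical.arbitrary ι)) h1
        simp only [Subgroup.coe_mul, Units.val_mul, hc, Units.val_one, Matrix.mul_smul,
          Matrix.smul_apply, Matrix.one_apply_eq, smul_eq_mul, mul_one] at h2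
        exact h2
      have hc1 : (c : F) = 1 ∨ (c : F) = -1 := mul_self_eq_one_iff.1 hcc
      have h12 : 1 + 2 * b ≠ 0 := one_add_ne hb h7
      by_cases hcm : (c : F) = -1
      · -- the four-dimensional representation
        have hσ : (rep βm).IsIrreducible := four_irreducible hb βm g hgm h7
        have hτ' : ∀ d, tau (rep βm) d = tU β d := fun d => tau_rep βm d
        have e1 : tau (rep βm) x = 1 + b := by
          rw [tau_rep, hXx, trace_X hb]
        have e2 : tau (rep βm) x⁻¹ = - b := by
          rw [tau_rep, hxi, map_pow, hXx, trace_X6 hb]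
        have key := H'.class_eq hx (τ := tau ρ) (τ' := tau (rep βm)) (fun d c => tau_conj _ _ _)
          (fun d c => tau_conj _ _ _) (ε := -1) (fun d => by
            rw [hτ, hτ, hzz, hcm, map_mul, map_neg, map_one]) (fun d => by
            rw [tau_rep, tau_rep, map_mul]
            show ((β z : GL (Fin 4) K) * βm d : Matrix (Fin 4) (Fin 4) K).trace = _
            rw [hβz, Units.val_neg, Units.val_one, Matrix.neg_mul, Matrix.one_mul, Matrix.trace_neg, neg_one_mul])
        rw [e1, e2] at key
        have hpair := pair hρ hσ (c := 1 + b - -b) (d := tau ρ x - tau ρ x⁻¹) (by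
          intro h0
          apply h12
          linear_combination h0) (fun d => key d) hne
        rw [Module.finrank_fintype_fun_eq_card, Module.finrank_fintype_fun_eq_card, Fintype.card_fin] at hpair
        refine ⟨b, D, inferInstance, α, β, g, z, hb, H', hα, fun i => hgm i, hβz, h7, Or.inl ⟨hpair.1, ?_⟩⟩
        rcases hpair.2 with h | h
        · left
          intro d
          rw [← hτ, ← hτ', h]
        · right
          intro d
          rw [← hτ, ← hτ', h]
      · -- the symmetric square
        have hc1' : (c : F) = 1 := hc1.resolve_right hcm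
        have h2 : (2 : K) ≠ 0 := by
          intro h0
          apply hcm
          rw [hc1']
          apply (algebraMap F K).injective
          rw [map_neg, map_one]
          linear_combination h0
        have hσ : (sym βm).IsIrreducible := sym_irreducible hb βm g hgm h2
        have hτs : ∀ d, 2 * tau (sym βm) d = (βm d).trace ^ 2 + (βm d * βm d).trace := fun d => tau_sym βm h2 d
        have e1 : 2 * tau (sym βm) x = (1 + b) ^ 2 + (1 + b) := by
          rw [hτs, hXx, trace_X hb, ← pow_two, trace_X2 hb]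
        have e2 : 2 * tau (sym βm) x⁻¹ = (-b) ^ 2 + -b := by
          rw [hτs, hxi, map_pow, hXx, trace_X6 hb, ← pow_add]
          have : (X b : Matrix (Fin 4) (Fin 4) K) ^ (6 + 6) = X b ^ 5 := by
            rw [show 6 + 6 = 7 + 5 from rfl, pow_add, X_seven hb, Matrix.one_mul]
          rw [this, trace_X5 hb]
        have key := H'.class_eq hx (τ := tau ρ) (τ' := tau (sym βm)) (fun d c => tau_conj _ _ _)
          (fun d c => tau_conj _ _ _) (ε := 1) (fun d => by
            rw [hτ, hτ, hzz, hc1', one_mul, one_mul]) (fun d => by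
            have h3 : βm (z * d) = - βm d := by
              rw [map_mul]
              show ((β z : GL (Fin 4) K) * βm d : Matrix (Fin 4) (Fin 4) K) = _
              rw [hβz]
              simp
            have h4 : 2 * tau (sym βm) (z * d) = 2 * tau (sym βm) d := by
              rw [hτs, hτs, h3, Matrix.trace_neg, neg_sq, neg_mul_neg]
            rw [one_mul]
            exact mul_left_cancel₀ h2 h4)
        have e3 : tau (sym βm) x - tau (sym βm) x⁻¹ = 1 + 2 * b := by
          apply mul_left_cancel₀ h2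
          rw [mul_sub, e1, e2]
          ring
        rw [e3] at key
        have hpair := pair hρ hσ (c := 1 + 2 * b) (d := tau ρ x - tau ρ x⁻¹) h12 (fun d => key d) hne
        rw [Module.finrank_fintype_fun_eq_card, finrank_sym] at hpair
        have hz0 : α z = 1 := by
          apply Subtype.ext
          apply Units.ext
          rw [hc, hc1', one_smul]
          rfl
        refine ⟨b, D, inferInstance, α, β, g, z, hb, H', hα, fun i => hgm i, hβz, h7, Or.inr ⟨hpair.1, ⟨h2, hz0⟩, ?_⟩⟩
        rcases hpair.2 with h | h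
        · left
          intro d
          rw [← hτ, h]
        · right
          intro d
          rw [← hτ, h]

/-- **`A₇` and `2.A₇`.** A core whose scalars have order at most two. -/
theorem le_two (hC : Core P) (e : Soc P ≃* alternatingGroup (Fin 7))
    (hZ : ∀ g ∈ P, g ∈ scalars ι F → g * g = 1) :
    SD P ∨ ((Fintype.card ι = 4 ∨ (Fintype.card ι = 10 ∧ p ≠ 2)) ∧ p ≠ 7 ∧
      (((p % 7 = 1 ∨ p % 7 = 2 ∨ p % 7 = 4) ∧ Fr P p) ∨ ((p % 7 = 3 ∨ p % 7 = 5 ∨ p % 7 = 6) ∧ Cj P p))) := by
  rcases main p hC e hZ with h | ⟨b, D, _, α, β, g, z, H⟩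
  · exact Or.inl h
  · right
    have hKp : CharP (AlgebraicClosure F) p :=
      charP_of_injective_algebraMap (algebraMap F (AlgebraicClosure F)).injective p
    have hβg : ∀ i, β (g i) = Su H.hb i := fun i => Units.ext (H.gS i)
    have hp7 : p ≠ 7 := by
      intro h0
      apply H.h7
      have h1 := CharP.cast_eq_zero (AlgebraicClosure F) p
      rw [h0] at h1
      exact_mod_cast h1
    have inj := (algebraMap F (AlgebraicClosure F)).injective
    -- the trace of the symmetric square
    have hsy : (2 : AlgebraicClosure F) ≠ 0 → ∀ d, 2 * tau (sym ((Units.coeHom _).comp β)) d = tU β d ^ 2 + tU β (d * d) := by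
      intro h2 d
      rw [tau_sym _ h2]
      unfold tU
      rw [map_mul β, Units.val_mul]
      rfl
    have hp2 : (2 : AlgebraicClosure F) ≠ 0 → p ≠ 2 := by
      intro h2 h0
      apply h2
      have h1 := CharP.cast_eq_zero (AlgebraicClosure F) p
      rw [h0] at h1
      exact_mod_cast h1
    refine ⟨?_, hp7, ?_⟩
    · rcases H.cases with ⟨h, -⟩ | ⟨h, ⟨h2, -⟩, -⟩
      · exact Or.inl h
      · exact Or.inr ⟨h, hp2 h2⟩
    rcases frob_b H.hb H.h7 p with ⟨hm, hbp⟩ | ⟨hm, hbp⟩
    · left
      refine ⟨hm, fun a ha => ?_⟩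
      have hU := tU_frob_fix (b := b) p β (g := g) (hb := H.hb) hβg H.good.gen hbp
      have hS : (2 : AlgebraicClosure F) ≠ 0 → ∀ d, tau (sym ((Units.coeHom _).comp β)) d ^ p =
          tau (sym ((Units.coeHom _).comp β)) d := by
        intro h2 d
        apply mul_left_cancel₀ h2
        have h3 : (2 : AlgebraicClosure F) ^ p = 2 := by
          have := map_ofNat (frobenius (AlgebraicClosure F) p) 2
          rwa [frobenius_def] at this
        conv_lhs => rw [← h3]
        rw [← mul_pow, hsy h2, add_pow_char, ← pow_mul, mul_comm 2 p, pow_mul, hU, hU]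
      obtain ⟨d, hd⟩ := H.surj ⟨a, ha⟩
      have key : ∀ d, tr (α d : GL ι F) ^ p = tr (α d : GL ι F) := by
        intro d
        apply inj
        rw [map_pow]
        rcases H.cases with ⟨-, h | h⟩ | ⟨-, ⟨h2, -⟩, h | h⟩
        · rw [h, hU]
        · rw [h, hU]
        · rw [h, hS h2]
        · rw [h, hS h2]
      have h1 := key d
      rw [hd] at h1
      exact h1
    · right
      refine ⟨hm, fun a ha => ?_⟩
      have hU := tU_frob_inv (b := b) H.hb p β (g := g) hβg H.good.gen hbp
      have hS : (2 : AlgebraicClosure F) ≠ 0 → ∀ d, tau (sym ((Units.coeHom _).comp β)) d ^ p =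
          tau (sym ((Units.coeHom _).comp β)) d⁻¹ := by
        intro h2 d
        apply mul_left_cancel₀ h2
        have h3 : (2 : AlgebraicClosure F) ^ p = 2 := by
          have := map_ofNat (frobenius (AlgebraicClosure F) p) 2
          rwa [frobenius_def] at this
        conv_lhs => rw [← h3]
        rw [← mul_pow, hsy h2, hsy h2, add_pow_char, ← pow_mul, mul_comm 2 p, pow_mul, hU, hU, _root_.mul_inv_rev]
      obtain ⟨d, hd⟩ := H.surj ⟨a, ha⟩
      have key : ∀ d, tr (α d : GL ι F) ^ p = tr (α d⁻¹ : GL ι F) := by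
        intro d
        apply inj
        rw [map_pow]
        rcases H.cases with ⟨-, h | h⟩ | ⟨-, ⟨h2, -⟩, h | h⟩
        · rw [h, h, hU]
        · rw [h, h, hU]
        · rw [h, h, hS h2]
        · rw [h, h, hS h2]
      have h1 := key d
      rw [map_inv, hd] at h1
      exact h1

include p hp in
/-- **In degree ten the scalars are trivial.** -/
theorem ten_scalars (hC : Core P) (e : Soc P ≃* alternatingGroup (Fin 7))
    (hZ : ∀ g ∈ P, g ∈ scalars ι F → g * g = 1) (h10 : Fintype.card ι = 10) :
    SD P ∨ (scalars ι F).subgroupOf P = ⊥ := by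
  rcases main p hC e hZ with h | ⟨b, D, _, α, β, g, z, H⟩
  · exact Or.inl h
  · exact Or.inr (H.scalars_eq h10)

/-- **`A₇` in degrees prime to three.** -/
theorem coprime_three (hC : Core P) (e : Soc P ≃* alternatingGroup (Fin 7)) (h3 : ¬ 3 ∣ Fintype.card ι) :
    SD P ∨ ((Fintype.card ι = 4 ∨ (Fintype.card ι = 10 ∧ p ≠ 2)) ∧ p ≠ 7 ∧
      (((p % 7 = 1 ∨ p % 7 = 2 ∨ p % 7 = 4) ∧ Fr P p) ∨ ((p % 7 = 3 ∨ p % 7 = 5 ∨ p % 7 = 6) ∧ Cj P p))) := by
  refine le_two p hC e fun g hg hs => ?_
  have h1 := hC.card_scalars_dvd e (S2116.result 7 (Or.inr rfl))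
  rw [show Nat.card (Multiplicative (ZMod 6)) = 6 from Nat.card_zmod 6] at h1
  have hz : (⟨g, hg⟩ : P) ∈ (scalars ι F).subgroupOf P := hs
  have h2 : (⟨g, hg⟩ : P) ^ 6 = 1 := by
    have h4 : (⟨⟨g, hg⟩, hz⟩ : (scalars ι F).subgroupOf P) ^ Nat.card ((scalars ι F).subgroupOf P) = 1 := pow_card_eq_one'
    have h5 : (⟨g, hg⟩ : P) ^ Nat.card ((scalars ι F).subgroupOf P) = 1 := congrArg Subtype.val h4
    obtain ⟨m, hm⟩ := h1
    rw [hm, pow_mul, h5, one_pow]
  have h4 := hC.pow_card hz
  have h5 : orderOf (⟨g, hg⟩ : P) ∣ 2 := by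
    have h6 := Nat.dvd_gcd (orderOf_dvd_of_pow_eq_one h2) (orderOf_dvd_of_pow_eq_one h4)
    refine h6.trans ?_
    have h7 : (Nat.gcd 6 (Fintype.card ι)).Coprime 3 := by
      refine Nat.Coprime.coprime_dvd_left (Nat.gcd_dvd_right _ _) ?_
      rw [Nat.coprime_comm, Nat.Prime.coprime_iff_not_dvd (by norm_num)]
      exact h3
    have h8 : Nat.gcd 6 (Fintype.card ι) ∣ 2 * 3 := Nat.gcd_dvd_left _ _
    exact h7.dvd_of_dvd_mul_right h8
  have h6 := orderOf_dvd_iff_pow_eq_one.1 h5
  rw [pow_two] at h6
  exact congrArg Subtype.val h6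

end core

end Cfsg.Agent.H637.A7Main
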