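import Cfsg.Agent.H637.GLPart
import Cfsg.Agent.ClassicalGeometry.OmegaIndex
import Cfsg.Agent.ClassicalGeometry.Discriminant

/-!
# Orthogonal groups in odd characteristic: change of coordinates, diagonal forms, blocks

* `isoConj`: the isometry groups of two equivalent forms are isomorphic.
* `DQ c`: the diagonal form; `chi c`: determinant and spinor sign on its isometry group.
* `oblk`, `oexch`: block diagonal isometries, exchange of two blocks.
* `exists_diag`: a nondegenerate form is equivalent to `DQ c` if the discriminants agree.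
-/

set_option autoImplicit false

namespace Cfsg.Agent.H637

open Matrix Subgroup QuadraticMap
open Cfsg.Agent.ClassicalGeometry.Reflection Cfsg.Agent.ClassicalGeometry.SpinorSign
open Cfsg.Agent.ClassicalGeometry.OmegaIndex Cfsg.Agent.ClassicalGeometry.Universal
open Cfsg.Agent.ClassicalGeometry.CartanDieudonne
open scoped commutatorElement

section Conj

variable {ι κ : Type} [Fintype ι] [DecidableEq ι] [Fintype κ] [DecidableEq κ] {F : Type*} [Field F]

/-- Change of coordinates for matrices. -/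
noncomputable def matConj (e : (κ → F) ≃ₗ[F] (ι → F)) : Matrix ι ι F ≃* Matrix κ κ F where
  toFun M := LinearMap.toMatrix' (e.symm.toLinearMap ∘ₗ Matrix.toLin' M ∘ₗ e.toLinearMap)
  invFun M := LinearMap.toMatrix' (e.toLinearMap ∘ₗ Matrix.toLin' M ∘ₗ e.symm.toLinearMap)
  left_inv M := by
    apply Matrix.toLin'.injective
    ext x
    simp
  right_inv M := by
    apply Matrix.toLin'.injective
    ext x
    simp
  map_mul' M N := by
    apply Matrix.toLin'.injective
    rw [Matrix.toLin'_toMatrix', Matrix.toLin'_mul, Matrix.toLin'_mul, Matrix.toLin'_toMatrix',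
      Matrix.toLin'_toMatrix']
    ext x
    simp

theorem matConj_mulVec (e : (κ → F) ≃ₗ[F] (ι → F)) (M : Matrix ι ι F) (x : κ → F) :
    matConj e M *ᵥ x = e.symm (M *ᵥ e x) := by
  have h : matConj e M =
      LinearMap.toMatrix' (e.symm.toLinearMap ∘ₗ Matrix.toLin' M ∘ₗ e.toLinearMap) := rfl
  rw [h, LinearMap.toMatrix'_mulVec]
  rfl

/-- Change of coordinates for invertible matrices. -/
noncomputable def glConj (e : (κ → F) ≃ₗ[F] (ι → F)) : GL ι F ≃* GL κ F :=
  Units.mapEquiv (matConj e)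

theorem glConj_mulVec (e : (κ → F) ≃ₗ[F] (ι → F)) (g : GL ι F) (x : κ → F) :
    (glConj e g : Matrix κ κ F) *ᵥ x = e.symm ((g : Matrix ι ι F) *ᵥ e x) :=
  matConj_mulVec e _ x

theorem map_isometryGroup_glConj (e : (κ → F) ≃ₗ[F] (ι → F)) (Q : (ι → F) → F) (Q' : (κ → F) → F)
    (h : ∀ x, Q' x = Q (e x)) :
    (Cfsg.isometryGroup F Q).map (glConj e).toMonoidHom = Cfsg.isometryGroup F Q' := by
  have key : ∀ g : GL ι F, g ∈ Cfsg.isometryGroup F Q ↔ glConj e g ∈ Cfsg.isometryGroup F Q' := by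
    intro g
    rw [mem_isometryGroup_iff, mem_isometryGroup_iff]
    constructor
    · intro hg v
      rw [glConj_mulVec, h, h, LinearEquiv.apply_symm_apply, hg]
    · intro hg x
      have h1 := hg (e.symm x)
      rw [glConj_mulVec, h, h, LinearEquiv.apply_symm_apply, LinearEquiv.apply_symm_apply] at h1
      exact h1
  ext g
  rw [Subgroup.mem_map]
  constructor
  · rintro ⟨x, hx, rfl⟩
    exact (key x).1 hx
  · intro hg
    refine ⟨(glConj e).symm g, ?_, ?_⟩
    · rw [key, MulEquiv.apply_symm_apply]; exact hg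
    · exact MulEquiv.apply_symm_apply _ _

/-- The isometry groups of equivalent forms are isomorphic. -/
noncomputable def isoConj (e : (κ → F) ≃ₗ[F] (ι → F)) (Q : (ι → F) → F) (Q' : (κ → F) → F)
    (h : ∀ x, Q' x = Q (e x)) : Cfsg.isometryGroup F Q ≃* Cfsg.isometryGroup F Q' :=
  ((glConj e).subgroupMap (Cfsg.isometryGroup F Q)).trans
    (MulEquiv.subgroupCongr (map_isometryGroup_glConj e Q Q' h))

end Conj

/-! ### Diagonal forms -/

section Diag

variable {ι κ : Type} [Fintype ι] [DecidableEq ι] [Fintype κ] [DecidableEq κ] {F : Type*} [Field F]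

/-- The diagonal form. -/
abbrev DQ (c : ι → F) : QuadraticForm F (ι → F) := QuadraticMap.weightedSumSquares F c

theorem DQ_apply (c : ι → F) (v : ι → F) : DQ c v = ∑ i, c i * (v i * v i) := by
  rw [DQ, QuadraticMap.weightedSumSquares_apply]
  rfl

theorem polar_DQ (c : ι → F) (u v : ι → F) :
    polar (⇑(DQ c)) u v = ∑ i, 2 * c i * (u i * v i) := by
  rw [polar, DQ_apply, DQ_apply, DQ_apply, ← Finset.sum_sub_distrib, ← Finset.sum_sub_distrib]
  apply Finset.sum_congr rfl
  intro i _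
  rw [Pi.add_apply]
  ring

theorem DQ_nondegenerate (h2 : (2 : F) ≠ 0) (c : ι → F) (hc : ∀ i, c i ≠ 0) :
    (polarBilin (DQ c)).Nondegenerate := by
  apply LieClassical.OmegaReindex.nondegenerate_of_left
  intro x hx
  funext i
  have h1 := hx (Pi.single i 1)
  rw [polar_DQ, Finset.sum_eq_single i] at h1
  · rw [Pi.single_eq_same, mul_one] at h1
    exact (mul_eq_zero.1 h1).resolve_left (mul_ne_zero h2 (hc i))
  · intro j _ hj
    rw [Pi.single_eq_of_ne hj]
    ring
  · intro h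
    exact absurd (Finset.mem_univ i) h

/-- **Diagonalisation**: a nondegenerate form whose Gram determinant is `∏ 2 c i` up to a square is
equivalent to `DQ c`. -/
theorem exists_diag [Finite F] (h2 : (2 : F) ≠ 0) (Q : QuadraticForm F (ι → F))
    (hQ : (polarBilin Q).Nondegenerate) (c : κ → F) (hcard : Fintype.card κ = Fintype.card ι)
    (hc : ∀ i, c i ≠ 0) (s : F)
    (hdet : (LinearMap.BilinForm.toMatrix (Pi.basisFun F ι) (polarBilin Q)).det =
      s ^ 2 * ∏ i, (2 * c i)) :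
    ∃ e : (κ → F) ≃ₗ[F] (ι → F), ∀ x, DQ c x = Q (e x) := by
  obtain ⟨v, hv⟩ := ClassicalGeometry.Discriminant.exists_basis_diag h2 (polarBilin Q)
    (LinearMap.BilinForm.isSymm_iff.2 (polarBilin_isSymm Q)) hQ (Pi.basisFun F ι) (fun i => 2 * c i)
    (by rw [hcard, Module.finrank_fintype_fun_eq_card]) (fun i => mul_ne_zero h2 (hc i)) s hdet
  refine ⟨v.equivFun.symm, ?_⟩
  intro x
  have h1 : ∀ y, Q y = (2 : F)⁻¹ * polarBilin Q y y := by
    intro y
    rw [polarBilin_apply_apply, polar_self']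
    field_simp
  rw [h1, Module.Basis.equivFun_symm_apply, DQ_apply]
  simp only [map_sum, LinearMap.sum_apply, map_smul, LinearMap.smul_apply, smul_eq_mul, hv]
  rw [Finset.mul_sum]
  apply Finset.sum_congr rfl
  intro i _
  rw [Finset.sum_eq_single i]
  · rw [if_pos rfl]
    field_simp
  · intro j _ hj
    rw [if_neg hj]
    ring
  · intro h
    exact absurd (Finset.mem_univ i) h

variable [Finite F]

/-- Determinant and spinor sign on the isometry group of `DQ c`. -/
noncomputable def chi (c : ι → F) : Cfsg.isometryGroup F (⇑(DQ c)) →* Fˣ × ℤˣ :=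
  detSpinor (⇑(DQ c)) 1

theorem ker_chi (h2 : (2 : F) ≠ 0) (c : ι → F) (hc : ∀ i, c i ≠ 0) (hn : 2 ≤ Fintype.card ι) :
    (chi c).ker = commutator (Cfsg.isometryGroup F (⇑(DQ c))) := by
  ext g
  have h := mem_Omega_iff h2 (DQ c) (DQ_nondegenerate h2 c hc) hn one_ne_zero g
  rw [MonoidHom.mem_ker, chi, detSpinor_eq_one_iff]
  exact h.symm

theorem chi_reflIso (h2 : (2 : F) ≠ 0) (c : ι → F) (v : ι → F) (hv : DQ c v ≠ 0)
    [Decidable (IsSquare (DQ c v))] :
    chi c (reflIso (DQ c) v hv) = (-1, if IsSquare (DQ c v) then -1 else 1) := by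
  classical
  have := detSpinor_reflIso h2 (DQ c) one_ne_zero v hv
  rw [chi, this]
  congr 1
  simp only [one_mul]

/-- The two values of `chi` on reflections. -/
def RR (F : Type*) [Field F] : Set (Fˣ × ℤˣ) := {(-1, -1), (-1, 1)}

theorem chi_reflIso_mem (h2 : (2 : F) ≠ 0) (c : ι → F) (v : ι → F) (hv : DQ c v ≠ 0) :
    chi c (reflIso (DQ c) v hv) ∈ RR F := by
  classical
  rw [chi_reflIso h2]
  by_cases h : IsSquare (DQ c v)
  · rw [if_pos h]; exact Or.inl rfl
  · rw [if_neg h]; exact Or.inr rfl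

theorem chi_mem_closure (h2 : (2 : F) ≠ 0) (c : ι → F) (hc : ∀ i, c i ≠ 0)
    (g : Cfsg.isometryGroup F (⇑(DQ c))) : chi c g ∈ closure (RR F) := by
  refine isometry_induction h2 (DQ c) (DQ_nondegenerate h2 c hc)
    (fun g => chi c g ∈ closure (RR F)) ?_ ?_ g
  · rw [map_one]; exact Subgroup.one_mem _
  · intro v hv g hg
    rw [map_mul]
    exact Subgroup.mul_mem _ (Subgroup.subset_closure (chi_reflIso_mem h2 c v hv)) hg

theorem exists_chi_eq (h2 : (2 : F) ≠ 0) (c : ι → F) (hc : ∀ i, c i ≠ 0)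
    (hn : 2 ≤ Fintype.card ι) : ∀ z ∈ RR F, ∃ a, a ^ 2 = 1 ∧ chi c a = z := by
  classical
  have hQ := DQ_nondegenerate h2 c hc
  obtain ⟨⟨v, hv⟩, w, hw0, hw⟩ := exists_isSquare_and_not h2 (DQ c) hQ hn
  rintro z (rfl | hz)
  · have hv0 : DQ c v ≠ 0 := by rw [hv]; exact one_ne_zero
    refine ⟨reflIso (DQ c) v hv0, by rw [pow_two, reflIso_mul_self], ?_⟩
    rw [chi_reflIso h2, if_pos (by rw [hv]; exact ⟨1, by ring⟩)]
  · rw [Set.mem_singleton_iff] at hz
    refine ⟨reflIso (DQ c) w hw0, by rw [pow_two, reflIso_mul_self], ?_⟩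
    rw [chi_reflIso h2, if_neg hw, hz]

/-! ### Blocks -/

omit [Finite F] in
theorem blk_mem (c : ι → F) (d : κ → F) (a : Cfsg.isometryGroup F (⇑(DQ c)))
    (b : Cfsg.isometryGroup F (⇑(DQ d))) :
    blk ι κ F ((a : GL ι F), (b : GL κ F)) ∈ Cfsg.isometryGroup F (⇑(DQ (Sum.elim c d))) := by
  rw [mem_isometryGroup_iff]
  intro x
  have ha := (mem_isometryGroup_iff _ _).1 a.2 (x ∘ Sum.inl)
  have hb := (mem_isometryGroup_iff _ _).1 b.2 (x ∘ Sum.inr)
  rw [coe_blk, Matrix.fromBlocks_mulVec]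
  rw [DQ_apply, Fintype.sum_sum_type, DQ_apply, Fintype.sum_sum_type]
  rw [DQ_apply, DQ_apply] at ha hb
  simp only [Sum.elim_inl, Sum.elim_inr, Matrix.zero_mulVec, add_zero, zero_add]
  rw [ha, hb]
  rfl

/-- Block diagonal isometries. -/
def oblk (c : ι → F) (d : κ → F) :
    Cfsg.isometryGroup F (⇑(DQ c)) × Cfsg.isometryGroup F (⇑(DQ d)) →*
      Cfsg.isometryGroup F (⇑(DQ (Sum.elim c d))) :=
  ((blk ι κ F).comp (MonoidHom.prodMap (Cfsg.isometryGroup F (⇑(DQ c))).subtype
    (Cfsg.isometryGroup F (⇑(DQ d))).subtype)).codRestrict _ (fun p => blk_mem c d p.1 p.2)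

omit [Finite F] in
theorem coe_oblk (c : ι → F) (d : κ → F)
    (p : Cfsg.isometryGroup F (⇑(DQ c)) × Cfsg.isometryGroup F (⇑(DQ d))) :
    (((oblk c d p : Cfsg.isometryGroup F (⇑(DQ (Sum.elim c d)))) : GL (ι ⊕ κ) F) :
      Matrix (ι ⊕ κ) (ι ⊕ κ) F) =
      Matrix.fromBlocks ((p.1 : GL ι F) : Matrix ι ι F) 0 0 ((p.2 : GL κ F) : Matrix κ κ F) := rfl

omit [Finite F] in
theorem oblk_injective (c : ι → F) (d : κ → F) : Function.Injective (oblk c d) := by
  intro p q h
  have h1 : blk ι κ F ((p.1 : GL ι F), (p.2 : GL κ F)) = blk ι κ F ((q.1 : GL ι F), (q.2 : GL κ F)) :=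
    congrArg Subtype.val h
  have h2 := blk_injective h1
  exact Prod.ext (Subtype.ext (congrArg Prod.fst h2)) (Subtype.ext (congrArg Prod.snd h2))

omit [Finite F] in
theorem DQ_elim_inl (c : ι → F) (d : κ → F) (v : ι → F) :
    DQ (Sum.elim c d) (Sum.elim v 0) = DQ c v := by
  rw [DQ_apply, DQ_apply, Fintype.sum_sum_type]
  simp

omit [Finite F] in
theorem DQ_elim_inr (c : ι → F) (d : κ → F) (v : κ → F) :
    DQ (Sum.elim c d) (Sum.elim 0 v) = DQ d v := by
  rw [DQ_apply, DQ_apply, Fintype.sum_sum_type]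
  simp

omit [Finite F] in
theorem oblk_refl_left (c : ι → F) (d : κ → F) (v : ι → F) (hv : DQ c v ≠ 0)
    (hv' : DQ (Sum.elim c d) (Sum.elim v 0) ≠ 0) :
    oblk c d (reflIso (DQ c) v hv, 1) = reflIso (DQ (Sum.elim c d)) (Sum.elim v 0) hv' := by
  apply isometryGroup_ext
  intro x
  rw [coe_oblk, coe_reflIso, coe_reflIso, reflectionMatrix_mulVec, Matrix.fromBlocks_mulVec,
    reflectionMatrix_mulVec, DQ_elim_inl, polar_DQ, polar_DQ, Fintype.sum_sum_type]
  funext k
  rcases k with k | k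
  · simp
  · simp

omit [Finite F] in
theorem oblk_refl_right (c : ι → F) (d : κ → F) (v : κ → F) (hv : DQ d v ≠ 0)
    (hv' : DQ (Sum.elim c d) (Sum.elim 0 v) ≠ 0) :
    oblk c d (1, reflIso (DQ d) v hv) = reflIso (DQ (Sum.elim c d)) (Sum.elim 0 v) hv' := by
  apply isometryGroup_ext
  intro x
  rw [coe_oblk, coe_reflIso, coe_reflIso, reflectionMatrix_mulVec, Matrix.fromBlocks_mulVec,
    reflectionMatrix_mulVec, DQ_elim_inr, polar_DQ, polar_DQ, Fintype.sum_sum_type]
  funext k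
  rcases k with k | k
  · simp
  · simp

theorem chi_oblk_left (h2 : (2 : F) ≠ 0) (c : ι → F) (d : κ → F) (hc : ∀ i, c i ≠ 0)
    (a : Cfsg.isometryGroup F (⇑(DQ c))) : chi (Sum.elim c d) (oblk c d (a, 1)) = chi c a := by
  classical
  refine isometry_induction h2 (DQ c) (DQ_nondegenerate h2 c hc)
    (fun a => chi (Sum.elim c d) (oblk c d (a, 1)) = chi c a) ?_ ?_ a
  · change chi (Sum.elim c d) (oblk c d 1) = _
    rw [map_one, map_one, map_one]
  · intro v hv g hg
    have h3 : oblk c d (reflIso (DQ c) v hv * g, 1) =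
        oblk c d (reflIso (DQ c) v hv, 1) * oblk c d (g, 1) := by
      rw [← map_mul, Prod.mk_mul_mk, mul_one]
    have hv' : DQ (Sum.elim c d) (Sum.elim v 0) ≠ 0 := by rw [DQ_elim_inl]; exact hv
    rw [h3, map_mul, map_mul, hg, oblk_refl_left c d v hv hv', chi_reflIso h2, chi_reflIso h2]
    simp only [DQ_elim_inl]

theorem chi_oblk_right (h2 : (2 : F) ≠ 0) (c : ι → F) (d : κ → F) (hd : ∀ i, d i ≠ 0)
    (b : Cfsg.isometryGroup F (⇑(DQ d))) : chi (Sum.elim c d) (oblk c d (1, b)) = chi d b := by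
  classical
  refine isometry_induction h2 (DQ d) (DQ_nondegenerate h2 d hd)
    (fun b => chi (Sum.elim c d) (oblk c d (1, b)) = chi d b) ?_ ?_ b
  · change chi (Sum.elim c d) (oblk c d 1) = _
    rw [map_one, map_one, map_one]
  · intro v hv g hg
    have h3 : oblk c d (1, reflIso (DQ d) v hv * g) =
        oblk c d (1, reflIso (DQ d) v hv) * oblk c d (1, g) := by
      rw [← map_mul, Prod.mk_mul_mk, mul_one]
    have hv' : DQ (Sum.elim c d) (Sum.elim 0 v) ≠ 0 := by rw [DQ_elim_inr]; exact hv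
    rw [h3, map_mul, map_mul, hg, oblk_refl_right c d v hv hv', chi_reflIso h2, chi_reflIso h2]
    simp only [DQ_elim_inr]

theorem chi_oblk (h2 : (2 : F) ≠ 0) (c : ι → F) (d : κ → F) (hc : ∀ i, c i ≠ 0)
    (hd : ∀ i, d i ≠ 0) (a : Cfsg.isometryGroup F (⇑(DQ c))) (b : Cfsg.isometryGroup F (⇑(DQ d))) :
    chi (Sum.elim c d) (oblk c d (a, b)) = chi c a * chi d b := by
  have h3 : oblk c d (a, b) = oblk c d (a, 1) * oblk c d (1, b) := by
    rw [← map_mul, Prod.mk_mul_mk, mul_one, one_mul]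
  rw [h3, map_mul, chi_oblk_left h2 c d hc, chi_oblk_right h2 c d hd]

end Diag

end Cfsg.Agent.H637
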