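import Mathlib
import Cfsg.Prelude.Def_GeometricClasses
import Cfsg.Agent.H637.JW

/-!
# The alternating group of degree 7 in dimension 7

Every 7-dimensional representation of `A₇` over an algebraically closed field has a non-zero fixed vector.
-/

set_option autoImplicit false
set_option linter.unusedSectionVars false

namespace Cfsg.Agent.H637.SevenA7

open Module Equiv Equiv.Perm Cfsg.Agent.H637.JW

/-- Generation of the alternating group of degree 7. -/
theorem eq_top_of (S : Subgroup (alternatingGroup (Fin 7))) (c d : alternatingGroup (Fin 7))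
    (hc : c ∈ S) (hd : d ∈ S) (hct : ∀ i j : Fin 7, ∃ k : Fin 7, ((c : Perm (Fin 7)) ^ (k : ℕ)) i = j)
    (hdt : (d : Perm (Fin 7)).IsThreeCycle) : S = ⊤ := by
  have h1 : alternatingGroup (Fin 7) ≤ S.map (alternatingGroup (Fin 7)).subtype := by
    have htr : MulAction.IsPretransitive (S.map (alternatingGroup (Fin 7)).subtype) (Fin 7) := by
      refine ⟨fun i j => ?_⟩
      obtain ⟨k, hk⟩ := hct i j
      exact ⟨⟨(c : Perm (Fin 7)) ^ (k : ℕ), ⟨c ^ (k : ℕ), pow_mem hc _, rfl⟩⟩, hk⟩
    refine alternatingGroup_le_of_isPreprimitive_of_isThreeCycle_mem ?_ hdt ⟨d, hd, rfl⟩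
    exact MulAction.IsPreprimitive.of_prime_card (by rw [Nat.card_eq_fintype_card, Fintype.card_fin]; norm_num)
  rw [eq_top_iff]
  intro g _
  obtain ⟨s, hs, hsg⟩ := h1 g.2
  have : s = g := Subtype.ext hsg
  rwa [← this]

def mk (p : Perm (Fin 7)) (h : sign p = 1 := by decide) : alternatingGroup (Fin 7) :=
  ⟨p, mem_alternatingGroup.2 h⟩

/-- the 3-cycle (0 1 2) -/
def a : alternatingGroup (Fin 7) := mk (swap 0 1 * swap 1 2)
/-- the 3-cycle (3 4 5) -/
def b : alternatingGroup (Fin 7) := mk (swap 3 4 * swap 4 5)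
/-- an element of order 4 normalising `⟨a, b⟩` -/
def g : alternatingGroup (Fin 7) := mk (swap 0 3 * swap 1 5 * swap 5 2 * swap 2 4)

theorem g_a : g⁻¹ * a * g = b := by decide
theorem g_b : g⁻¹ * b * g = a * a := by decide
theorem a_pow : a ^ 3 = 1 := by decide
theorem b_pow : b ^ 3 = 1 := by decide
theorem ab_comm : a * b = b * a := by decide

variable {K : Type*} [Field K] [IsAlgClosed K] {V : Type*} [AddCommGroup V] [Module K V]
  [FiniteDimensional K V]

theorem dim_fix_three (σ : alternatingGroup (Fin 7) →* Module.End K V) (h3 : (3 : K) ≠ 0)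
    (hV : finrank K V = 7) : 5 ≤ finrank K (Fix σ a) ∨ 5 ≤ finrank K (Fix σ (a * b)) := by
  obtain ⟨ζ, hζ⟩ := exists_root (K := K) (N := 3) (by exact_mod_cast h3)
  have h3' : ((3 : ℕ) : K) ≠ 0 := by exact_mod_cast h3
  let x : Fin 2 → alternatingGroup (Fin 7) := ![a, b]
  have hc : ∀ j k, σ (x j) * σ (x k) = σ (x k) * σ (x j) := by
    intro j k
    rw [← map_mul, ← map_mul]
    congr 1
    fin_cases j <;> fin_cases k <;> decide
  have hf : ∀ k, σ (x k) ^ 3 = 1 := by
    intro k
    rw [← map_pow]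
    have : x k ^ 3 = 1 := by fin_cases k <;> decide
    rw [this, map_one]
  have hind := indep_W h3' hζ (f := fun k => σ (x k)) hc hf
  have hsum := sum_W h3' hζ (f := fun k => σ (x k)) hc hf
  set D : ZMod 3 → ZMod 3 → ℕ := fun i j => finrank K (W 3 ζ (fun k => σ (x k)) ![i, j]) with hD
  have hζ3 := hζ.pow_eq_one
  have hDle : ∀ i j, D i j ≤ D j (i + i) := by
    intro i j
    refine finrank_W_le g fun v hv k => ?_
    rw [mem_W] at hv
    have ha : σ a v = ζ ^ i.val • v := hv 0
    have hb : σ b v = ζ ^ j.val • v := hv 1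
    fin_cases k
    · change σ (g⁻¹ * a * g) v = ζ ^ j.val • v
      rw [g_a, hb]
    · change σ (g⁻¹ * b * g) v = ζ ^ (i + i).val • v
      rw [g_b, act_mul ha ha, pow_val_add hζ3]
  have hs : ∑ i : Fin 3, ∑ j : Fin 3, D i j = 7 := by
    rw [← hV, ← hsum]
    rw [← (piFinTwoEquiv (fun _ => ZMod 3)).symm.sum_comp, Fintype.sum_prod_type]
    rfl
  have hs' : D 0 0 + D 0 1 + D 0 2 + (D 1 0 + D 1 1 + D 1 2) + (D 2 0 + D 2 1 + D 2 2) = 7 := by
    rw [Fin.sum_univ_three, Fin.sum_univ_three, Fin.sum_univ_three, Fin.sum_univ_three] at hs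
    exact hs
  have hA : ∑ j : ZMod 3, D 0 j ≤ finrank K (Fix σ a) := by
    refine sum_le_of_inj hind (fun j : ZMod 3 => ![0, j]) (fun j k h => congrFun h 1) _ fun j => ?_
    intro v hv
    rw [mem_W] at hv
    rw [mem_Fix]
    have := hv 0
    change σ a v = ζ ^ (0 : ZMod 3).val • v at this
    rw [this, ZMod.val_zero, pow_zero, one_smul]
  have hB : ∑ j : ZMod 3, D (-j) j ≤ finrank K (Fix σ (a * b)) := by
    refine sum_le_of_inj hind (fun j : ZMod 3 => ![-j, j]) (fun j k h => congrFun h 1) _ fun j => ?_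
    intro v hv
    rw [mem_W] at hv
    rw [mem_Fix]
    have h1 : σ a v = ζ ^ (-j).val • v := hv 0
    have h2 : σ b v = ζ ^ j.val • v := hv 1
    rw [act_mul h1 h2, ← pow_val_add hζ3, neg_add_cancel, ZMod.val_zero, pow_zero, one_smul]
  have hA' : D 0 0 + D 0 1 + D 0 2 ≤ finrank K (Fix σ a) := by
    refine le_trans (le_of_eq ?_) hA
    exact (Fin.sum_univ_three (fun j : Fin 3 => D 0 j)).symm
  have hB' : D 0 0 + D 2 1 + D 1 2 ≤ finrank K (Fix σ (a * b)) := by
    refine le_trans (le_of_eq ?_) hB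
    exact (Fin.sum_univ_three (fun j : Fin 3 => D (-(j : ZMod 3)) j)).symm
  have e1 : D 1 0 ≤ D 0 2 := hDle 1 0
  have e2 : D 0 2 ≤ D 2 0 := hDle 0 2
  have e3 : D 2 0 ≤ D 0 1 := hDle 2 0
  have e4 : D 0 1 ≤ D 1 0 := hDle 0 1
  have f1 : D 1 1 ≤ D 1 2 := hDle 1 1
  have f2 : D 1 2 ≤ D 2 2 := hDle 1 2
  have f3 : D 2 2 ≤ D 2 1 := hDle 2 2
  have f4 : D 2 1 ≤ D 1 1 := hDle 2 1
  clear_value D
  omega

/-! ### Characteristic 3 -/

/-- the double transposition (0 1)(2 3) -/
def s : alternatingGroup (Fin 7) := mk (swap 0 1 * swap 2 3)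
/-- the double transposition (0 2)(1 3) -/
def t : alternatingGroup (Fin 7) := mk (swap 0 2 * swap 1 3)
/-- the 3-cycle (4 5 6) -/
def c : alternatingGroup (Fin 7) := mk (swap 4 5 * swap 5 6)

theorem a_s : a⁻¹ * s * a = t := by decide
theorem a_t : a⁻¹ * t * a = s * t := by decide
theorem c_s : c⁻¹ * s * c = s := by decide
theorem c_t : c⁻¹ * t * c = t := by decide

/-- `(c - 1)³ = 0` in characteristic 3 -/
theorem exists_fix_of_three (h3 : (3 : K) = 0) {U : Type*} [AddCommGroup U] [Module K U]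
    [Nontrivial U] (f : Module.End K U) (hf : f ^ 3 = 1) : ∃ v : U, v ≠ 0 ∧ f v = v := by
  have h1 : (f - 1) ^ 3 = 0 := by
    have : (f - 1) ^ 3 = f ^ 3 - 1 - (3 : K) • (f ^ 2 - f) := by
      have h4 : (3 : K) • (f ^ 2 - f) = (3 : ℕ) • (f ^ 2 - f) := by
        rw [← Nat.cast_smul_eq_nsmul K]; norm_num
      rw [h4]
      have h5 : Commute f 1 := Commute.one_right f
      simp only [pow_succ, pow_zero, one_mul, sub_mul, mul_sub, mul_one]
      abel
    rw [this, hf, h3, zero_smul, sub_self, sub_zero]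
  by_contra hno
  push Not at hno
  have hinj : Function.Injective (f - 1 : Module.End K U) := by
    rw [← LinearMap.ker_eq_bot, LinearMap.ker_eq_bot']
    intro v hv
    by_contra h0
    apply hno v h0
    rw [LinearMap.sub_apply, Module.End.one_apply, sub_eq_zero] at hv
    exact hv
  obtain ⟨v, hv⟩ := exists_ne (0 : U)
  apply hv
  have h2 : ((f - 1) ^ 3 : Module.End K U) v = ((f - 1) ^ 3 : Module.End K U) 0 := by rw [h1]; rfl
  have h3 : Function.Injective ((f - 1) ^ 3 : Module.End K U) := by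
    rw [Module.End.coe_pow]
    exact hinj.iterate 3
  exact h3 h2


theorem dim_fix_char_three (σ : alternatingGroup (Fin 7) →* Module.End K V) (h3 : (3 : K) = 0)
    (hV : finrank K V = 7) : 5 ≤ finrank K (Fix σ s) := by
  have h2 : ((2 : ℕ) : K) ≠ 0 := by
    intro h0
    have h1 : (1 : K) = 3 - (2 : ℕ) := by norm_num
    rw [h3, h0, sub_zero] at h1
    exact one_ne_zero h1
  have h2' : (2 : K) ≠ 0 := by exact_mod_cast h2
  have hζ : IsPrimitiveRoot (-1 : K) 2 := by
    refine IsPrimitiveRoot.mk_of_lt _ (by norm_num) (by norm_num) fun l hl hl2 => ?_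
    have : l = 1 := by omega
    rw [this, pow_one]
    intro h0
    apply h2'
    linear_combination -h0
  let x : Fin 2 → alternatingGroup (Fin 7) := ![s, t]
  have hc : ∀ j k, σ (x j) * σ (x k) = σ (x k) * σ (x j) := by
    intro j k
    rw [← map_mul, ← map_mul]
    congr 1
    fin_cases j <;> fin_cases k <;> decide
  have hf : ∀ k, σ (x k) ^ 2 = 1 := by
    intro k
    rw [← map_pow]
    have : x k ^ 2 = 1 := by fin_cases k <;> decide
    rw [this, map_one]
  have hind := indep_W h2 hζ (f := fun k => σ (x k)) hc hf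
  have hsum := sum_W h2 hζ (f := fun k => σ (x k)) hc hf
  have hζ2 := hζ.pow_eq_one
  set D : ZMod 2 → ZMod 2 → ℕ := fun i j => finrank K (W 2 (-1) (fun k => σ (x k)) ![i, j]) with hD
  have hs : ∑ i : Fin 2, ∑ j : Fin 2, D i j = 7 := by
    rw [← hV, ← hsum]
    rw [← (piFinTwoEquiv (fun _ => ZMod 2)).symm.sum_comp, Fintype.sum_prod_type]
    rfl
  have hs' : D 0 0 + D 0 1 + (D 1 0 + D 1 1) = 7 := by
    rw [Fin.sum_univ_two, Fin.sum_univ_two, Fin.sum_univ_two] at hs
    exact hs
  have hmap : ∀ i j : ZMod 2, ∀ v ∈ W 2 (-1) (fun k => σ (x k)) ![i, j],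
      σ a v ∈ W 2 (-1) (fun k => σ (x k)) ![j, i + j] := by
    intro i j v hv
    rw [mem_W] at hv ⊢
    have ha : σ s v = (-1 : K) ^ i.val • v := hv 0
    have hb : σ t v = (-1 : K) ^ j.val • v := hv 1
    intro k
    fin_cases k
    · change σ s (σ a v) = (-1 : K) ^ j.val • σ a v
      have h1 : s * a = a * t := by rw [← a_s]; group
      rw [← mul_apply', h1, mul_apply', hb, map_smul]
    · change σ t (σ a v) = (-1 : K) ^ (i + j).val • σ a v
      have h1 : t * a = a * (s * t) := by rw [← a_t]; group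
      rw [← mul_apply', h1, mul_apply', act_mul ha hb, map_smul, pow_val_add hζ2]
  have hDle : ∀ i j, D i j ≤ D j (i + j) := fun i j => finrank_le_of_map (σ := σ) a (hmap i j)
  have e1 : D 1 0 ≤ D 0 1 := hDle 1 0
  have e2 : D 0 1 ≤ D 1 1 := hDle 0 1
  have e3 : D 1 1 ≤ D 1 0 := hDle 1 1
  -- the fixed space of `s`
  have hA : D 0 0 + D 0 1 ≤ finrank K (Fix σ s) := by
    have h1 : ∑ j : ZMod 2, D 0 j ≤ finrank K (Fix σ s) := by
      refine sum_le_of_inj hind (fun j : ZMod 2 => ![0, j]) (fun j k h => congrFun h 1) _ fun j => ?_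
      intro v hv
      rw [mem_W] at hv
      rw [mem_Fix]
      have := hv 0
      change σ s v = (-1) ^ (0 : ZMod 2).val • v at this
      rw [this, ZMod.val_zero, pow_zero, one_smul]
    refine le_trans (le_of_eq ?_) h1
    exact (Fin.sum_univ_two (fun j : Fin 2 => D 0 j)).symm
  by_cases hm : D 1 0 ≤ 1
  · clear_value D
    omega
  exfalso
  have hm2 : D 1 0 = 2 ∧ D 0 1 = 2 ∧ D 1 1 = 2 ∧ D 0 0 = 1 := by
    clear_value D
    omega
  obtain ⟨m10, m01, m11, m00⟩ := hm2
  -- the fixed space of `c` has dimension at least 4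
  have hcinv : ∀ i : Fin 2 → ZMod 2, ∀ v ∈ W 2 (-1) (fun k => σ (x k)) i,
      σ c v ∈ W 2 (-1) (fun k => σ (x k)) i := by
    intro i v hv
    rw [mem_W] at hv ⊢
    intro k
    have h1 : x k * c = c * x k := by fin_cases k <;> decide
    rw [← mul_apply', h1, mul_apply', hv k, map_smul]
  have hcfix : ∀ i : Fin 2 → ZMod 2, 0 < finrank K (W 2 (-1) (fun k => σ (x k)) i) →
      1 ≤ finrank K (W 2 (-1) (fun k => σ (x k)) i ⊓ Fix σ c : Submodule K V) := by
    intro i hi
    have hnt : Nontrivial (W 2 (-1) (fun k => σ (x k)) i) := Module.finrank_pos_iff.1 hi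
    obtain ⟨v, hv0, hv⟩ := exists_fix_of_three h3 ((σ c).restrict (hcinv i)) (by
      ext v
      rw [Module.End.pow_restrict _ (hcinv i)]
      simp only [LinearMap.coe_restrict_apply, Module.End.one_apply]
      rw [← map_pow, show c ^ 3 = 1 by decide, map_one, Module.End.one_apply])
    rw [Nat.one_le_iff_ne_zero, ← Nat.pos_iff_ne_zero, Module.finrank_pos_iff]
    refine ⟨⟨⟨v, v.2, ?_⟩, 0, ?_⟩⟩
    · exact mem_Fix.2 (congrArg Subtype.val hv)
    · intro h0
      exact hv0 (Subtype.ext (congrArg (fun u : (W 2 (-1) (fun k => σ (x k)) i ⊓ Fix σ c : Submodule K V) => (u : V)) h0))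
  have hc4 : 4 ≤ finrank K (Fix σ c) := by
    have hind2 : iSupIndep (fun i => (W 2 (-1) (fun k => σ (x k)) i ⊓ Fix σ c : Submodule K V)) :=
      hind.mono fun i => inf_le_left
    have h1 := sum_le_of_inj hind2 (fun p : ZMod 2 × ZMod 2 => ![p.1, p.2]) (fun p q h =>
      Prod.ext (congrFun h 0) (congrFun h 1)) (Fix σ c) (fun i => inf_le_right)
    refine le_trans ?_ h1
    have h4 : (4 : ℕ) = ∑ _p : ZMod 2 × ZMod 2, 1 := by simp
    rw [h4]
    refine Finset.sum_le_sum fun p _ => hcfix _ ?_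
    have : ∀ i j : ZMod 2, 0 < D i j := by
      intro i j
      fin_cases i <;> fin_cases j
      · change 0 < D 0 0; rw [m00]; norm_num
      · change 0 < D 0 1; rw [m01]; norm_num
      · change 0 < D 1 0; rw [m10]; norm_num
      · change 0 < D 1 1; rw [m11]; norm_num
    exact this p.1 p.2
  -- the fixed space of `a` has dimension at most 3
  have ha3 : finrank K (Fix σ a) ≤ 3 := by
    set U := W 2 (-1) (fun k => σ (x k)) ![0, 1] ⊔ W 2 (-1) (fun k => σ (x k)) ![1, 1] with hU
    have hU4 : 4 ≤ finrank K U := by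
      have h1 := sum_le_of_inj hind (fun i : ZMod 2 => ![i, 1]) (fun i j h => congrFun h 0) U (by
        intro i
        fin_cases i
        · exact le_sup_left
        · exact le_sup_right)
      have h2 : ∑ i : ZMod 2, finrank K (W 2 (-1) (fun k => σ (x k)) ![i, 1]) = D 0 1 + D 1 1 :=
        Fin.sum_univ_two (fun i : Fin 2 => D i 1)
      rw [h2, m01, m11] at h1
      exact h1
    have hdis : Fix σ a ⊓ U = ⊥ := by
      rw [eq_bot_iff]
      rintro v ⟨hv1, hv2⟩
      rw [SetLike.mem_coe, mem_Fix] at hv1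
      obtain ⟨y, hy, z, hz, rfl⟩ := Submodule.mem_sup.1 hv2
      have hy' := hmap 0 1 y hy
      have hz' := hmap 1 1 z hz
      rw [map_add] at hv1
      rw [mem_W] at hy hz hy' hz'
      have y0 : σ s y = y := by
        have h1 : σ s y = (-1 : K) ^ (0 : ZMod 2).val • y := hy 0
        rwa [ZMod.val_zero, pow_zero, one_smul] at h1
      have y1 : σ t y = -y := by
        have h1 : σ t y = (-1 : K) ^ (1 : ZMod 2).val • y := hy 1
        rwa [ZMod.val_one, pow_one, neg_one_smul] at h1
      have z0 : σ s z = -z := by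
        have h1 : σ s z = (-1 : K) ^ (1 : ZMod 2).val • z := hz 0
        rwa [ZMod.val_one, pow_one, neg_one_smul] at h1
      have z1 : σ t z = -z := by
        have h1 : σ t z = (-1 : K) ^ (1 : ZMod 2).val • z := hz 1
        rwa [ZMod.val_one, pow_one, neg_one_smul] at h1
      have ay0 : σ s (σ a y) = -σ a y := by
        have h1 : σ s (σ a y) = (-1 : K) ^ (1 : ZMod 2).val • σ a y := hy' 0
        rwa [ZMod.val_one, pow_one, neg_one_smul] at h1
      have ay1 : σ t (σ a y) = -σ a y := by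
        have h1 : σ t (σ a y) = (-1 : K) ^ (1 : ZMod 2).val • σ a y := hy' 1
        rwa [ZMod.val_one, pow_one, neg_one_smul] at h1
      have az0 : σ s (σ a z) = -σ a z := by
        have h1 : σ s (σ a z) = (-1 : K) ^ (1 : ZMod 2).val • σ a z := hz' 0
        rwa [ZMod.val_one, pow_one, neg_one_smul] at h1
      have az1 : σ t (σ a z) = σ a z := by
        have h1 : σ t (σ a z) = (-1 : K) ^ (0 : ZMod 2).val • σ a z := hz' 1
        rwa [ZMod.val_zero, pow_zero, one_smul] at h1
      have hs1 := congrArg (σ s) hv1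
      rw [map_add, map_add, ay0, az0, y0, z0] at hs1
      have ht1 := congrArg (σ t) hv1
      rw [map_add, map_add, ay1, az1, y1, z1] at ht1
      -- `y = 0`
      have hy0 : y = 0 := by
        have h1 : (2 : K) • y = 0 := by
          rw [two_smul]
          have : y + y = (σ a y + σ a z) + (-σ a y + -σ a z) := by rw [hv1, hs1]; abel
          rw [this]; abel
        exact (smul_eq_zero.1 h1).resolve_left h2'
      have hz0 : z = 0 := by
        rw [hy0, map_zero, zero_add, zero_add] at hv1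
        rw [hy0, map_zero, neg_zero, zero_add, zero_add] at ht1
        have h1 : (2 : K) • z = 0 := by
          rw [two_smul]
          nth_rewrite 1 [← hv1]
          rw [ht1, neg_add_cancel]
        exact (smul_eq_zero.1 h1).resolve_left h2'
      rw [hy0, hz0, add_zero]
      exact Submodule.zero_mem _
    have h1 := add_le_inf (Fix σ a) U
    rw [hdis, finrank_bot, hV] at h1
    omega
  have hconj : IsConj a c := by
    refine alternatingGroup.isThreeCycle_isConj (by rw [Nat.card_eq_fintype_card, Fintype.card_fin]; norm_num) ?_ ?_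
    · exact card_support_eq_three_iff.1 (by decide)
    · exact card_support_eq_three_iff.1 (by decide)
  have := finrank_Fix_of_isConj (σ := σ) hconj
  omega


theorem exists_fixed_three {G : Type*} [Group G] {σ : G →* Module.End K V} {x y z : G}
    (hx : 5 ≤ finrank K (Fix σ x)) (hy : 5 ≤ finrank K (Fix σ y)) (hz : 5 ≤ finrank K (Fix σ z))
    (hV : finrank K V = 7) (hgen : ∀ S : Subgroup G, x ∈ S → y ∈ S → z ∈ S → S = ⊤) :
    ∃ v : V, v ≠ 0 ∧ ∀ g, σ g v = v := by
  have h1 := add_le_inf (Fix σ x) (Fix σ y)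
  have h2 := add_le_inf (Fix σ x ⊓ Fix σ y) (Fix σ z)
  obtain ⟨v, hv, hv0⟩ := exists_fix_of_pos (U := Fix σ x ⊓ Fix σ y ⊓ Fix σ z) (by omega)
  obtain ⟨⟨hvx, hvy⟩, hvz⟩ := hv
  have h3 := hgen (stab σ v) (mem_Fix.1 hvx) (mem_Fix.1 hvy) (mem_Fix.1 hvz)
  refine ⟨v, hv0, fun g => ?_⟩
  have : g ∈ stab σ v := by rw [h3]; trivial
  exact this

set_option maxRecDepth 20000 in
/-- **Every 7-dimensional representation of `A₇` over an algebraically closed field has a non-zero
fixed vector.** -/
theorem exists_fixed (σ : alternatingGroup (Fin 7) →* Module.End K V) (hV : finrank K V = 7) :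
    ∃ v : V, v ≠ 0 ∧ ∀ g, σ g v = v := by
  by_cases h3 : (3 : K) = 0
  · have hs := dim_fix_char_three σ h3 hV
    let y : alternatingGroup (Fin 7) := mk (swap 0 4 * swap 3 6)
    let z : alternatingGroup (Fin 7) := mk (swap 3 5 * swap 4 6)
    have hy : mk (swap 1 4 * swap 2 3 * swap 3 6 * swap 6 5) * s *
      (mk (swap 1 4 * swap 2 3 * swap 3 6 * swap 6 5))⁻¹ = y := by decide
    have hz : mk (swap 0 3 * swap 3 6 * swap 6 1 * swap 1 5 * swap 5 2 * swap 2 4) * s *
      (mk (swap 0 3 * swap 3 6 * swap 6 1 * swap 1 5 * swap 5 2 * swap 2 4))⁻¹ = z := by decide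
    refine exists_fixed_three (x := s) (y := y) (z := z) hs (by rw [← hy, finrank_Fix_conj]; exact hs)
      (by rw [← hz, finrank_Fix_conj]; exact hs) hV fun S h1 h2 h3 => ?_
    refine eq_top_of S (s * y * z) (s * z * s * z) (mul_mem (mul_mem h1 h2) h3)
      (mul_mem (mul_mem (mul_mem h1 h3) h1) h3) (by decide) (card_support_eq_three_iff.1 (by decide))
  · rcases dim_fix_three σ h3 hV with ha | ha
    · let y : alternatingGroup (Fin 7) := mk (swap 2 3 * swap 3 4)
      let z : alternatingGroup (Fin 7) := mk (swap 4 5 * swap 5 6)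
      have hy : mk (swap 0 2 * swap 2 4 * swap 4 1 * swap 1 3) * a *
        (mk (swap 0 2 * swap 2 4 * swap 4 1 * swap 1 3))⁻¹ = y := by decide
      have hz : mk (swap 0 4 * swap 4 1 * swap 1 5 * swap 5 2 * swap 2 6 * swap 6 3) * a *
        (mk (swap 0 4 * swap 4 1 * swap 1 5 * swap 5 2 * swap 2 6 * swap 6 3))⁻¹ = z := by decide
      refine exists_fixed_three (x := a) (y := y) (z := z) ha (by rw [← hy, finrank_Fix_conj]; exact ha)
        (by rw [← hz, finrank_Fix_conj]; exact ha) hV fun S h1 h2 h3 => ?_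
      exact eq_top_of S (a * y * z) a (mul_mem (mul_mem h1 h2) h3) h1 (by decide)
        (card_support_eq_three_iff.1 (by decide))
    · let y : alternatingGroup (Fin 7) := mk (swap 1 2 * swap 2 3 * swap 4 5 * swap 5 6)
      have hy : mk (swap 0 1 * swap 1 2 * swap 2 3 * swap 3 4 * swap 4 5 * swap 5 6) * (a * b) *
        (mk (swap 0 1 * swap 1 2 * swap 2 3 * swap 3 4 * swap 4 5 * swap 5 6))⁻¹ = y := by decide
      have hy5 : 5 ≤ finrank K (Fix σ y) := by rw [← hy, finrank_Fix_conj]; exact ha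
      refine exists_fixed_three (x := a * b) (y := y) (z := y) ha hy5 hy5 hV fun S h1 h2 _ => ?_
      refine eq_top_of S (a * b * (a * b) * y * (a * b) * y * y) (a * b * y * (a * b) * y)
        (mul_mem (mul_mem (mul_mem (mul_mem (mul_mem h1 h1) h2) h1) h2) h2)
        (mul_mem (mul_mem (mul_mem h1 h2) h1) h2) (by decide) (card_support_eq_three_iff.1 (by decide))

open Matrix in
/-- The matrix version, over an arbitrary field. -/
theorem exists_fixed_matrix {F : Type*} [Field F]
    (ρ : alternatingGroup (Fin 7) →* Matrix.GeneralLinearGroup (Fin 7) F) :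
    ∃ w : Fin 7 → F, w ≠ 0 ∧ ∀ g, (ρ g : Matrix (Fin 7) (Fin 7) F) *ᵥ w = w := by
  obtain ⟨v, hv, hfix⟩ := exists_fixed (K := AlgebraicClosure F)
    (V := Fin 7 → AlgebraicClosure F) (ext ρ (AlgebraicClosure F)) (by simp)
  obtain ⟨w, hw, hwf⟩ := exists_fixed_of_extension (F := F) (L := AlgebraicClosure F) Set.univ
    (fun g => (ρ g : Matrix (Fin 7) (Fin 7) F)) hv (fun g _ => hfix g)
  exact ⟨w, hw, fun g => hwf g (Set.mem_univ g)⟩

open Matrix in
/-- An irreducible set of matrices in dimension at least 2 has no fixed vector. -/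
theorem false_of_fixed {F : Type*} [Field F] {n : ℕ} (hn : 2 ≤ n) {G : Type*} [Group G]
    (ρ : G →* Matrix.GeneralLinearGroup (Fin n) F)
    (hirr : Cfsg.Geo.ActsIrreducibly (Cfsg.Geo.matrixSet ρ.range)) {w : Fin n → F} (hw : w ≠ 0)
    (hfix : ∀ g, (ρ g : Matrix (Fin n) (Fin n) F) *ᵥ w = w) : False := by
  rcases hirr (Submodule.span F {w}) (by
    rintro _ ⟨_, ⟨g, rfl⟩, rfl⟩
    rw [Submodule.map_span_le]
    intro m hm
    rw [Set.mem_singleton_iff] at hm
    subst hm
    rw [Matrix.toLin'_apply, hfix]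
    exact Submodule.mem_span_singleton_self _) with h | h
  · rw [Submodule.span_singleton_eq_bot] at h
    exact hw h
  · have h1 : finrank F (Submodule.span F {w}) = n := by
      rw [h, finrank_top, Module.finrank_fin_fun]
    have h2 := finrank_span_singleton (K := F) hw
    omega

/-- `A₇` has no absolutely irreducible module of dimension 7 in any characteristic. -/
theorem seven_A7 {F : Type*} [Field F] [Finite F]
    (ρ : alternatingGroup (Fin 7) →* Matrix.GeneralLinearGroup (Fin 7) F)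
    (habs : Cfsg.Geo.ActsAbsolutelyIrreducibly (Cfsg.Geo.matrixSet ρ.range)) : False := by
  obtain ⟨w, hw, hfix⟩ := exists_fixed_matrix ρ
  exact false_of_fixed (by norm_num) ρ habs.1 hw hfix

end Cfsg.Agent.H637.SevenA7
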