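import Mathlib
import Cfsg.Prelude.Def_GeometricClasses
import Cfsg.Agent.H637.JW
import Cfsg.Agent.H637.SevenA7

/-!
# The alternating groups of degree 8 and 9 in dimension 7 (odd characteristic)

The restriction to `A₇` has a fixed vector, so the module of `A₈` is the permutation module modulo the
constants and its character is `fix - 1`.
-/

set_option autoImplicit false
set_option linter.unusedSectionVars false

namespace Cfsg.Agent.H637.SevenA8

open Module Equiv Equiv.Perm Cfsg.Agent.H637.JW

/-! ### The point stabilizer -/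

theorem exists_stab_hom (n : ℕ) : ∃ ι : alternatingGroup (Fin n) →* alternatingGroup (Fin (n + 1)),
    ∀ g : alternatingGroup (Fin (n + 1)), (g : Perm (Fin (n + 1))) (Fin.last n) = Fin.last n →
      g ∈ ι.range := by
  let e : Fin n ≃ {x : Fin (n + 1) // x ≠ Fin.last n} := finSuccAboveEquiv (Fin.last n)
  let f0 : Perm (Fin n) →* Perm (Fin (n + 1)) := Equiv.Perm.extendDomainHom e
  refine ⟨(f0.comp (alternatingGroup (Fin n)).subtype).codRestrict _ ?_, ?_⟩
  · intro x
    change Equiv.Perm.extendDomain (x : Perm (Fin n)) e ∈ alternatingGroup _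
    rw [Equiv.Perm.mem_alternatingGroup, Equiv.Perm.sign_extendDomain]
    exact Equiv.Perm.mem_alternatingGroup.1 x.2
  · intro g hg
    have h1 : ∀ x, (g : Perm (Fin (n + 1))) x ≠ Fin.last n ↔ x ≠ Fin.last n := by
      intro x
      rw [not_iff_not]
      constructor
      · intro h
        apply (g : Perm (Fin (n + 1))).injective
        rw [h, hg]
      · rintro rfl; exact hg
    let h : Perm (Fin n) := e.symm.permCongr ((g : Perm (Fin (n + 1))).subtypePerm h1)
    have h2 : Equiv.Perm.extendDomain h e = g := by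
      ext x
      by_cases hx : x = Fin.last n
      · rw [Equiv.Perm.extendDomain_apply_not_subtype h e (not_not.2 hx), hx, hg]
      · rw [Equiv.Perm.extendDomain_apply_subtype h e hx]
        simp [h, Equiv.permCongr_apply, Equiv.Perm.subtypePerm_apply]
    have h3 : sign h = 1 := by
      rw [← Equiv.Perm.sign_extendDomain h e, h2]
      exact Equiv.Perm.mem_alternatingGroup.1 g.2
    exact ⟨⟨h, Equiv.Perm.mem_alternatingGroup.2 h3⟩, Subtype.ext h2⟩

/-! ### Translates of a vector fixed by a point stabilizer -/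

section Gen

variable {K : Type*} [Field K] {V : Type*} [AddCommGroup V] [Module K V]
  {n : ℕ}

/-- three-cycles -/
def tc (i j k : Fin n) (hij : i ≠ j) (hjk : j ≠ k) : alternatingGroup (Fin n) :=
  ⟨swap i j * swap j k, by
    rw [Equiv.Perm.mem_alternatingGroup, Equiv.Perm.sign_mul, sign_swap hij, sign_swap hjk]; rfl⟩

/-- double transpositions -/
def dt (i j k l : Fin n) (hij : i ≠ j) (hkl : k ≠ l) : alternatingGroup (Fin n) :=
  ⟨swap i j * swap k l, by
    rw [Equiv.Perm.mem_alternatingGroup, Equiv.Perm.sign_mul, sign_swap hij, sign_swap hkl]; rfl⟩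

theorem exists_map (hn : 3 ≤ n) (i j : Fin n) : ∃ g : alternatingGroup (Fin n), (g : Perm (Fin n)) i = j := by
  by_cases hij : i = j
  · exact ⟨1, by simp [hij]⟩
  obtain ⟨k, hk⟩ : ∃ k : Fin n, k ≠ i ∧ k ≠ j := by
    have : ∃ k, k ∉ ({i, j} : Finset (Fin n)) := by
      by_contra hno
      push Not at hno
      have h1 : (Finset.univ : Finset (Fin n)) ⊆ {i, j} := fun x _ => hno x
      have h2 := Finset.card_le_card h1
      rw [Finset.card_univ, Fintype.card_fin] at h2
      have h3 : ({i, j} : Finset (Fin n)).card ≤ 2 := Finset.card_le_two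
      omega
    obtain ⟨k, hk⟩ := this
    simp only [Finset.mem_insert, Finset.mem_singleton, not_or] at hk
    exact ⟨k, hk⟩
  refine ⟨tc i j k hij hk.2.symm, ?_⟩
  change (swap i j * swap j k) i = j
  rw [Equiv.Perm.mul_apply, swap_apply_of_ne_of_ne hij hk.1.symm, swap_apply_left]

theorem exists_translates (hn : 3 ≤ n) (σ : alternatingGroup (Fin n) →* Module.End K V) (a : Fin n)
    (w : V) (hw : ∀ g : alternatingGroup (Fin n), (g : Perm (Fin n)) a = a → σ g w = w) :
    ∃ u : Fin n → V, u a = w ∧ ∀ (h : alternatingGroup (Fin n)) i,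
      σ h (u i) = u ((h : Perm (Fin n)) i) := by
  choose g hg using exists_map hn a
  refine ⟨fun i => σ (g i) w, hw _ (hg a), fun h i => ?_⟩
  rw [← mul_apply']
  have h1 : (((g ((h : Perm (Fin n)) i))⁻¹ * (h * g i) : alternatingGroup (Fin n)) : Perm (Fin n)) a = a := by
    change ((g ((h : Perm (Fin n)) i) : Perm (Fin n))⁻¹ * ((h : Perm (Fin n)) * (g i : Perm (Fin n)))) a = a
    rw [Equiv.Perm.mul_apply, Equiv.Perm.mul_apply, hg, Equiv.Perm.inv_eq_iff_eq, hg]
  have h2 := hw _ h1
  have h3 := congrArg (σ (g ((h : Perm (Fin n)) i))) h2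
  rwa [← mul_apply', mul_inv_cancel_left] at h3

variable {σ : alternatingGroup (Fin n) →* Module.End K V} {u : Fin n → V}

/-- Relations are permuted. -/
theorem rel_comp (hu : ∀ (h : alternatingGroup (Fin n)) i, σ h (u i) = u ((h : Perm (Fin n)) i))
    {x : Fin n → K} (hx : ∑ i, x i • u i = 0) (h : alternatingGroup (Fin n)) :
    ∑ i, x ((h : Perm (Fin n)) i) • u i = 0 := by
  have h1 := congrArg (σ h⁻¹) hx
  rw [map_sum, map_zero] at h1
  rw [← h1]
  rw [← Equiv.sum_comp (h : Perm (Fin n)) (fun i => σ h⁻¹ (x i • u i))]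
  refine Finset.sum_congr rfl fun i _ => ?_
  rw [map_smul, hu]
  refine congrArg (fun v => x ((h : Perm (Fin n)) i) • v) ?_
  change u i = u ((h : Perm (Fin n))⁻¹ ((h : Perm (Fin n)) i))
  simp

/-- The effect of a double transposition on a relation. -/
theorem rel_dt (hu : ∀ (h : alternatingGroup (Fin n)) i, σ h (u i) = u ((h : Perm (Fin n)) i))
    {x : Fin n → K} (hx : ∑ i, x i • u i = 0) {i j l m : Fin n} (hij : i ≠ j) (hil : i ≠ l)
    (him : i ≠ m) (hjl : j ≠ l) (hjm : j ≠ m) (hlm : l ≠ m) :
    (x i - x j) • (u i - u j) + (x l - x m) • (u l - u m) = 0 := by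
  have h1 := rel_comp hu hx (dt i j l m hij hlm)
  have h2 : ∑ k, (x k - x ((dt i j l m hij hlm : Perm (Fin n)) k)) • u k = 0 := by
    simp only [sub_smul, Finset.sum_sub_distrib, hx, h1, sub_self]
  have h3 : ∀ k, (dt i j l m hij hlm : Perm (Fin n)) k = swap i j (swap l m k) := fun k => rfl
  have hs : ∑ k, (x k - x ((dt i j l m hij hlm : Perm (Fin n)) k)) • u k =
      ∑ k ∈ ({i, j, l, m} : Finset (Fin n)), (x k - x ((dt i j l m hij hlm : Perm (Fin n)) k)) • u k := by
    symm
    refine Finset.sum_subset (Finset.subset_univ _) fun k _ hk => ?_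
    simp only [Finset.mem_insert, Finset.mem_singleton, not_or] at hk
    rw [h3, swap_apply_of_ne_of_ne hk.2.2.1 hk.2.2.2, swap_apply_of_ne_of_ne hk.1 hk.2.1, sub_self,
      zero_smul]
  rw [hs, Finset.sum_insert (by simp [hij, hil, him]), Finset.sum_insert (by simp [hjl, hjm]),
    Finset.sum_insert (by simp [hlm]), Finset.sum_singleton, h3, h3, h3, h3,
    swap_apply_of_ne_of_ne hil him, swap_apply_left, swap_apply_of_ne_of_ne hjl hjm,
    swap_apply_right, swap_apply_left, swap_apply_of_ne_of_ne him.symm hjm.symm, swap_apply_right,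
    swap_apply_of_ne_of_ne hil.symm hjl.symm] at h2
  rw [← h2]
  simp only [sub_smul, smul_sub]
  abel

/-- If there is a non-constant relation then all the vectors are equal. -/
theorem eq_of_rel (hn : 6 ≤ n) (h2 : (2 : K) ≠ 0)
    (hu : ∀ (h : alternatingGroup (Fin n)) i, σ h (u i) = u ((h : Perm (Fin n)) i))
    {x : Fin n → K} (hx : ∑ i, x i • u i = 0) {i j : Fin n} (hij : x i ≠ x j) (k l : Fin n) :
    u k = u l := by
  have hij' : i ≠ j := fun h => hij (by rw [h])
  -- four further indices
  obtain ⟨s, hs, hs4⟩ : ∃ s : Finset (Fin n), s ⊆ Finset.univ \ {i, j} ∧ s.card = 4 := by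
    refine Finset.exists_subset_card_eq ?_
    rw [Finset.card_sdiff_of_subset (Finset.subset_univ _), Finset.card_univ, Fintype.card_fin,
      Finset.card_pair hij']
    omega
  obtain ⟨p, q, r, t, hpq, hpr, hpt, hqr, hqt, hrt, rfl⟩ := Finset.card_eq_four.1 hs4
  have hp := hs (show p ∈ _ by simp)
  have hq := hs (show q ∈ _ by simp)
  have hr := hs (show r ∈ _ by simp)
  have ht := hs (show t ∈ _ by simp)
  simp only [Finset.mem_sdiff, Finset.mem_univ, true_and, Finset.mem_insert,
    Finset.mem_singleton, not_or] at hp hq hr ht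
  have e1 := rel_dt hu hx hij' (Ne.symm hp.1) (Ne.symm hq.1) (Ne.symm hp.2) (Ne.symm hq.2) hpq
  have e2 := rel_dt hu hx hij' (Ne.symm hr.1) (Ne.symm ht.1) (Ne.symm hr.2) (Ne.symm ht.2) hrt
  have e3 := rel_dt hu hx hpq hpr hpt hqr hqt hrt
  have e4 : (2 : K) • ((x i - x j) • (u i - u j)) = 0 := by
    rw [two_smul]
    have : (x i - x j) • (u i - u j) + (x i - x j) • (u i - u j) =
      ((x i - x j) • (u i - u j) + (x p - x q) • (u p - u q)) +
      ((x i - x j) • (u i - u j) + (x r - x t) • (u r - u t)) -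
      ((x p - x q) • (u p - u q) + (x r - x t) • (u r - u t)) := by abel
    rw [this, e1, e2, e3]
    simp
  have e5 : u i = u j := by
    have h3 := (smul_eq_zero.1 e4).resolve_left h2
    exact sub_eq_zero.1 ((smul_eq_zero.1 h3).resolve_left (sub_ne_zero.2 hij))
  have key : ∀ k, u k = u i := by
    intro k
    by_cases hki : k = i
    · rw [hki]
    by_cases hkj : k = j
    · rw [hkj, e5]
    have h3 := congrArg (σ (tc i j k hij' (Ne.symm hkj))) e5
    rw [hu, hu] at h3
    have h4 : (tc i j k hij' (Ne.symm hkj) : Perm (Fin n)) i = j := by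
      change (swap i j * swap j k) i = j
      rw [Equiv.Perm.mul_apply, swap_apply_of_ne_of_ne hij' (Ne.symm hki), swap_apply_left]
    have h5 : (tc i j k hij' (Ne.symm hkj) : Perm (Fin n)) j = k := by
      change (swap i j * swap j k) j = k
      rw [Equiv.Perm.mul_apply, swap_apply_left, swap_apply_of_ne_of_ne hki hkj]
    rw [h4, h5] at h3
    rw [← h3, e5]
  rw [key k, key l]

variable [FiniteDimensional K V]

/-- The dichotomy: either all `u i` are equal or the only relations are the constants. -/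
theorem dichotomy (hn : 6 ≤ n) (h2 : (2 : K) ≠ 0)
    (hu : ∀ (h : alternatingGroup (Fin n)) i, σ h (u i) = u ((h : Perm (Fin n)) i))
    (hV : finrank K V < n) :
    (∀ k l, u k = u l) ∨ (∑ i, u i = 0 ∧ n ≤ finrank K V + 1 ∧
      ∀ x : Fin n → K, ∑ i, x i • u i = 0 → ∀ i j, x i = x j) := by
  by_cases hc : ∃ (x : Fin n → K) (i j : Fin n), ∑ i, x i • u i = 0 ∧ x i ≠ x j
  · obtain ⟨x, i, j, hx, hij⟩ := hc
    exact Or.inl (eq_of_rel hn h2 hu hx hij)
  · right
    push Not at hc
    have hdep : ¬ LinearIndependent K u := by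
      intro h
      have := h.fintype_card_le_finrank
      rw [Fintype.card_fin] at this
      omega
    rw [Fintype.not_linearIndependent_iff] at hdep
    obtain ⟨x, hx, i, hi⟩ := hdep
    have hconst : ∀ j, x j = x i := fun j => hc x j i hx
    have hsum : ∑ i, u i = 0 := by
      have h1 : x i • ∑ j, u j = 0 := by
        rw [Finset.smul_sum, ← hx]
        exact Finset.sum_congr rfl fun j _ => by rw [hconst j]
      exact (smul_eq_zero.1 h1).resolve_left hi
    refine ⟨hsum, ?_, fun x hx i j => hc x i j hx⟩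
    -- `u` restricted to the indices different from a point is independent
    have hli : LinearIndependent K (fun j : {j : Fin n // j ≠ i} => u j) := by
      rw [Fintype.linearIndependent_iff]
      intro y hy j
      let y' : Fin n → K := fun k => if h : k ≠ i then y ⟨k, h⟩ else 0
      have h1 : ∑ k, y' k • u k = 0 := by
        rw [← Finset.sum_subset (Finset.subset_univ (Finset.univ.filter (· ≠ i)))]
        · rw [Finset.sum_subtype (Finset.univ.filter (· ≠ i)) (p := fun k => k ≠ i) (by simp)]
          rw [← hy]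
          refine Finset.sum_congr rfl fun k _ => ?_
          simp only [y']
          rw [dif_pos k.2]
        · intro k _ hk
          simp only [Finset.mem_filter, Finset.mem_univ, true_and, not_not] at hk
          simp only [y']
          rw [dif_neg (not_not.2 hk), zero_smul]
      have h2 := hc y' j i h1
      simp only [y'] at h2
      rw [dif_pos j.2, dif_neg (not_not.2 rfl)] at h2
      exact h2
    have h3 := hli.fintype_card_le_finrank
    rw [Fintype.card_subtype_compl, Fintype.card_fin, Fintype.card_subtype_eq] at h3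
    omega

/-- The trace of the permutation module modulo the constants. -/
theorem trace_eq {m : ℕ} [NeZero m] {σ : alternatingGroup (Fin (m + 1)) →* Module.End K V}
    {u : Fin (m + 1) → V} (hsum : ∑ i, u i = 0)
    (hrel : ∀ x : Fin (m + 1) → K, ∑ i, x i • u i = 0 → ∀ i j, x i = x j) (hV : finrank K V = m)
    (hu : ∀ (h : alternatingGroup (Fin (m + 1))) i, σ h (u i) = u ((h : Perm (Fin (m + 1))) i))
    (h : alternatingGroup (Fin (m + 1))) :
    LinearMap.trace K V (σ h) =
      ((Finset.univ.filter fun i => (h : Perm (Fin (m + 1))) i = i).card : K) - 1 := by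
  classical
  have hli : LinearIndependent K (fun j : Fin m => u j.castSucc) := by
    rw [Fintype.linearIndependent_iff]
    intro y hy j
    let y' : Fin (m + 1) → K := Fin.lastCases 0 y
    have h1 : ∑ k, y' k • u k = 0 := by
      rw [Fin.sum_univ_castSucc]
      simp only [y', Fin.lastCases_castSucc, Fin.lastCases_last, zero_smul, add_zero]
      exact hy
    have h2 := hrel y' h1 j.castSucc (Fin.last m)
    simpa [y'] using h2
  let b : Basis (Fin m) K V := basisOfLinearIndependentOfCardEqFinrank hli (by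
    rw [Fintype.card_fin, hV])
  have hb : ∀ j, b j = u j.castSucc := fun j => by
    simp [b]
  have hlast : u (Fin.last m) = ∑ j, (-1 : K) • b j := by
    have h1 := hsum
    rw [Fin.sum_univ_castSucc] at h1
    rw [← Finset.smul_sum]
    simp only [hb]
    rw [neg_one_smul, eq_neg_iff_add_eq_zero, add_comm]
    exact h1
  rw [LinearMap.trace_eq_matrix_trace K b, Matrix.trace]
  have hdiag : ∀ j : Fin m, (LinearMap.toMatrix b b (σ h)).diag j =
      (if (h : Perm (Fin (m + 1))) j.castSucc = j.castSucc then 1 else 0) -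
      (if (h : Perm (Fin (m + 1))) j.castSucc = Fin.last m then 1 else 0) := by
    intro j
    rw [Matrix.diag_apply, LinearMap.toMatrix_apply, hb, hu]
    rcases Fin.eq_castSucc_or_eq_last ((h : Perm (Fin (m + 1))) j.castSucc) with ⟨k, hk⟩ | hk
    · rw [hk, ← hb, Basis.repr_self, Finsupp.single_apply, if_neg (Fin.castSucc_lt_last k).ne, sub_zero]
      simp only [Fin.castSucc_inj]
    · rw [hk, hlast, map_sum, if_pos rfl, if_neg (Fin.castSucc_lt_last j).ne']
      simp [Finsupp.single_apply]
  rw [Finset.sum_congr rfl fun j _ => hdiag j, Finset.sum_sub_distrib]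
  have hcount : ((Finset.univ.filter fun i => (h : Perm (Fin (m + 1))) i = i).card : K) =
      (∑ j : Fin m, (if (h : Perm (Fin (m + 1))) j.castSucc = j.castSucc then (1 : K) else 0)) +
      (if (h : Perm (Fin (m + 1))) (Fin.last m) = Fin.last m then 1 else 0) := by
    rw [← Fin.sum_univ_castSucc (fun i => if (h : Perm (Fin (m + 1))) i = i then (1 : K) else 0)]
    rw [Finset.sum_ite, Finset.sum_const_zero, add_zero, Finset.sum_const, nsmul_eq_mul, mul_one]
  have hone : (∑ j : Fin m, (if (h : Perm (Fin (m + 1))) j.castSucc = Fin.last m then (1 : K) else 0)) +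
      (if (h : Perm (Fin (m + 1))) (Fin.last m) = Fin.last m then 1 else 0) = 1 := by
    rw [← Fin.sum_univ_castSucc (fun i => if (h : Perm (Fin (m + 1))) i = Fin.last m then (1 : K) else 0)]
    have h1 : ∀ i, (if (h : Perm (Fin (m + 1))) i = Fin.last m then (1 : K) else 0) =
        if i = (h : Perm (Fin (m + 1)))⁻¹ (Fin.last m) then 1 else 0 := by
      intro i
      congr 1
      rw [eq_iff_iff, Equiv.Perm.eq_inv_iff_eq]
    rw [Finset.sum_congr rfl fun i _ => h1 i, Finset.sum_ite_eq' Finset.univ]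
    simp
  rw [hcount]
  linear_combination -hone

end Gen


section Eight

variable {K : Type*} [Field K] {V : Type*} [AddCommGroup V] [Module K V] [FiniteDimensional K V]

/-- `A₈` in dimension 7, the restriction to the point stabilizer having a fixed vector. -/
theorem eight_cases (h2 : (2 : K) ≠ 0) (σ : alternatingGroup (Fin 8) →* Module.End K V)
    (hV : finrank K V = 7) {w : V}
    (hw : ∀ g : alternatingGroup (Fin 8), (g : Perm (Fin 8)) (Fin.last 7) = Fin.last 7 → σ g w = w) :
    (∀ g, σ g w = w) ∨ ∀ h : alternatingGroup (Fin 8), LinearMap.trace K V (σ h) =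
      ((Finset.univ.filter fun i => (h : Perm (Fin 8)) i = i).card : K) - 1 := by
  obtain ⟨u, hua, hu⟩ := exists_translates (by norm_num) σ (Fin.last 7) w hw
  rcases dichotomy (by norm_num) h2 hu (by rw [hV]; norm_num) with h | ⟨h, -, hrel⟩
  · left
    intro g
    rw [← hua, hu]
    exact h _ _
  · right
    exact trace_eq h hrel hV hu

/-- `A₉` in dimension 7, the restriction to `A₈` having a fixed vector. -/
theorem nine_fixed (h2 : (2 : K) ≠ 0) (σ : alternatingGroup (Fin 9) →* Module.End K V)
    (hV : finrank K V = 7) {w : V}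
    (hw : ∀ g : alternatingGroup (Fin 9), (g : Perm (Fin 9)) (Fin.last 8) = Fin.last 8 → σ g w = w) :
    ∀ g, σ g w = w := by
  obtain ⟨u, hua, hu⟩ := exists_translates (by norm_num) σ (Fin.last 8) w hw
  rcases dichotomy (by norm_num) h2 hu (by rw [hV]; norm_num) with h | ⟨-, h, -⟩
  · intro g
    rw [← hua, hu]
    exact h _ _
  · omega

end Eight

/-- the number of fixed points of the inverse -/
theorem card_fix_inv {n : ℕ} (h : Perm (Fin n)) :
    (Finset.univ.filter fun i => h⁻¹ i = i).card = (Finset.univ.filter fun i => h i = i).card := by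
  congr 1
  ext i
  simp only [Finset.mem_filter, Finset.mem_univ, true_and]
  rw [Equiv.Perm.inv_eq_iff_eq]
  exact eq_comm

/-! ### Real elements of `A₉` -/

theorem isConj_inv_of {r τ : Perm (Fin 9)} (hτ : sign τ = 1) (hr : τ * r * τ⁻¹ = r⁻¹)
    {g : alternatingGroup (Fin 9)} (hg : r.cycleType = (g : Perm (Fin 9)).cycleType) :
    IsConj g g⁻¹ := by
  obtain ⟨c, hc⟩ := isConj_iff.1 (isConj_iff_cycleType_eq.2 hg)
  rw [isConj_iff]
  refine ⟨⟨c * τ * c⁻¹, ?_⟩, ?_⟩
  · rw [Equiv.Perm.mem_alternatingGroup, Equiv.Perm.sign_mul, Equiv.Perm.sign_mul, hτ, mul_one,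
      Equiv.Perm.sign_inv, Int.units_mul_self]
  · apply Subtype.ext
    change c * τ * c⁻¹ * (g : Perm (Fin 9)) * (c * τ * c⁻¹)⁻¹ = (g : Perm (Fin 9))⁻¹
    rw [← hc]
    calc c * τ * c⁻¹ * (c * r * c⁻¹) * (c * τ * c⁻¹)⁻¹ = c * (τ * r * τ⁻¹) * c⁻¹ := by group
      _ = (c * r * c⁻¹)⁻¹ := by rw [hr]; group

set_option maxRecDepth 100000 in
/-- Fixed-point-free elements of `A₉` are real. -/
theorem real_nine (g : alternatingGroup (Fin 9)) (hg : ∀ i, (g : Perm (Fin 9)) i ≠ i) :
    IsConj g g⁻¹ := by
  set m := (g : Perm (Fin 9)).cycleType with hm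
  have hsum : m.sum = 9 := by
    rw [hm, sum_cycleType]
    have : (g : Perm (Fin 9)).support = Finset.univ := by
      ext i
      simp [hg i]
    rw [this, Finset.card_univ, Fintype.card_fin]
  have h2 : ∀ x ∈ m, 2 ≤ x := fun x hx => two_le_of_mem_cycleType hx
  have hcard : Odd m.card := by
    have h3 := sign_of_cycleType (g : Perm (Fin 9))
    rw [Equiv.Perm.mem_alternatingGroup.1 g.2, ← hm, hsum] at h3
    by_contra hno
    rw [Nat.not_odd_iff_even] at hno
    have h4 : Odd (9 + m.card) := by
      obtain ⟨k, hk⟩ := hno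
      exact ⟨4 + k, by omega⟩
    rw [h4.neg_one_pow] at h3
    exact absurd h3 (by decide)
  have hle : 2 * m.card ≤ 9 := by
    have h3 := Multiset.card_nsmul_le_sum h2
    rw [hsum, nsmul_eq_mul] at h3
    push_cast at h3
    omega
  have hcard' : m.card = 1 ∨ m.card = 3 := by
    obtain ⟨k, hk⟩ := hcard
    omega
  rcases hcard' with h1 | h3
  · obtain ⟨x, hx⟩ := Multiset.card_eq_one.1 h1
    have hx9 : x = 9 := by rw [hx, Multiset.sum_singleton] at hsum; exact hsum
    refine isConj_inv_of (r := swap 0 1 * swap 1 2 * swap 2 3 * swap 3 4 * swap 4 5 * swap 5 6 *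
      swap 6 7 * swap 7 8) (τ := swap 1 8 * swap 2 7 * swap 3 6 * swap 4 5) (by decide) (by decide) ?_
    rw [← hm, hx, hx9]
    decide +kernel
  · obtain ⟨x, y, z, hxyz⟩ := Multiset.card_eq_three.1 h3
    have hx := h2 x (by rw [hxyz]; simp)
    have hy := h2 y (by rw [hxyz]; simp)
    have hz := h2 z (by rw [hxyz]; simp)
    have hs : x + y + z = 9 := by
      rw [hxyz] at hsum
      simpa [add_assoc] using hsum
    have hcases : m = {2, 2, 5} ∨ m = {2, 3, 4} ∨ m = {3, 3, 3} := by
      have hx5 : x ≤ 5 := by omega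
      have hy5 : y ≤ 5 := by omega
      rw [hxyz]
      interval_cases x <;> interval_cases y <;>
        first
        | omega
        | (have hz' : z = 5 := by omega
           subst hz'; decide)
        | (have hz' : z = 4 := by omega
           subst hz'; decide)
        | (have hz' : z = 3 := by omega
           subst hz'; decide)
        | (have hz' : z = 2 := by omega
           subst hz'; decide)
    rcases hcases with h | h | h
    · refine isConj_inv_of (r := swap 0 1 * swap 2 3 * swap 4 5 * swap 5 6 * swap 6 7 * swap 7 8)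
        (τ := swap 5 8 * swap 6 7) (by decide) (by decide) ?_
      rw [← hm, h]
      decide +kernel
    · refine isConj_inv_of (r := swap 0 1 * swap 2 3 * swap 3 4 * swap 5 6 * swap 6 7 * swap 7 8)
        (τ := swap 3 4 * swap 6 8) (by decide) (by decide) ?_
      rw [← hm, h]
      decide +kernel
    · refine isConj_inv_of (r := swap 0 1 * swap 1 2 * swap 3 4 * swap 4 5 * swap 6 7 * swap 7 8)
        (τ := swap 1 2 * swap 4 5 * swap 7 8 * (swap 0 3 * swap 1 4 * swap 2 5)) (by decide)
        (by decide) ?_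
      rw [← hm, h]
      decide +kernel

/-! ### The statements on matrices -/

section Mat

variable {F : Type*} [Field F] {n : ℕ} {G : Type*} [Group G]

/-- The representation on column vectors. -/
noncomputable def lin (ρ : G →* Matrix.GeneralLinearGroup (Fin n) F) : G →* Module.End F (Fin n → F) :=
  ((Matrix.toLinAlgEquiv' (R := F) (n := Fin n)).toAlgHom.toRingHom.toMonoidHom).comp
    ((Units.coeHom (Matrix (Fin n) (Fin n) F)).comp ρ)

open Matrix in
theorem lin_apply (ρ : G →* Matrix.GeneralLinearGroup (Fin n) F) (g : G) (v : Fin n → F) :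
    lin ρ g v = (ρ g : Matrix (Fin n) (Fin n) F) *ᵥ v := rfl

theorem trace_lin (ρ : G →* Matrix.GeneralLinearGroup (Fin n) F) (g : G) :
    LinearMap.trace F _ (lin ρ g) = (ρ g : Matrix (Fin n) (Fin n) F).trace := by
  change LinearMap.trace F _ (Matrix.toLin' (ρ g : Matrix (Fin n) (Fin n) F)) = _
  rw [Matrix.trace_toLin'_eq]

theorem trace_conj (ρ : G →* Matrix.GeneralLinearGroup (Fin n) F) (s g : G) :
    (ρ (s * g * s⁻¹) : Matrix (Fin n) (Fin n) F).trace = (ρ g : Matrix (Fin n) (Fin n) F).trace := by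
  rw [map_mul, map_mul, map_inv, Units.val_mul, Units.val_mul, Matrix.trace_mul_comm, ← mul_assoc,
    ← Units.val_mul, inv_mul_cancel, Units.val_one, one_mul]

end Mat

/-- The trace formula for `A₈`. -/
theorem eight_trace {F : Type*} [Field F] (h2 : (2 : F) ≠ 0)
    (ρ : alternatingGroup (Fin 8) →* Matrix.GeneralLinearGroup (Fin 7) F) :
    (∃ w : Fin 7 → F, w ≠ 0 ∧ ∀ g, lin ρ g w = w) ∨ ∀ h : alternatingGroup (Fin 8),
      (ρ h : Matrix (Fin 7) (Fin 7) F).trace =
        ((Finset.univ.filter fun i => (h : Perm (Fin 8)) i = i).card : F) - 1 := by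
  obtain ⟨ι, hι⟩ := exists_stab_hom 7
  obtain ⟨w, hw, hfix⟩ := Cfsg.Agent.H637.SevenA7.exists_fixed_matrix (ρ.comp ι)
  rcases eight_cases h2 (lin ρ) (by rw [Module.finrank_fin_fun]) (w := w) (by
    intro g hg
    obtain ⟨g', rfl⟩ := hι g hg
    exact hfix g') with h | h
  · exact Or.inl ⟨w, hw, h⟩
  · right
    intro g
    rw [← trace_lin]
    exact h g

theorem seven_A8 {F : Type*} [Field F] [Finite F]
    (ρ : alternatingGroup (Fin 8) →* Matrix.GeneralLinearGroup (Fin 7) F)
    (habs : Cfsg.Geo.ActsAbsolutelyIrreducibly (Cfsg.Geo.matrixSet ρ.range)) (h2 : (2 : F) ≠ 0) :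
    ∀ g, ((ρ g⁻¹ : Matrix.GeneralLinearGroup (Fin 7) F) : Matrix (Fin 7) (Fin 7) F).trace =
      ((ρ g : Matrix.GeneralLinearGroup (Fin 7) F) : Matrix (Fin 7) (Fin 7) F).trace := by
  rcases eight_trace h2 ρ with ⟨w, hw, h⟩ | h
  · exact (Cfsg.Agent.H637.SevenA7.false_of_fixed (by norm_num) ρ habs.1 hw h).elim
  · intro g
    rw [h, h]
    have := card_fix_inv (g : Perm (Fin 8))
    rw [← this]
    rfl

theorem seven_A9 {F : Type*} [Field F] [Finite F]
    (ρ : alternatingGroup (Fin 9) →* Matrix.GeneralLinearGroup (Fin 7) F)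
    (habs : Cfsg.Geo.ActsAbsolutelyIrreducibly (Cfsg.Geo.matrixSet ρ.range)) (h2 : (2 : F) ≠ 0) :
    ∀ g, ((ρ g⁻¹ : Matrix.GeneralLinearGroup (Fin 7) F) : Matrix (Fin 7) (Fin 7) F).trace =
      ((ρ g : Matrix.GeneralLinearGroup (Fin 7) F) : Matrix (Fin 7) (Fin 7) F).trace := by
  obtain ⟨ι, hι⟩ := exists_stab_hom 8
  rcases eight_trace h2 (ρ.comp ι) with ⟨w, hw, h⟩ | h
  · exfalso
    have h9 := nine_fixed h2 (lin ρ) (by rw [Module.finrank_fin_fun]) (w := w) (by
      intro g hg
      obtain ⟨g', rfl⟩ := hι g hg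
      exact h g')
    exact Cfsg.Agent.H637.SevenA7.false_of_fixed (by norm_num) ρ habs.1 hw h9
  · intro g
    by_cases hg : ∀ i, (g : Perm (Fin 9)) i ≠ i
    · obtain ⟨s, hs⟩ := isConj_iff.1 (real_nine g hg)
      rw [← hs, trace_conj]
    · push Not at hg
      obtain ⟨i, hi⟩ := hg
      obtain ⟨s, hs⟩ := exists_map (n := 9) (by norm_num) i (Fin.last 8)
      obtain ⟨g', hg'⟩ := hι (s * g * s⁻¹) (by
        change (s : Perm (Fin 9)) ((g : Perm (Fin 9)) ((s : Perm (Fin 9))⁻¹ (Fin.last 8))) = _
        have h3 : (s : Perm (Fin 9))⁻¹ (Fin.last 8) = i := by rw [Equiv.Perm.inv_eq_iff_eq, hs]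
        rw [h3, hi, hs])
      have h4 : s * g⁻¹ * s⁻¹ = ι g'⁻¹ := by rw [map_inv, hg']; group
      rw [← trace_conj ρ s g⁻¹, ← trace_conj ρ s g, h4, ← hg']
      have h5 := h g'
      have h6 := h g'⁻¹
      rw [MonoidHom.comp_apply] at h5 h6
      rw [h5, h6]
      have := card_fix_inv (g' : Perm (Fin 8))
      rw [← this]
      rfl

end Cfsg.Agent.H637.SevenA8
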