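import Cfsg.Agent.H637.GLPart

/-!
# Sylow `2`-subgroups of `SL_n(q)`, `q` odd
-/

set_option autoImplicit false

namespace Cfsg.Agent.H637

open Matrix Subgroup
open scoped commutatorElement

/-- Squares in generalized quaternion groups are commutators. -/
theorem quaternion_sq (k : ℕ) (hk : 1 ≤ k) (x : QuaternionGroup (2 ^ k)) :
    x ^ 2 ∈ commutator (QuaternionGroup (2 ^ k)) := by
  have h1 : ∀ i : ZMod (2 * 2 ^ k), QuaternionGroup.a (2 * i) ∈
      commutator (QuaternionGroup (2 ^ k)) := by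
    intro i
    have h2 : ⁅(QuaternionGroup.a i : QuaternionGroup (2 ^ k)), QuaternionGroup.xa 0⁆ =
        QuaternionGroup.a (2 * i) := by
      rw [commutatorElement_def, mul_inv_eq_iff_eq_mul, mul_inv_eq_iff_eq_mul]
      simp only [QuaternionGroup.a_mul_xa, QuaternionGroup.a_mul_a, QuaternionGroup.xa_mul_a]
      congr 1
      ring
    rw [← h2]
    exact Subgroup.commutator_mem_commutator (Subgroup.mem_top _) (Subgroup.mem_top _)
  rcases x with i | i
  · rw [pow_two, QuaternionGroup.a_mul_a, ← two_mul]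
    exact h1 i
  · rw [pow_two, QuaternionGroup.xa_mul_xa]
    have h2 : ((2 ^ k : ℕ) : ZMod (2 * 2 ^ k)) + i - i = 2 * ((2 ^ (k - 1) : ℕ) : ZMod (2 * 2 ^ k)) := by
      obtain ⟨j, rfl⟩ : ∃ j, k = j + 1 := ⟨k - 1, by omega⟩
      rw [add_sub_cancel_right, Nat.add_sub_cancel, pow_succ]
      push_cast
      ring
    rw [h2]
    exact h1 _

theorem sq_mem_of_equiv_quaternion {X : Type*} [Group X] (K : Subgroup X) (k : ℕ) (hk : 1 ≤ k)
    (e : K ≃* QuaternionGroup (2 ^ k)) (x : X) (hx : x ∈ K) : x ^ 2 ∈ ⁅K, K⁆ := by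
  have h1 := quaternion_sq k hk (e ⟨x, hx⟩)
  have h2 : (⟨x, hx⟩ : K) ^ 2 ∈ commutator K := by
    have h3 : (commutator K).map e.toMonoidHom = commutator (QuaternionGroup (2 ^ k)) := by
      rw [commutator_def, commutator_def, Subgroup.map_commutator]
      congr 1 <;> exact Subgroup.map_top_of_surjective _ e.surjective
    rw [← h3] at h1
    obtain ⟨y, hy, hyx⟩ := h1
    have h4 : y = (⟨x, hx⟩ : K) ^ 2 := e.injective (by rw [map_pow]; exact hyx)
    rw [← h4]
    exact hy
  rw [← Subgroup.map_subtype_commutator]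
  exact ⟨_, h2, rfl⟩

section

variable {F : Type*} [Field F] [Fintype F]

/-- The map `SL → GL`. -/
theorem range_toGL {ι : Type} [Fintype ι] [DecidableEq ι] :
    (Matrix.SpecialLinearGroup.toGL : Matrix.SpecialLinearGroup ι F →* GL ι F).range =
      (Matrix.GeneralLinearGroup.det : GL ι F →* Fˣ).ker := by
  ext g
  constructor
  · rintro ⟨h, rfl⟩
    apply Units.ext
    exact h.2
  · intro hg
    have h1 : (g : Matrix ι ι F).det = 1 := congrArg Units.val hg
    exact ⟨⟨(g : Matrix ι ι F), h1⟩, Units.ext rfl⟩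

/-- A general form of `sq_mem_commutator_of_goodSyl`. -/
theorem sq_mem_commutator_of_injective {X Y Z : Type*} [Group X] [Group Y] [CommGroup Z] [Finite X]
    {χ : X →* Z} (h : GoodSyl χ) (j : Y →* X) (hj : Function.Injective j) (hr : j.range = χ.ker)
    (P : Sylow 2 Y) (x : (P : Subgroup Y)) : x ^ 2 ∈ commutator (P : Subgroup Y) := by
  have hY : Finite Y := Finite.of_injective j hj
  have : Fact (Nat.Prime 2) := ⟨Nat.prime_two⟩
  have hP : IsPGroup 2 ((P : Subgroup Y).map j) := P.2.map _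
  obtain ⟨S, hS⟩ := hP.exists_le_sylow
  have h1 : (P : Subgroup Y).map j = (S : Subgroup X) ⊓ χ.ker := by
    have h2 : IsPGroup 2 ((S : Subgroup X).comap j) := S.2.comap_of_injective j hj
    have h3 : (P : Subgroup Y) ≤ (S : Subgroup X).comap j := by
      intro y hy
      exact hS ⟨y, hy, rfl⟩
    have h4 : (S : Subgroup X).comap j = P := P.3 h2 h3
    rw [← h4, Subgroup.map_comap_eq, hr, inf_comm]
  have h5 : j (x : Y) ∈ (S : Subgroup X) ⊓ χ.ker := by
    rw [← h1]
    exact ⟨x, x.2, rfl⟩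
  have h6 := h S _ h5
  rw [← h1, ← Subgroup.map_commutator] at h6
  obtain ⟨y, hy, hyx⟩ := h6
  have h7 : y = ((x ^ 2 : (P : Subgroup Y)) : Y) := by
    apply hj
    rw [hyx, Subgroup.coe_pow, map_pow]
  rw [h7, ← Subgroup.map_subtype_commutator] at hy
  obtain ⟨w, hw, hwx⟩ := hy
  have h8 : w = x ^ 2 := Subtype.ext hwx
  rw [← h8]
  exact hw

/-- Conversely. -/
theorem goodSyl_of_injective {X Y Z : Type*} [Group X] [Group Y] [CommGroup Z] [Finite X]
    {χ : X →* Z} (j : Y →* X) (hj : Function.Injective j) (hr : j.range = χ.ker)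
    (h : ∀ P : Sylow 2 Y, ∀ x ∈ (P : Subgroup Y), x ^ 2 ∈ ⁅(P : Subgroup Y), (P : Subgroup Y)⁆) :
    GoodSyl χ := by
  have hY : Finite Y := Finite.of_injective j hj
  have : Fact (Nat.Prime 2) := ⟨Nat.prime_two⟩
  obtain ⟨P⟩ := (inferInstance : Nonempty (Sylow 2 Y))
  have hP : IsPGroup 2 ((P : Subgroup Y).map j) := P.2.map _
  obtain ⟨S, hS⟩ := hP.exists_le_sylow
  have h1 : (P : Subgroup Y).map j = (S : Subgroup X) ⊓ χ.ker := by
    have h2 : IsPGroup 2 ((S : Subgroup X).comap j) := S.2.comap_of_injective j hj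
    have h3 : (P : Subgroup Y) ≤ (S : Subgroup X).comap j := by
      intro y hy
      exact hS ⟨y, hy, rfl⟩
    have h4 : (S : Subgroup X).comap j = P := P.3 h2 h3
    rw [← h4, Subgroup.map_comap_eq, hr, inf_comm]
  apply goodSyl_of_exists S
  intro x hx
  rw [← h1] at hx ⊢
  obtain ⟨y, hy, rfl⟩ := hx
  rw [← Subgroup.map_commutator, ← map_pow]
  exact ⟨y ^ 2, h P y hy, rfl⟩

/-- Transport along isomorphisms. -/
theorem goodSyl_congr {X Y Z : Type*} [Group X] [Group Y] [CommGroup Z] [Finite X]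
    {χ : X →* Z} {χ' : Y →* Z} (e : Y ≃* X) (he : χ.comp e.toMonoidHom = χ')
    (h : GoodSyl χ') : GoodSyl χ := by
  have : Fact (Nat.Prime 2) := ⟨Nat.prime_two⟩
  have hY : Finite Y := Finite.of_equiv _ e.toEquiv.symm
  obtain ⟨P⟩ := (inferInstance : Nonempty (Sylow 2 Y))
  have h1 : Nat.card ((P : Subgroup Y).map e.toMonoidHom) = 2 ^ (Nat.card X).factorization 2 := by
    rw [← Nat.card_congr e.toEquiv, ← P.card_eq_multiplicity]
    exact Nat.card_congr ((P : Subgroup Y).equivMapOfInjective e.toMonoidHom e.injective).toEquiv.symm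
  apply goodSyl_of_exists (Sylow.ofCard _ h1)
  rw [Sylow.coe_ofCard]
  apply Good.map
  rw [he]
  exact h P

theorem goodSyl_GL_two (hF : Odd (Fintype.card F)) :
    GoodSyl (Matrix.GeneralLinearGroup.det : GL (Fin 2) F →* Fˣ) := by
  refine goodSyl_of_injective (Matrix.SpecialLinearGroup.toGL) ?_ range_toGL ?_
  · intro a b hab
    apply Subtype.ext
    exact congrArg Units.val hab
  · intro P x hx
    obtain ⟨k, hk, ⟨e⟩⟩ := S0261.result hF P
    exact sq_mem_of_equiv_quaternion _ k hk e x hx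

theorem det_glReindex {ι κ : Type} [Fintype ι] [DecidableEq ι] [Fintype κ] [DecidableEq κ]
    (e : ι ≃ κ) : (Matrix.GeneralLinearGroup.det : GL κ F →* Fˣ).comp
      (LieClassical.OmegaReindex.glReindex F e).toMonoidHom = Matrix.GeneralLinearGroup.det := by
  ext g
  change ((g : Matrix ι ι F).submatrix e.symm e.symm).det = (g : Matrix ι ι F).det
  rw [Matrix.det_submatrix_equiv_self]

theorem goodSyl_GL_congr {ι κ : Type} [Fintype ι] [DecidableEq ι] [Fintype κ] [DecidableEq κ]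
    (e : ι ≃ κ) (h : GoodSyl (Matrix.GeneralLinearGroup.det : GL ι F →* Fˣ)) :
    GoodSyl (Matrix.GeneralLinearGroup.det : GL κ F →* Fˣ) :=
  goodSyl_congr (LieClassical.OmegaReindex.glReindex F e) (det_glReindex e) h

/-- The determinant as a homomorphism (abbreviation). -/
def dt (ι : Type) [Fintype ι] [DecidableEq ι] (F : Type*) [Field F] : GL ι F →* Fˣ :=
  Matrix.GeneralLinearGroup.det

theorem dt_blk {ι κ : Type} [Fintype ι] [DecidableEq ι] [Fintype κ] [DecidableEq κ] (a : GL ι F)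
    (b : GL κ F) : dt (ι ⊕ κ) F (blk ι κ F (a, b)) = dt ι F a * dt κ F b := det_blk (a, b)

theorem goodSyl_GL_wreath {ι : Type} [Fintype ι] [DecidableEq ι] [Nonempty ι]
    (he : Even (Fintype.card ι)) (hc : (Nat.card (GL (ι ⊕ ι) F)).factorization 2 =
      2 * (Nat.card (GL ι F)).factorization 2 + 1) (h : SemiSyl (dt ι F)) :
    GoodSyl (dt (ι ⊕ ι) F) := by
  have h1 : ∀ y : GL ι F × GL ι F, blk ι ι F y ≠ exch ι F := fun y => blk_ne_exch y
  have h2 : dt (ι ⊕ ι) F (exch ι F) = 1 := det_exch he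
  have h3 : ∀ a b : GL ι F, exch ι F * blk ι ι F (a, b) * (exch ι F)⁻¹ = blk ι ι F (b, a) :=
    fun a b => exch_conj a b
  exact goodSyl_wreath (dt ι F) (dt (ι ⊕ ι) F) (blk ι ι F) blk_injective hc (exch ι F) exch_sq h1 h2
    h3 (fun a b => dt_blk a b) h

/-- Dimension `2 ^ (a + 1)`. -/
theorem goodSyl_GL_two_pow (hF : Odd (Fintype.card F)) (a : ℕ) :
    GoodSyl (dt (Fin (2 * 2 ^ a)) F) := by
  induction a with
  | zero => exact goodSyl_GL_two hF
  | succ a ih =>
    have e : Fin (2 * 2 ^ a) ⊕ Fin (2 * 2 ^ a) ≃ Fin (2 * 2 ^ (a + 1)) :=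
      finSumFinEquiv.trans (finCongr (by rw [pow_succ]; ring))
    apply goodSyl_GL_congr e
    have hne : Nonempty (Fin (2 * 2 ^ a)) := ⟨⟨0, by positivity⟩⟩
    refine goodSyl_GL_wreath ?_ ?_ ih.semiSyl
    · rw [Fintype.card_fin]
      exact ⟨2 ^ a, by ring⟩
    · rw [factorization_card_GL, factorization_card_GL, Fintype.card_sum, Fintype.card_fin]
      have := gv_double hF a
      rw [← this]
      congr 1
      ring

theorem mem_closure_neg_one (hF : 4 ∣ Fintype.card F + 1) {X : Type*} [Group X] [Finite X]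
    (χ : X →* Fˣ) (S : Sylow 2 X) (a : X) (ha : a ∈ (S : Subgroup X)) :
    χ a ∈ closure ({-1} : Set Fˣ) := by
  have h1 : IsPGroup 2 (S : Subgroup X) := S.2
  obtain ⟨k, hk⟩ := h1 ⟨a, ha⟩
  have h2 : a ^ 2 ^ k = 1 := congrArg Subtype.val hk
  have h3 : χ a ^ 2 ^ k = 1 := by rw [← map_pow, h2, map_one]
  have h4 : χ a ^ (Fintype.card F - 1) = 1 := by
    have := FiniteField.pow_card_sub_one_eq_one ((χ a : Fˣ) : F) (χ a).ne_zero
    apply Units.ext
    rw [Units.val_pow_eq_pow_val, this, Units.val_one]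
  have h5 : orderOf (χ a) ∣ 2 := by
    have h6 : orderOf (χ a) ∣ 2 ^ k := orderOf_dvd_of_pow_eq_one h3
    have h7 : orderOf (χ a) ∣ Fintype.card F - 1 := orderOf_dvd_of_pow_eq_one h4
    obtain ⟨j, hj, hj'⟩ := (Nat.dvd_prime_pow Nat.prime_two).1 h6
    rcases Nat.lt_or_ge j 2 with h | h
    · rw [hj']
      have h8 : j ≤ 1 := by omega
      exact (pow_dvd_pow 2 h8).trans (by norm_num)
    · exfalso
      have h8 : 4 ∣ Fintype.card F - 1 := by
        refine dvd_trans ?_ h7
        rw [hj']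
        exact (pow_dvd_pow 2 h : 2 ^ 2 ∣ 2 ^ j)
      have h9 : 1 < Fintype.card F := Fintype.one_lt_card
      omega
  have h6 : χ a ^ 2 = 1 := orderOf_dvd_iff_pow_eq_one.1 h5
  have h7 : ((χ a : Fˣ) : F) = 1 ∨ ((χ a : Fˣ) : F) = -1 := by
    have h8 : ((χ a : Fˣ) : F) * ((χ a : Fˣ) : F) = 1 := by
      have := congrArg Units.val h6
      rwa [Units.val_pow_eq_pow_val, pow_two] at this
    exact mul_self_eq_one_iff.1 h8
  rcases h7 with h7 | h7
  · have h8 : χ a = 1 := Units.ext h7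
    rw [h8]
    exact Subgroup.one_mem _
  · have h8 : χ a = -1 := Units.ext (by rw [h7]; simp)
    rw [h8]
    exact Subgroup.subset_closure rfl

theorem exists_det_neg_one {ι : Type} [Fintype ι] [DecidableEq ι] (h : 2 ≤ Fintype.card ι) :
    ∃ a : GL ι F, a ^ 2 = 1 ∧ dt ι F a = -1 := by
  obtain ⟨i, j, hij⟩ := Fintype.exists_pair_of_one_lt_card (α := ι) (by omega)
  refine ⟨permGL ι F (Equiv.swap i j), ?_, ?_⟩
  · rw [← map_pow, pow_two, Equiv.swap_mul_self, map_one]
  · change Matrix.GeneralLinearGroup.det _ = _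
    rw [det_permGL, Equiv.Perm.sign_swap hij]
    apply Units.ext
    simp

theorem goodSyl_GL_prod {ι κ : Type} [Fintype ι] [DecidableEq ι] [Fintype κ] [DecidableEq κ]
    (hF : 4 ∣ Fintype.card F + 1) (hc : (Nat.card (GL (ι ⊕ κ) F)).factorization 2 =
      (Nat.card (GL ι F)).factorization 2 + (Nat.card (GL κ F)).factorization 2)
    (h₁ : SemiSyl (dt ι F)) (h₂ : SemiSyl (dt κ F)) (hι : ∃ a : GL ι F, a ^ 2 = 1 ∧ dt ι F a = -1)
    (hκ : ∃ a : GL κ F, a ^ 2 = 1 ∧ dt κ F a = -1) : GoodSyl (dt (ι ⊕ κ) F) := by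
  refine goodSyl_prod (dt ι F) (dt κ F) (dt (ι ⊕ κ) F) (blk ι κ F) blk_injective hc
    (fun a b => dt_blk a b) h₁ h₂ {-1} ?_ ?_ (fun S a ha => mem_closure_neg_one hF _ S a ha)
    (fun S a ha => mem_closure_neg_one hF _ S a ha)
  · intro z hz
    rw [Set.mem_singleton_iff] at hz
    rw [hz]
    exact hι
  · intro z hz
    rw [Set.mem_singleton_iff] at hz
    rw [hz]
    exact hκ

theorem odd_of_four_dvd (hF : 4 ∣ Fintype.card F + 1) : Odd (Fintype.card F) := by
  rw [← Nat.not_even_iff_odd]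
  rintro ⟨k, hk⟩
  omega

/-- Even dimension, `q ≡ 3 mod 4`. -/
theorem goodSyl_GL_even (hF : 4 ∣ Fintype.card F + 1) : ∀ n : ℕ, 1 ≤ n →
    GoodSyl (dt (Fin (2 * n)) F) := by
  intro n
  induction n using Nat.strong_induction_on with
  | _ n ih =>
    intro hn
    have ho := odd_of_four_dvd hF
    -- the largest power of two
    set a := Nat.log 2 n with ha
    have h1 : 2 ^ a ≤ n := Nat.pow_log_le_self 2 (by omega)
    have h2 : n < 2 ^ (a + 1) := Nat.lt_pow_succ_log_self (by norm_num) n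
    rcases Nat.eq_or_lt_of_le h1 with h3 | h3
    · rw [← h3]
      exact goodSyl_GL_two_pow ho a
    · obtain ⟨k, hk⟩ : ∃ k, n = 2 ^ a + k := ⟨n - 2 ^ a, by omega⟩
      have hk0 : 1 ≤ k := by omega
      have hka : k < 2 ^ a := by rw [pow_succ] at h2; omega
      have ha1 : 0 < 2 ^ a := by positivity
      have e : Fin (2 * 2 ^ a) ⊕ Fin (2 * k) ≃ Fin (2 * n) :=
        finSumFinEquiv.trans (finCongr (by rw [hk]; ring))
      apply goodSyl_GL_congr e
      refine goodSyl_GL_prod hF ?_ (goodSyl_GL_two_pow ho a).semiSyl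
        (ih k (by omega) hk0).semiSyl (exists_det_neg_one ?_) (exists_det_neg_one ?_)
      · rw [factorization_card_GL, factorization_card_GL, factorization_card_GL, Fintype.card_sum,
          Fintype.card_fin, Fintype.card_fin, ← gv_split ho a k hka]
        congr 1
        ring
      · rw [Fintype.card_fin]; omega
      · rw [Fintype.card_fin]; omega

theorem dt_injective_unit : Function.Injective (dt Unit F) := by
  intro a b h
  apply Units.ext
  ext i j
  have h1 := congrArg Units.val h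
  change (a : Matrix Unit Unit F).det = (b : Matrix Unit Unit F).det at h1
  rw [Matrix.det_unique, Matrix.det_unique] at h1
  exact h1

/-- Odd dimension, `q ≡ 3 mod 4`. -/
theorem goodSyl_GL_odd (hF : 4 ∣ Fintype.card F + 1) (n : ℕ) (hn : 1 ≤ n) :
    GoodSyl (dt (Fin (2 * n + 1)) F) := by
  have ho := odd_of_four_dvd hF
  have e : Fin (2 * n) ⊕ Unit ≃ Fin (2 * n + 1) :=
    (Equiv.sumCongr (Equiv.refl _) (Fintype.equivFinOfCardEq (by simp : Fintype.card Unit = 1))).trans
      finSumFinEquiv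
  apply goodSyl_GL_congr e
  refine goodSyl_GL_prod hF ?_ (goodSyl_GL_even hF n hn).semiSyl ?_ (exists_det_neg_one ?_) ?_
  · rw [factorization_card_GL, factorization_card_GL, factorization_card_GL, Fintype.card_sum,
      Fintype.card_fin, Fintype.card_unit, gv_two_mul_add_one ho, gv_one ho]
  · intro S x hx
    have h1 : x = 1 := dt_injective_unit (hx.2.trans (map_one _).symm)
    rw [h1, one_pow]
    exact Subgroup.one_mem _
  · rw [Fintype.card_fin]; omega
  · refine ⟨-1, by rw [neg_one_sq], ?_⟩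
    apply Units.ext
    change ((-1 : Matrix Unit Unit F)).det = ((-1 : Fˣ) : F)
    rw [Matrix.det_unique]
    simp

end

end Cfsg.Agent.H637
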