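import Cfsg.Agent.H637.OrthCard
import Cfsg.Agent.H637.GLMain
import Cfsg.Agent.S0305
import Cfsg.Agent.S0306

/-!
# Sylow `2`-subgroups of orthogonal groups over fields of odd order
-/

set_option autoImplicit false

namespace Cfsg.Agent.H637

open Matrix Subgroup QuadraticMap
open Cfsg.Agent.ClassicalGeometry.Reflection
open Cfsg.Agent.LieClassical.OmegaReindex
open scoped commutatorElement

/-! ### The properties for the commutator subgroup -/

section K

variable {X Y : Type*} [Group X] [Group Y]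

/-- `Semi` for the commutator subgroup of `X` in the Sylow `2`-subgroups. -/
def SemiK (X : Type*) [Group X] : Prop := ∀ S : Sylow 2 X, Semi (commutator X) (S : Subgroup X)
/-- `Good` for the commutator subgroup of `X` in the Sylow `2`-subgroups. -/
def GoodK (X : Type*) [Group X] : Prop := ∀ S : Sylow 2 X, Good (commutator X) (S : Subgroup X)

theorem GoodK.semiK (h : GoodK X) : SemiK X := fun S => (h S).semi

theorem goodK_iff {Z : Type*} [CommGroup Z] (χ : X →* Z) (h : χ.ker = commutator X) :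
    GoodK X ↔ GoodSyl χ := by rw [GoodK, GoodSyl, h]

theorem semiK_iff {Z : Type*} [CommGroup Z] (χ : X →* Z) (h : χ.ker = commutator X) :
    SemiK X ↔ SemiSyl χ := by rw [SemiK, SemiSyl, h]

theorem map_inf_commutator (e : Y ≃* X) (T : Subgroup Y) :
    T.map e.toMonoidHom ⊓ commutator X = (T ⊓ commutator Y).map e.toMonoidHom := by
  rw [Subgroup.map_inf _ _ _ e.injective]
  congr 1
  rw [commutator_def, commutator_def, Subgroup.map_commutator,
    Subgroup.map_top_of_surjective _ e.surjective]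

theorem sylow_map_equiv [Finite X] (e : Y ≃* X) (S : Sylow 2 X) :
    ∃ T : Sylow 2 Y, (S : Subgroup X) = (T : Subgroup Y).map e.toMonoidHom := by
  have : Fact (Nat.Prime 2) := ⟨Nat.prime_two⟩
  have hY : Finite Y := Finite.of_equiv _ e.toEquiv.symm
  have h1 : Nat.card ((S : Subgroup X).map e.symm.toMonoidHom) =
      2 ^ (Nat.card Y).factorization 2 := by
    rw [Nat.card_congr e.toEquiv, ← S.card_eq_multiplicity]
    exact Nat.card_congr
      ((S : Subgroup X).equivMapOfInjective e.symm.toMonoidHom e.symm.injective).toEquiv.symm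
  refine ⟨Sylow.ofCard _ h1, ?_⟩
  rw [Sylow.coe_ofCard, Subgroup.map_map]
  have : e.toMonoidHom.comp e.symm.toMonoidHom = MonoidHom.id X := by ext x; simp
  rw [this, Subgroup.map_id]

theorem SemiK.congr [Finite X] (e : Y ≃* X) (h : SemiK Y) : SemiK X := by
  intro S x hx
  obtain ⟨T, hT⟩ := sylow_map_equiv e S
  rw [hT] at hx ⊢
  rw [map_inf_commutator] at hx ⊢
  obtain ⟨y, hy, rfl⟩ := hx
  rw [← Subgroup.map_commutator]
  exact ⟨y ^ 2, h T y hy, map_pow _ y 2⟩

theorem GoodK.congr [Finite X] (e : Y ≃* X) (h : GoodK Y) : GoodK X := by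
  intro S x hx
  obtain ⟨T, hT⟩ := sylow_map_equiv e S
  rw [hT] at hx ⊢
  rw [map_inf_commutator] at hx ⊢
  obtain ⟨y, hy, rfl⟩ := hx
  rw [← Subgroup.map_commutator]
  exact ⟨y ^ 2, h T y hy, map_pow _ y 2⟩

/-- The conclusion for the Sylow `2`-subgroups of the commutator subgroup. -/
theorem sq_mem_of_goodK [Finite X] (h : GoodK X) (P : Sylow 2 (commutator X))
    (x : (P : Subgroup (commutator X))) : x ^ 2 ∈ commutator (P : Subgroup (commutator X)) := by
  have h1 : (Abelianization.of : X →* Abelianization X).ker = commutator X := Abelianization.ker_of X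
  exact sq_mem_commutator_of_goodSyl ((goodK_iff _ h1).1 h) (commutator X) h1.symm P x

end K

/-! ### Dihedral groups -/

section Dihedral

variable {n : ℕ}

/-- The sign of the dihedral group. -/
def dsgn (n : ℕ) : DihedralGroup n →* ℤˣ where
  toFun x := match x with
    | .r _ => 1
    | .sr _ => -1
  map_one' := rfl
  map_mul' x y := by
    rcases x with i | i <;> rcases y with j | j <;> rfl

theorem exists_r {x : DihedralGroup n} (h : dsgn n x = 1) : ∃ i, x = .r i := by
  rcases x with i | i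
  · exact ⟨i, rfl⟩
  · exfalso
    change (-1 : ℤˣ) = 1 at h
    exact absurd h (by decide)

theorem exists_sr {x : DihedralGroup n} (h : dsgn n x = -1) : ∃ i, x = .sr i := by
  rcases x with i | i
  · exfalso
    change (1 : ℤˣ) = -1 at h
    exact absurd h (by decide)
  · exact ⟨i, rfl⟩

theorem semiK_dihedral [NeZero n] : SemiK (DihedralGroup n) := by
  intro S x hx
  have h1 : dsgn n x = 1 := Abelianization.commutator_subset_ker (dsgn n) hx.2
  obtain ⟨i, rfl⟩ := exists_r h1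
  have h2 : (DihedralGroup.sr 0 : DihedralGroup n) ^ 2 = 1 := by
    rw [pow_two, DihedralGroup.sr_mul_sr, sub_self]; rfl
  obtain ⟨b, hb, -, hb2⟩ := exists_mem_sylow (χ := dsgn n) h2 S
  obtain ⟨j, rfl⟩ := exists_sr hb2
  have h3 : (DihedralGroup.r i : DihedralGroup n) ^ 2 =
      ⁅(DihedralGroup.r i : DihedralGroup n), DihedralGroup.sr j⁆ := by
    rw [commutatorElement_def, eq_mul_inv_iff_mul_eq, eq_mul_inv_iff_mul_eq, pow_two]
    simp only [DihedralGroup.r_mul_r, DihedralGroup.r_mul_sr, DihedralGroup.sr_mul_r]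
    congr 1
    ring
  rw [h3]
  exact commutator_mem_commutator hx hb

end Dihedral

/-! ### Exchange of blocks -/

section Exch

variable {α ι κ : Type} [Fintype α] [DecidableEq α] [Fintype ι] [DecidableEq ι] [Fintype κ]
  [DecidableEq κ] {F : Type*} [Field F]

/-- Permutations of coordinates. -/
def operm (c : α → F) (hc : ∀ i, c i = 1) :
    Equiv.Perm α →* Cfsg.isometryGroup F (⇑(DQ c)) :=
  (permGL α F).codRestrict _ (fun σ => by
    rw [mem_isometryGroup_iff]
    intro x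
    rw [permGL_mulVec, DQ_apply, DQ_apply]
    simp only [hc]
    exact Equiv.sum_comp σ.symm (fun i => (1 : F) * (x i * x i)))

theorem one_elim (i : ι ⊕ κ) :
    (Sum.elim (fun _ : ι => (1 : F)) (fun _ : κ => (1 : F))) i = 1 := by
  rcases i with i | i <;> rfl

/-- The all-one vector. -/
def one' (ι : Type) (F : Type*) [Field F] : ι → F := fun _ => 1

theorem one'_ne (i : ι) : one' ι F i ≠ 0 := one_ne_zero

/-- The exchange of the two blocks. -/
def oexch (ι : Type) [Fintype ι] [DecidableEq ι] (F : Type*) [Field F] :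
    Cfsg.isometryGroup F (⇑(DQ (Sum.elim (one' ι F) (one' ι F)))) :=
  operm _ one_elim (Equiv.sumComm ι ι)

theorem coe_oexch : ((oexch ι F : Cfsg.isometryGroup F (⇑(DQ (Sum.elim (one' ι F) (one' ι F))))) :
    GL (ι ⊕ ι) F) = exch ι F := rfl

theorem oexch_sq : (oexch ι F) ^ 2 = 1 := Subtype.ext exch_sq

theorem oexch_conj (a b : Cfsg.isometryGroup F (⇑(DQ (one' ι F)))) :
    oexch ι F * oblk _ _ (a, b) * (oexch ι F)⁻¹ = oblk _ _ (b, a) :=
  Subtype.ext (exch_conj (a : GL ι F) (b : GL ι F))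

theorem oblk_ne_oexch [Nonempty ι] (p : Cfsg.isometryGroup F (⇑(DQ (one' ι F))) ×
    Cfsg.isometryGroup F (⇑(DQ (one' ι F)))) : oblk _ _ p ≠ oexch ι F := by
  intro h
  exact blk_ne_exch ((p.1 : GL ι F), (p.2 : GL ι F)) (congrArg Subtype.val h)

variable [Finite F]

theorem chi_oexch (h : Even (Fintype.card ι)) :
    chi (Sum.elim (one' ι F) (one' ι F)) (oexch ι F) = 1 :=
  hom_perm_eq_one ((chi (Sum.elim (one' ι F) (one' ι F))).comp
    (operm (Sum.elim (one' ι F) (one' ι F)) one_elim)) _ (sign_sumComm h)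

theorem goodSyl_O_wreath [Nonempty ι] (h2 : (2 : F) ≠ 0) (he : Even (Fintype.card ι))
    (hc : (Nat.card (Cfsg.isometryGroup F (⇑(DQ (Sum.elim (one' ι F) (one' ι F)))))).factorization 2
      = 2 * (Nat.card (Cfsg.isometryGroup F (⇑(DQ (one' ι F))))).factorization 2 + 1)
    (h : SemiSyl (chi (one' ι F))) : GoodSyl (chi (Sum.elim (one' ι F) (one' ι F))) := by
  have h1 : ∀ y, oblk (one' ι F) (one' ι F) y ≠ oexch ι F := fun y => oblk_ne_oexch y
  have h3 : ∀ a b, oexch ι F * oblk (one' ι F) (one' ι F) (a, b) * (oexch ι F)⁻¹ =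
      oblk (one' ι F) (one' ι F) (b, a) := fun a b => oexch_conj a b
  have h4 : ∀ a b, chi (Sum.elim (one' ι F) (one' ι F)) (oblk (one' ι F) (one' ι F) (a, b)) =
      chi (one' ι F) a * chi (one' ι F) b :=
    fun a b => chi_oblk h2 _ _ one'_ne one'_ne a b
  exact goodSyl_wreath (chi (one' ι F)) (chi (Sum.elim (one' ι F) (one' ι F)))
    (oblk (one' ι F) (one' ι F)) (oblk_injective _ _) hc (oexch ι F) oexch_sq h1 (chi_oexch he) h3
    h4 h

theorem goodSyl_O_prod (h2 : (2 : F) ≠ 0) (c : ι → F) (d : κ → F) (hc0 : ∀ i, c i ≠ 0)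
    (hd0 : ∀ i, d i ≠ 0) (hι : 2 ≤ Fintype.card ι) (hκ : 2 ≤ Fintype.card κ)
    (hc : (Nat.card (Cfsg.isometryGroup F (⇑(DQ (Sum.elim c d))))).factorization 2 =
      (Nat.card (Cfsg.isometryGroup F (⇑(DQ c)))).factorization 2 +
      (Nat.card (Cfsg.isometryGroup F (⇑(DQ d)))).factorization 2)
    (h₁ : SemiSyl (chi c)) (h₂ : SemiSyl (chi d)) : GoodSyl (chi (Sum.elim c d)) :=
  goodSyl_prod (chi c) (chi d) (chi (Sum.elim c d)) (oblk c d) (oblk_injective _ _) hc
    (fun a b => chi_oblk h2 c d hc0 hd0 a b) h₁ h₂ (RR F) (exists_chi_eq h2 c hc0 hι)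
    (exists_chi_eq h2 d hd0 hκ) (fun _ a _ => chi_mem_closure h2 c hc0 a)
    (fun _ a _ => chi_mem_closure h2 d hd0 a)

end Exch

/-! ### The main induction -/

section Main

variable {F : Type*} [Field F] [Fintype F]

theorem disc_one (ι : Type) [Fintype ι] [DecidableEq ι] :
    disc (DQ (one' ι F)) = 2 ^ Fintype.card ι := by
  rw [disc_DQ]
  simp [one']

theorem isSquare_disc_one (ι : Type) [Fintype ι] [DecidableEq ι] (h : Even (Fintype.card ι)) :
    IsSquare (disc (DQ (one' ι F))) := by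
  rw [disc_one]
  obtain ⟨k, hk⟩ := h
  exact ⟨2 ^ k, by rw [hk, pow_add]⟩

theorem fact_one (hF : Odd (Fintype.card F)) (ι : Type) [Fintype ι] [DecidableEq ι] (m : ℕ)
    (hm : Fintype.card ι = 2 * m) (hm1 : 1 ≤ m) :
    (Nat.card (Cfsg.isometryGroup F (⇑(DQ (one' ι F))))).factorization 2 =
      ov (Fintype.card F) m := by
  obtain ⟨k, rfl⟩ : ∃ k, m = k + 1 := ⟨m - 1, by omega⟩
  rw [Nat.factorization_def _ Nat.prime_two]
  exact (val_even hF (DQ (one' ι F)) (DQ_nondegenerate (two_ne_zero_of_odd hF) _ one'_ne) k hm).1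
    (isSquare_disc_one ι ⟨k + 1, by omega⟩)

/-- Isometry groups of the forms `DQ 1` with index types of the same cardinality. -/
theorem nonempty_equiv_one (hF : Odd (Fintype.card F)) (ι κ : Type) [Fintype ι] [DecidableEq ι]
    [Fintype κ] [DecidableEq κ] (e : ι ≃ κ) (c : ι → F) (d : κ → F) (h : ∀ i, c i = d (e i)) :
    Nonempty (Cfsg.isometryGroup F (⇑(DQ c)) ≃* Cfsg.isometryGroup F (⇑(DQ d))) := by
  refine ⟨isometryGroupReindex e _ _ ?_⟩
  intro v
  rw [DQ_apply, DQ_apply, ← Equiv.sum_comp e]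
  apply Finset.sum_congr rfl
  intro i _
  rw [h, Function.comp_apply]

theorem prop_aux2 (A B C : Prop) (h1 : ¬ (A ↔ C)) (h2 : ¬ (A ↔ B)) : B ↔ C := by tauto

/-- The base case: dimension two. -/
theorem semiK_dim_two (hF : Odd (Fintype.card F)) {ι : Type} [Fintype ι] [DecidableEq ι]
    (hι : Fintype.card ι = 2) (Q : QuadraticForm F (ι → F)) (hQ : (polarBilin Q).Nondegenerate) :
    SemiK (Cfsg.isometryGroup F (⇑Q)) := by
  have h2 := two_ne_zero_of_odd hF
  have h1 : 1 < Fintype.card F := Fintype.one_lt_card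
  have hm1 : (-1 : F) ≠ 0 := neg_ne_zero.2 one_ne_zero
  have hQ0 := disc_ne_zero' Q hQ
  by_cases hs : IsSquare (disc (quadPlus 1 F) * disc Q)
  · obtain ⟨e, he⟩ := exists_equiv h2 (quadPlus 1 F) Q
      (quadPlus_nondegenerate (m := 1)) hQ (by rw [hι]; simp) hs
    have e1 := isoConj e _ _ he
    rw [coe_quadPlus] at e1
    obtain ⟨e2⟩ := S0305.result (F := F) rfl
    have : NeZero (Fintype.card F - 1) := ⟨by omega⟩
    exact (semiK_dihedral (n := Fintype.card F - 1)).congr (e2.symm.trans e1)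
  · obtain ⟨b, hb⟩ : ∃ b : F, ¬ IsSquare (-b) := by
      obtain ⟨b, hb⟩ := FiniteField.exists_nonsquare (ClassicalGeometry.Universal.ringChar_ne_two h2)
      exact ⟨-b, by rwa [neg_neg]⟩
    have hb0 : b ≠ 0 := by
      rintro rfl
      apply hb
      rw [neg_zero]
      exact IsSquare.zero
    have hab : ∀ z₁ z₂ : F, z₁ ^ 2 + 0 * z₁ * z₂ + b * z₂ ^ 2 = 0 → z₁ = 0 ∧ z₂ = 0 := by
      intro z₁ z₂ h
      by_cases hz : z₂ = 0
      · subst hz
        simp at h
        exact ⟨h, rfl⟩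
      · exfalso
        apply hb
        refine ⟨z₁ / z₂, ?_⟩
        field_simp
        linear_combination -h
    have hnsq : ¬ IsSquare (-1 * b) := by rwa [neg_one_mul]
    have hd : IsSquare (disc (quadMinus 0 F 0 b) * disc Q) := by
      have h3 : disc (quadMinus 0 F 0 b) * disc Q = (b * disc Q) * (2 * 2) := by
        rw [disc_minus]; ring
      rw [h3]
      refine IsSquare.mul ?_ ⟨2, rfl⟩
      have e1 := ClassicalGeometry.Universal.isSquare_mul_iff h2 hm1 hb0
      have e2 := ClassicalGeometry.Universal.isSquare_mul_iff h2 hm1 hQ0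
      have e3 := ClassicalGeometry.Universal.isSquare_mul_iff h2 hb0 hQ0
      rw [disc_plus, pow_one, e2] at hs
      rw [e1] at hnsq
      rw [e3]
      exact prop_aux2 _ _ _ hs hnsq
    obtain ⟨e, he⟩ := exists_equiv h2 (quadMinus 0 F 0 b) Q
      (quadMinus_nondegenerate hab) hQ (by rw [hι]; simp) hd
    have e1 := isoConj e _ _ he
    rw [coe_quadMinus] at e1
    obtain ⟨e2⟩ := S0306.result (F := F) rfl 0 b hab
    exact (semiK_dihedral (n := Fintype.card F + 1)).congr (e2.symm.trans e1)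

theorem ker_chi_one (hF : Odd (Fintype.card F)) (ι : Type) [Fintype ι] [DecidableEq ι]
    (h : 2 ≤ Fintype.card ι) :
    (chi (one' ι F)).ker = commutator (Cfsg.isometryGroup F (⇑(DQ (one' ι F)))) :=
  ker_chi (two_ne_zero_of_odd hF) _ one'_ne h

/-- Dimension `2 ^ (a + 1)`: `Semi`, and `Good` for `a ≥ 1`. -/
theorem goodK_two_pow (hF : Odd (Fintype.card F)) (a : ℕ) :
    SemiK (Cfsg.isometryGroup F (⇑(DQ (one' (Fin (2 * 2 ^ a)) F)))) ∧
      (1 ≤ a → GoodK (Cfsg.isometryGroup F (⇑(DQ (one' (Fin (2 * 2 ^ a)) F))))) := by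
  induction a with
  | zero => exact ⟨semiK_dim_two hF (Fintype.card_fin _) _
      (DQ_nondegenerate (two_ne_zero_of_odd hF) _ one'_ne), fun h => absurd h (by norm_num)⟩
  | succ a ih =>
    have h2 := two_ne_zero_of_odd hF
    have hpos : 0 < 2 ^ a := by positivity
    have hcard : Fintype.card (Fin (2 * 2 ^ a)) = 2 * 2 ^ a := Fintype.card_fin _
    have hne : Nonempty (Fin (2 * 2 ^ a)) := ⟨⟨0, by omega⟩⟩
    have e : Fin (2 * 2 ^ a) ⊕ Fin (2 * 2 ^ a) ≃ Fin (2 * 2 ^ (a + 1)) :=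
      finSumFinEquiv.trans (finCongr (by rw [pow_succ]; ring))
    have hg : GoodK (Cfsg.isometryGroup F (⇑(DQ (one' (Fin (2 * 2 ^ (a + 1))) F)))) := by
      obtain ⟨E⟩ := nonempty_equiv_one hF _ _ e
        (Sum.elim (one' (Fin (2 * 2 ^ a)) F) (one' (Fin (2 * 2 ^ a)) F))
        (one' (Fin (2 * 2 ^ (a + 1))) F) (fun i => one_elim i)
      obtain ⟨E'⟩ := nonempty_equiv_one hF _ _ (Equiv.refl (Fin (2 * 2 ^ a) ⊕ Fin (2 * 2 ^ a)))
        (Sum.elim (one' (Fin (2 * 2 ^ a)) F) (one' (Fin (2 * 2 ^ a)) F))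
        (one' (Fin (2 * 2 ^ a) ⊕ Fin (2 * 2 ^ a)) F) (fun i => one_elim i)
      apply GoodK.congr E
      rw [goodK_iff (chi (Sum.elim (one' (Fin (2 * 2 ^ a)) F) (one' (Fin (2 * 2 ^ a)) F)))
        (ker_chi h2 _ (fun i => by rw [show (Sum.elim (one' (Fin (2 * 2 ^ a)) F)
          (one' (Fin (2 * 2 ^ a)) F)) i = 1 from one_elim i]; exact one_ne_zero)
          (by rw [Fintype.card_sum, hcard]; omega))]
      refine goodSyl_O_wreath h2 ⟨2 ^ a, by rw [hcard]; ring⟩ ?_
        ((semiK_iff _ (ker_chi_one hF _ (by rw [hcard]; omega))).1 ih.1)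
      rw [Nat.card_congr E'.toEquiv, fact_one hF (Fin (2 * 2 ^ a)) (2 ^ a) hcard hpos,
        fact_one hF (Fin (2 * 2 ^ a) ⊕ Fin (2 * 2 ^ a)) (2 * 2 ^ a)
          (by rw [Fintype.card_sum, hcard]; ring) (by omega), ov_double]
    exact ⟨hg.semiK, fun _ => hg⟩

theorem elim_one_ne (ι κ : Type) (i : ι ⊕ κ) : (Sum.elim (one' ι F) (one' κ F)) i ≠ 0 := by
  rcases i with i | i
  · exact one_ne_zero
  · exact one_ne_zero

/-- Even dimension `2 n`, form `∑ xᵢ²`. -/
theorem goodK_even (hF : Odd (Fintype.card F)) (n : ℕ) :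
    (1 ≤ n → SemiK (Cfsg.isometryGroup F (⇑(DQ (one' (Fin (2 * n)) F))))) ∧
      (2 ≤ n → GoodK (Cfsg.isometryGroup F (⇑(DQ (one' (Fin (2 * n)) F))))) := by
  induction n using Nat.strong_induction_on with
  | _ n ih =>
    have h2 := two_ne_zero_of_odd hF
    rcases Nat.eq_zero_or_pos n with h0 | hn
    · exact ⟨fun h => by omega, fun h => by omega⟩
    set a := Nat.log 2 n with ha
    have h1 : 2 ^ a ≤ n := Nat.pow_log_le_self 2 (by omega)
    have h3 : n < 2 ^ (a + 1) := Nat.lt_pow_succ_log_self (by norm_num) n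
    rcases Nat.eq_or_lt_of_le h1 with h4 | h4
    · rw [← h4]
      refine ⟨fun _ => (goodK_two_pow hF a).1, fun h => (goodK_two_pow hF a).2 ?_⟩
      by_contra h5
      have h6 : a = 0 := by omega
      rw [h6] at h
      norm_num at h
    · obtain ⟨k, hk⟩ : ∃ k, n = 2 ^ a + k := ⟨n - 2 ^ a, by omega⟩
      have hk0 : 1 ≤ k := by omega
      have hka : k < 2 ^ a := by rw [pow_succ] at h3; omega
      have hpos : 0 < 2 ^ a := by positivity
      have hc1 : Fintype.card (Fin (2 * 2 ^ a)) = 2 * 2 ^ a := Fintype.card_fin _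
      have hc2 : Fintype.card (Fin (2 * k)) = 2 * k := Fintype.card_fin _
      have e : Fin (2 * 2 ^ a) ⊕ Fin (2 * k) ≃ Fin (2 * n) :=
        finSumFinEquiv.trans (finCongr (by rw [hk]; ring))
      have hg : GoodK (Cfsg.isometryGroup F (⇑(DQ (one' (Fin (2 * n)) F)))) := by
        obtain ⟨E⟩ := nonempty_equiv_one hF _ _ e
          (Sum.elim (one' (Fin (2 * 2 ^ a)) F) (one' (Fin (2 * k)) F))
          (one' (Fin (2 * n)) F) (fun i => one_elim i)
        obtain ⟨E'⟩ := nonempty_equiv_one hF _ _ (Equiv.refl (Fin (2 * 2 ^ a) ⊕ Fin (2 * k)))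
          (Sum.elim (one' (Fin (2 * 2 ^ a)) F) (one' (Fin (2 * k)) F))
          (one' (Fin (2 * 2 ^ a) ⊕ Fin (2 * k)) F) (fun i => one_elim i)
        apply GoodK.congr E
        rw [goodK_iff (chi (Sum.elim (one' (Fin (2 * 2 ^ a)) F) (one' (Fin (2 * k)) F)))
          (ker_chi h2 _ (elim_one_ne _ _) (by rw [Fintype.card_sum, hc1]; omega))]
        refine goodSyl_O_prod h2 _ _ one'_ne one'_ne (by rw [hc1]; omega) (by rw [hc2]; omega) ?_
          ((semiK_iff _ (ker_chi_one hF _ (by rw [hc1]; omega))).1 (goodK_two_pow hF a).1)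
          ((semiK_iff _ (ker_chi_one hF _ (by rw [hc2]; omega))).1 ((ih k (by omega)).1 hk0))
        rw [Nat.card_congr E'.toEquiv, fact_one hF (Fin (2 * 2 ^ a)) (2 ^ a) hc1 hpos,
          fact_one hF (Fin (2 * k)) k hc2 hk0,
          fact_one hF (Fin (2 * 2 ^ a) ⊕ Fin (2 * k)) (2 ^ a + k)
            (by rw [Fintype.card_sum, hc1, hc2]; ring) (by omega), ov_split _ a k hka]
      exact ⟨fun _ => hg.semiK, fun _ => hg⟩

/-- **Even dimension**: all nondegenerate forms of dimension `2 m`, provided that `m ≥ 3` or the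
discriminant is a square and `m = 2`. -/
theorem goodK_even_dim (hF : Odd (Fintype.card F)) {ι : Type} [Fintype ι] [DecidableEq ι]
    (Q : QuadraticForm F (ι → F)) (hQ : (polarBilin Q).Nondegenerate) (m : ℕ)
    (hm : Fintype.card ι = 2 * m) (hm2 : 2 ≤ m) : GoodK (Cfsg.isometryGroup F (⇑Q)) := by
  have h2 := two_ne_zero_of_odd hF
  have hQ0 := disc_ne_zero' Q hQ
  by_cases hs : IsSquare (disc Q)
  · have hc : Fintype.card (Fin (2 * m)) = 2 * m := Fintype.card_fin _
    obtain ⟨e, he⟩ := exists_equiv h2 (DQ (one' (Fin (2 * m)) F)) Q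
      (DQ_nondegenerate h2 _ one'_ne) hQ (by rw [hm, hc])
      ((isSquare_disc_one _ (by rw [hc]; exact ⟨m, by ring⟩)).mul hs)
    exact ((goodK_even hF m).2 hm2).congr (isoConj e _ _ he)
  · obtain ⟨k, rfl⟩ : ∃ k, m = k + 1 := ⟨m - 1, by omega⟩
    have hk1 : 1 ≤ k := by omega
    -- the form `1 ⊥ ⟨1, d⟩` with `d = disc Q`
    set d : Fin 2 → F := ![1, disc Q] with hd
    have hd0 : ∀ i, d i ≠ 0 := by
      intro i
      fin_cases i
      · exact one_ne_zero
      · exact hQ0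
    have hc1 : Fintype.card (Fin (2 * k)) = 2 * k := Fintype.card_fin _
    have hc2 : Fintype.card (Fin 2) = 2 := Fintype.card_fin _
    have hcd0 : ∀ i, (Sum.elim (one' (Fin (2 * k)) F) d) i ≠ 0 := by
      intro i
      rcases i with i | i
      · exact one_ne_zero
      · exact hd0 i
    have hdd : disc (DQ d) = disc Q * (2 * 2) := by
      rw [disc_DQ, Fin.prod_univ_two, hd]
      simp only [Matrix.cons_val_zero, Matrix.cons_val_one]
      ring
    have hdisc : disc (DQ (Sum.elim (one' (Fin (2 * k)) F) d)) = disc Q * ((2 ^ (k + 1)) * (2 ^ (k + 1))) := by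
      rw [disc_DQ, Fintype.prod_sum_type]
      simp only [Sum.elim_inl, Sum.elim_inr]
      rw [← disc_DQ, ← disc_DQ, disc_one, hdd, hc1]
      ring
    have hnd := DQ_nondegenerate h2 (Sum.elim (one' (Fin (2 * k)) F) d) hcd0
    have hsq2 : IsSquare (disc (DQ (Sum.elim (one' (Fin (2 * k)) F) d)) * disc Q) :=
      ⟨disc Q * 2 ^ (k + 1), by rw [hdisc]; ring⟩
    obtain ⟨e, he⟩ := exists_equiv h2 (DQ (Sum.elim (one' (Fin (2 * k)) F) d)) Q hnd hQ
      (by rw [hm, Fintype.card_sum, hc1, hc2]; ring) hsq2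
    refine GoodK.congr (isoConj e _ _ he) ?_
    rw [goodK_iff (chi (Sum.elim (one' (Fin (2 * k)) F) d))
      (ker_chi h2 _ hcd0 (by rw [Fintype.card_sum, hc1]; omega))]
    have hnd2 := DQ_nondegenerate h2 d hd0
    refine goodSyl_O_prod h2 _ _ one'_ne hd0 (by rw [hc1]; omega) (by rw [hc2]) ?_
      ((semiK_iff _ (ker_chi_one hF _ (by rw [hc1]; omega))).1 ((goodK_even hF k).1 hk1))
      ((semiK_iff _ (ker_chi h2 d hd0 (by rw [hc2]))).1 (semiK_dim_two hF hc2 _ hnd2))
    rw [fact_one hF (Fin (2 * k)) k hc1 hk1, Nat.factorization_def _ Nat.prime_two,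
      Nat.factorization_def _ Nat.prime_two]
    have h5 : ¬ IsSquare (disc (DQ (Sum.elim (one' (Fin (2 * k)) F) d))) := by
      rw [hdisc, ClassicalGeometry.Universal.isSquare_mul_iff h2 hQ0
        (mul_ne_zero (pow_ne_zero _ h2) (pow_ne_zero _ h2))]
      intro h
      exact hs (h.2 ⟨_, rfl⟩)
    have h6 : ¬ IsSquare (disc (DQ d)) := by
      rw [hdd, ClassicalGeometry.Universal.isSquare_mul_iff h2 hQ0 (mul_ne_zero h2 h2)]
      intro h
      exact hs (h.2 ⟨_, rfl⟩)
    rw [(val_even hF _ hnd k (by rw [Fintype.card_sum, hc1, hc2]; ring)).2 h5,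
      (val_even hF _ hnd2 0 (by rw [hc2])).2 h6, ov_zero]

end Main

end Cfsg.Agent.H637
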