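import Cfsg.Agent.H606.PQR.Pieces
import Cfsg.Agent.H291.SCBaby
import Cfsg.Agent.H384.CentM
import Cfsg.Agent.H966.RowM
import Cfsg.Agent.H199.NSmMon
import Cfsg.Agent.H199.AbMon

/-!
# The elements of order 47 of the Monster have centralizer of order 94 (helper637; piece of S3988)
-/

set_option autoImplicit false

namespace Cfsg.Agent.H637.PQR

open Subgroup Cfsg

open scoped Pointwise in
theorem conj_into {G : Type*} [Group G] [Finite G] {p : ℕ} (hp : p.Prime) (h2 : ¬ p ^ 2 ∣ Nat.card G) {x : G}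
    (hx : orderOf x = p) (H : Subgroup G) (hH : p ∣ Nat.card H) : ∃ g : G, g * x * g⁻¹ ∈ H := by
  have := Fact.mk hp
  obtain ⟨w, hw⟩ := exists_prime_orderOf_dvd_card' (G := H) p hH
  have hw' : orderOf (w : G) = p := by rw [Subgroup.orderOf_coe, hw]
  have key : ∀ u : G, orderOf u = p → ∃ P : Sylow p G, (P : Subgroup G) = zpowers u := by
    intro u hu
    have h1 : IsPGroup p (zpowers u) := IsPGroup.of_card (n := 1) (by rw [Nat.card_zpowers, hu, pow_one])
    obtain ⟨P, hP⟩ := h1.exists_le_sylow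
    refine ⟨P, (Subgroup.eq_of_le_of_card_ge hP ?_).symm⟩
    rw [Nat.card_zpowers, hu, P.card_eq_multiplicity]
    have h3 : (Nat.card G).factorization p ≤ 1 := by
      by_contra h4
      exact h2 ((hp.pow_dvd_iff_le_factorization Nat.card_pos.ne').2 (by omega))
    calc p ^ (Nat.card G).factorization p ≤ p ^ 1 := Nat.pow_le_pow_right hp.pos h3
      _ = p := pow_one p
  obtain ⟨P, hP⟩ := key x hx
  obtain ⟨Q, hQ⟩ := key _ hw'
  obtain ⟨g, hg⟩ := MulAction.exists_smul_eq G P Q
  refine ⟨g, ?_⟩
  have h1 : MulAut.conj g • x ∈ MulAut.conj g • (P : Subgroup G) :=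
    Subgroup.smul_mem_pointwise_smul x (MulAut.conj g) _ (by rw [hP]; exact mem_zpowers x)
  rw [← Sylow.coe_subgroup_smul, hg, hQ] at h1
  have h2 : zpowers (w : G) ≤ H := by
    rw [zpowers_le]
    exact w.2
  exact h2 h1

theorem four_dvd {G : Type*} [Group G] [Finite G] {t z : G} (ht : orderOf t = 2) (hz : orderOf z = 2) (hne : z ≠ t)
    (hc : z * t = t * z) : 4 ∣ Nat.card G := by
  have htD : t ∈ centralizer ({t} : Set G) := mem_centralizer_singleton_iff.2 rfl
  have hzD : z ∈ centralizer ({t} : Set G) := mem_centralizer_singleton_iff.2 hc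
  obtain ⟨t', ht'⟩ : ∃ t' : centralizer ({t} : Set G), t' = ⟨t, htD⟩ := ⟨_, rfl⟩
  obtain ⟨z', hz'⟩ : ∃ z' : centralizer ({t} : Set G), z' = ⟨z, hzD⟩ := ⟨_, rfl⟩
  have hto : orderOf t' = 2 := by rw [← Subgroup.orderOf_coe, ht']; exact ht
  have hzo : orderOf z' = 2 := by rw [← Subgroup.orderOf_coe, hz']; exact hz
  have hcen : ∀ g : centralizer ({t} : Set G), g * t' = t' * g := by
    intro g
    rw [ht']
    exact Subtype.ext (mem_centralizer_singleton_iff.1 g.2)
  have hN : (zpowers t').Normal := by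
    constructor
    intro n hn g
    obtain ⟨i, rfl⟩ := mem_zpowers_iff.1 hn
    have h1 : g * t' ^ i * g⁻¹ = t' ^ i := by
      have h2 : Commute g (t' ^ i) := (show Commute g t' from hcen g).zpow_right i
      rw [h2.eq, mul_inv_cancel_right]
    rw [h1]
    exact zpow_mem (mem_zpowers t') i
  have h1 := card_eq_card_quotient_mul_card_subgroup (zpowers t')
  rw [Nat.card_zpowers, hto] at h1
  have h2 : orderOf (QuotientGroup.mk' (zpowers t') z') = 2 := by
    have h3 : z' ^ 2 = 1 := by rw [← hzo, pow_orderOf_eq_one]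
    apply orderOf_eq_prime
    · rw [← map_pow, h3, map_one]
    · intro h
      have h4 : z' ∈ zpowers t' := (QuotientGroup.eq_one_iff z').1 h
      obtain ⟨i, hi⟩ := mem_zpowers_iff.1 h4
      have h5 : t' ^ 2 = 1 := by rw [← hto, pow_orderOf_eq_one]
      rcases Int.even_or_odd' i with ⟨j, rfl | rfl⟩
      · rw [zpow_mul, show t' ^ (2 : ℤ) = 1 by exact_mod_cast h5, one_zpow] at hi
        rw [← hi, orderOf_one] at hzo
        exact absurd hzo (by norm_num)
      · rw [zpow_add, zpow_mul, show t' ^ (2 : ℤ) = 1 by exact_mod_cast h5, one_zpow, one_mul, zpow_one] at hi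
        apply hne
        have h6 := congrArg Subtype.val hi
        rw [ht', hz'] at h6
        exact h6.symm
  have h3 := orderOf_dvd_natCard (QuotientGroup.mk' (zpowers t') z')
  rw [h2] at h3
  have h4 : 4 ∣ Nat.card (centralizer ({t} : Set G)) := by
    rw [h1]
    exact Nat.mul_dvd_mul h3 (dvd_refl 2)
  exact h4.trans (Subgroup.card_subgroup_dvd_card _)

/-- `u` inverted by `t`, of even order: `t` commutes with an involution different from `t` -/
theorem exists_inv {G : Type*} [Group G] {t u : G} (ht : orderOf t = 2) (htu : t * u * t⁻¹ = u⁻¹) {m : ℕ} (hm : m ≠ 0)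
    (hu : orderOf u = 2 * m) (hut : u ≠ t) : ∃ z, z ∈ zpowers u ∧ orderOf z = 2 ∧ z ≠ t ∧ z * t = t * z := by
  have hz : orderOf (u ^ m) = 2 := by
    rw [orderOf_pow' u hm, hu, Nat.gcd_eq_right (Dvd.intro_left 2 rfl)]
    exact Nat.mul_div_left 2 (Nat.pos_of_ne_zero hm)
  have h1 : u ^ m * u ^ m = 1 := by rw [← pow_two, ← hz, pow_orderOf_eq_one]
  have h2 : t * u ^ m * t⁻¹ = u ^ m := by
    rw [← conj_pow, htu, inv_pow]
    exact inv_eq_of_mul_eq_one_left h1
  refine ⟨u ^ m, pow_mem (mem_zpowers u) m, hz, ?_, ?_⟩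
  · intro h
    have h3 : t * u * t⁻¹ = u := by
      rw [← h]
      have h4 : Commute (u ^ m) u := (Commute.refl u).pow_left m
      rw [h4.eq, mul_inv_cancel_right]
    rw [h3] at htu
    have h4 : orderOf u ∣ 2 := by
      apply orderOf_dvd_of_pow_eq_one
      rw [pow_two]
      nth_rewrite 1 [htu]
      exact inv_mul_cancel u
    rw [hu] at h4
    have h5 : m = 1 := by
      have h6 := Nat.le_of_dvd (by norm_num) h4
      omega
    rw [h5, pow_one] at h
    exact hut h
  · exact (mul_inv_eq_iff_eq_mul.1 h2).symm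

theorem not_dvd_three {y : Spor.Monster} (hy : orderOf y = 3) :
    ¬ 47 ∣ Nat.card (centralizer ({y} : Set Spor.Monster)) := by
  obtain ⟨f⟩ := Cfsg.Agent.MonsterP.Equiv.equiv
  rw [H537.Cop.card_centralizer_equiv f y]
  exact H199.NSmMon.three_not_dvd (Or.inl rfl) (by rw [f.orderOf_eq, hy])

theorem not_dvd_five {y : Spor.Monster} (hy : orderOf y = 5) :
    ¬ 47 ∣ Nat.card (centralizer ({y} : Set Spor.Monster)) := by
  obtain ⟨f⟩ := Cfsg.Agent.MonsterP.Equiv.equiv
  rw [H537.Cop.card_centralizer_equiv f y]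
  exact H199.AbMon.five_not_dvd' (by simp) (by rw [f.orderOf_eq, hy])

/-- the centralizer of `x` in the centralizer of the involution -/
theorem card_aux {X Y : Type*} [Group X] [Finite X] [Group Y] [Finite Y] {p : ℕ} (hp : p.Prime) (hp2 : p ≠ 2)
    (hY : H537.Cop.SC p Y) {t : X} (ht : orderOf t = 2) (hcov : IsNonsplitDoubleCover (centralizer ({t} : Set X)) Y)
    {x : X} (hx : orderOf x = p) (hxt : x ∈ centralizer ({t} : Set X))
    (hle : centralizer ({x} : Set X) ≤ centralizer ({t} : Set X)) :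
    Nat.card (centralizer ({x} : Set X)) = 2 * p := by
  have := Fact.mk hp
  obtain ⟨hc2, ⟨e⟩, -⟩ := hcov
  obtain ⟨C, hC⟩ : ∃ C, C = centralizer ({t} : Set X) := ⟨_, rfl⟩
  rw [← hC] at hc2 e hxt hle
  have htC : t ∈ C := by rw [hC]; exact mem_centralizer_singleton_iff.2 rfl
  have hcomm : ∀ c ∈ C, c * t = t * c := fun c hc => by
    rw [hC] at hc
    exact mem_centralizer_singleton_iff.1 hc
  obtain ⟨π, hπ⟩ : ∃ π : C →* Y, π = e.toMonoidHom.comp (QuotientGroup.mk' (center C)) := ⟨_, rfl⟩
  have hker : ∀ c : C, π c = 1 ↔ c ∈ center C := by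
    intro c
    rw [hπ]
    show e (QuotientGroup.mk' (center C) c) = 1 ↔ _
    rw [map_eq_one_iff e e.injective]
    exact QuotientGroup.eq_one_iff c
  -- `x'` in `C`
  obtain ⟨x', hx'⟩ : ∃ x' : C, x' = ⟨x, hxt⟩ := ⟨_, rfl⟩
  have hx'o : orderOf x' = p := by rw [← Subgroup.orderOf_coe, hx']; exact hx
  have hcard : Nat.card (centralizer ({x} : Set X)) = Nat.card (centralizer ({x'} : Set C)) := by
    have h1 : centralizer ({x'} : Set C) = (centralizer ({x} : Set X)).subgroupOf C := by
      ext c
      rw [mem_centralizer_singleton_iff, mem_subgroupOf, mem_centralizer_singleton_iff, hx']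
      constructor
      · intro h; exact congrArg Subtype.val h
      · intro h; exact Subtype.ext h
    rw [h1]
    exact (Nat.card_congr (subgroupOfEquivOfLe hle).toEquiv).symm
  have hπx : orderOf (π x') = p := by
    apply orderOf_eq_prime
    · rw [← map_pow, ← hx'o, pow_orderOf_eq_one, map_one]
    · intro h
      have h1 := (hker x').1 h
      have h2 := Subgroup.orderOf_dvd_natCard (center C) h1
      rw [hx'o, hc2] at h2
      exact hp2 ((Nat.prime_dvd_prime_iff_eq hp Nat.prime_two).1 h2)
  rw [hcard]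
  obtain ⟨D, hD⟩ : ∃ D, D = centralizer ({x'} : Set C) := ⟨_, rfl⟩
  rw [← hD]
  -- upper bound
  have h1 : Nat.card (D.map π) ∣ p := by
    rw [← hY (π x') hπx]
    apply Subgroup.card_dvd_of_le
    rintro _ ⟨c, hc, rfl⟩
    rw [SetLike.mem_coe, hD, mem_centralizer_singleton_iff] at hc
    rw [mem_centralizer_singleton_iff, ← map_mul, hc, map_mul]
  have h2 : Nat.card D = Nat.card (D.map π) * Nat.card (center C) := by
    have h3 := card_eq_card_quotient_mul_card_subgroup (π.comp D.subtype).ker
    rw [h3, Nat.card_congr (QuotientGroup.quotientKerEquivRange (π.comp D.subtype)).toEquiv]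
    have h4 : (π.comp D.subtype).range = D.map π := by rw [MonoidHom.range_comp, range_subtype]
    rw [h4]
    congr 1
    have h5 : (π.comp D.subtype).ker = (center C).subgroupOf D := by
      ext c
      rw [MonoidHom.mem_ker, mem_subgroupOf, ← hker]
      rfl
    rw [h5]
    have h6 : center C ≤ D := by
      intro c hc
      rw [hD, mem_centralizer_singleton_iff]
      exact (Subgroup.mem_center_iff.1 hc x').symm
    exact Nat.card_congr (subgroupOfEquivOfLe h6).toEquiv
  have h3 : p ∣ Nat.card (D.map π) := by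
    rw [← hπx]
    apply Subgroup.orderOf_dvd_natCard
    exact ⟨x', by rw [SetLike.mem_coe, hD, mem_centralizer_singleton_iff], rfl⟩
  rw [h2, hc2, Nat.dvd_antisymm h1 h3, mul_comm]

/-- **The centralizers of the elements of order 47 of the Monster have order 94.** -/
theorem piece_M47 (hK : Cfsg.Agent.H995.CopEngine.AllKnown.{0}) : H606.PQR.PieceM47 := by
  intro x₀ hx₀
  obtain ⟨y, hy, hcy⟩ := S5534.result
  have hM : Nat.card Spor.Monster = 808017424794512875886459904961710757005754368000000000 :=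
    Cfsg.Agent.H713.Spor.M.card_eq ⟨MulEquiv.refl _⟩
  have hfM : Finite Spor.Monster := Nat.finite_of_card_ne_zero (by rw [hM]; norm_num)
  have hfB : Finite Spor.BabyMonster := CTwoTab.BInst.finite_B
  have hcard : Nat.card (centralizer ({y} : Set Spor.Monster)) = 2 * 4154781481226426191177580544000000 := by
    obtain ⟨h1, ⟨e⟩, -⟩ := hcy
    rw [card_eq_card_quotient_mul_card_subgroup (center (centralizer ({y} : Set Spor.Monster))), h1,
      Nat.card_congr e.toEquiv, H713.Spor.B.card_b, mul_comm]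
  obtain ⟨g, hg⟩ := conj_into (p := 47) (by norm_num) (by rw [hM]; norm_num) hx₀ (centralizer ({y} : Set Spor.Monster))
    (by rw [hcard]; norm_num)
  have hx : orderOf (g * x₀ * g⁻¹) = 47 := by
    rw [← MulAut.conj_apply, MulEquiv.orderOf_eq, hx₀]
  have hcc : Nat.card (centralizer ({x₀} : Set Spor.Monster)) = Nat.card (centralizer ({g * x₀ * g⁻¹} : Set Spor.Monster)) :=
    H537.Cop.card_centralizer_equiv (MulAut.conj g) x₀
  rw [hcc]
  clear hcc
  generalize g * x₀ * g⁻¹ = x at hg hx ⊢
  have hyx : y * x = x * y := (mem_centralizer_singleton_iff.1 hg).symm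
  have hyy : y * y = 1 := by rw [← pow_two, ← hy, pow_orderOf_eq_one]
  have hyi : y⁻¹ = y := inv_eq_of_mul_eq_one_left hyy
  have hle : centralizer ({x} : Set Spor.Monster) ≤ centralizer ({y} : Set Spor.Monster) := by
    intro a ha
    rw [mem_centralizer_singleton_iff] at ha ⊢
    obtain ⟨u, hu⟩ : ∃ u, u = y * (a * y * a⁻¹) := ⟨_, rfl⟩
    have hux : u * x = x * u := by
      have h1 : a⁻¹ * x = x * a⁻¹ := by
        calc a⁻¹ * x = a⁻¹ * (x * a) * a⁻¹ := by group
          _ = a⁻¹ * (a * x) * a⁻¹ := by rw [ha]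
          _ = x * a⁻¹ := by group
      calc u * x = y * a * y * (a⁻¹ * x) := by rw [hu]; group
        _ = y * a * (y * x) * a⁻¹ := by rw [h1]; group
        _ = y * (a * x) * y * a⁻¹ := by rw [hyx]; group
        _ = (y * x) * a * y * a⁻¹ := by rw [ha]; group
        _ = x * u := by rw [hyx, hu]; group
    have hyu : y * u * y⁻¹ = u⁻¹ := by
      rw [hu, hyi]
      calc y * (y * (a * y * a⁻¹)) * y = (y * y) * (a * y * a⁻¹) * y := by group
        _ = (a * y⁻¹ * a⁻¹) * y⁻¹ := by rw [hyy, hyi]; group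
        _ = (y * (a * y * a⁻¹))⁻¹ := by group
    have hu6 : orderOf u ≤ 6 := by rw [hu]; exact H966.RowM.six hy hcard a
    have hu0 : 0 < orderOf u := orderOf_pos u
    have huy : u ≠ y := by
      intro h
      rw [hu] at h
      have h1 : a * y * a⁻¹ = 1 := mul_eq_left.1 h
      have h2 : y = 1 := by
        calc y = a⁻¹ * (a * y * a⁻¹) * a := by group
          _ = 1 := by rw [h1]; group
      rw [h2, orderOf_one] at hy
      exact absurd hy (by norm_num)
    have odd : ∀ m, m ≠ 0 → orderOf u ≠ 2 * m := by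
      intro m hm hum
      obtain ⟨z, hz, hz2, hzy, hc⟩ := exists_inv hy hyu hm hum huy
      refine H384.CentM.not_four hx ?_
      have hzx : z ∈ centralizer ({x} : Set Spor.Monster) := by
        have h1 : zpowers u ≤ centralizer ({x} : Set Spor.Monster) := by
          rw [zpowers_le, mem_centralizer_singleton_iff]
          exact hux
        exact h1 hz
      have hyx' : y ∈ centralizer ({x} : Set Spor.Monster) := mem_centralizer_singleton_iff.2 hyx
      exact four_dvd (t := (⟨y, hyx'⟩ : centralizer ({x} : Set Spor.Monster))) (z := ⟨z, hzx⟩)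
        (by rw [← Subgroup.orderOf_coe]; exact hy) (by rw [← Subgroup.orderOf_coe]; exact hz2)
        (fun h => hzy (congrArg Subtype.val h)) (Subtype.ext hc)
    have h47 : 47 ∣ Nat.card (centralizer ({u} : Set Spor.Monster)) := by
      rw [← hx]
      exact Subgroup.orderOf_dvd_natCard _ (mem_centralizer_singleton_iff.2 hux.symm)
    have hu1 : orderOf u = 1 := by
      have a1 := odd 1 (by norm_num)
      have a2 := odd 2 (by norm_num)
      have a3 := odd 3 (by norm_num)
      have a4 : orderOf u ≠ 3 := fun h => not_dvd_three h h47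
      have a5 : orderOf u ≠ 5 := fun h => not_dvd_five h h47
      omega
    rw [orderOf_eq_one_iff, hu] at hu1
    have h1 : a * y * a⁻¹ = y := by
      rw [← hyi]
      have h2 := eq_inv_of_mul_eq_one_right hu1
      rw [hyi] at h2 ⊢
      exact h2
    exact mul_inv_eq_iff_eq_mul.1 h1
  exact card_aux (by norm_num) (by norm_num) (H291.SCBaby.sc hK) hy hcy hx hg hle

end Cfsg.Agent.H637.PQR
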