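import Cfsg.Agent.H637.A7Mat

/-!
# The four-dimensional representation of `2.A₇` over a ring with `b² + b + 2 = 0` (helper637)

* `S b i` : the generators, `S_cube`, `S_sq` : the relations, `X b` the element of order seven, its trace;
* `herm` : `(S i at -1 - b)ᵀ H (S i) = H`;
* Norton data for the module and its symmetric square.
-/

set_option autoImplicit false

namespace Cfsg.Agent.H637.A7Ev

open Matrix Cfsg.Agent.H637.A7Mat

variable {R : Type*} [CommRing R]

/-- evaluation of a pair of integer matrices -/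
def ev (b : R) (X : MZ) : Matrix (Fin 4) (Fin 4) R := X.1.map (Int.castRingHom R) + b • X.2.map (Int.castRingHom R)

theorem ev_add (b : R) (X Y : MZ) : ev b (X + Y) = ev b X + ev b Y := by
  unfold ev
  rw [Prod.fst_add, Prod.snd_add, Matrix.map_add _ (map_add _), Matrix.map_add _ (map_add _), smul_add]
  abel

theorem ev_neg (b : R) (X : MZ) : ev b (-X) = - ev b X := by
  unfold ev
  ext i j
  simp
  ring

theorem ev_zero (b : R) : ev b 0 = 0 := by
  unfold ev
  ext i j
  simp

theorem ev_sum (b : R) {ι : Type*} (s : Finset ι) (f : ι → MZ) : ev b (∑ i ∈ s, f i) = ∑ i ∈ s, ev b (f i) := by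
  classical
  induction s using Finset.induction_on with
  | empty => rw [Finset.sum_empty, Finset.sum_empty, ev_zero]
  | insert a s ha ih => rw [Finset.sum_insert ha, Finset.sum_insert ha, ev_add, ih]

theorem ev_tt (b : R) (X : MZ) : ev b (tt X) = (ev b X)ᵀ := by
  unfold ev tt
  ext i j
  simp

theorem ev_apply (b : R) (X : MZ) (i j : Fin 4) : ev b X i j = (X.1 i j : R) + b * (X.2 i j : R) := by
  unfold ev
  simp

theorem ev_sc (b : R) (c : ℤ × ℤ) : ev b (sc c) = ((c.1 : R) + b * c.2) • (1 : Matrix (Fin 4) (Fin 4) R) := by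
  ext i j
  rw [ev_apply]
  show (((c.1 • (1 : Matrix (Fin 4) (Fin 4) ℤ)) i j : ℤ) : R) + b * (((c.2 • (1 : Matrix (Fin 4) (Fin 4) ℤ)) i j : ℤ) : R) = _
  rw [Matrix.smul_apply, Matrix.smul_apply, Matrix.smul_apply, smul_eq_mul, smul_eq_mul, smul_eq_mul]
  by_cases h : i = j
  · subst h
    rw [Matrix.one_apply_eq, Matrix.one_apply_eq]
    simp
  · rw [Matrix.one_apply_ne h, Matrix.one_apply_ne h]
    simp

theorem ev_mm {b : R} (hb : b * b + b + 2 = 0) (X Y : MZ) : ev b (mm X Y) = ev b X * ev b Y := by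
  have h1 : ∀ A B : Matrix (Fin 4) (Fin 4) ℤ, ∀ i j, ((A * B) i j : ℤ) =
      ((A.map (Int.castRingHom R) * B.map (Int.castRingHom R)) i j : R) := by
    intro A B i j
    rw [← Matrix.map_mul, Matrix.map_apply]
    rfl
  ext i j
  rw [ev_apply]
  unfold ev mm
  simp only [Matrix.add_mul, Matrix.mul_add, Matrix.smul_mul, Matrix.mul_smul, Matrix.add_apply, Matrix.sub_apply,
    Matrix.smul_apply, smul_eq_mul, ← h1]
  push_cast
  linear_combination (-((X.2 * Y.2) i j : ℤ) : R) * hb

theorem ev_cc (b : R) (X : MZ) : ev b (cc X) = ev (-1 - b) X := by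
  unfold ev cc
  ext i j
  simp
  ring

theorem ev_eu (b : R) (i j : Fin 4) : ev b (eu i j) = Matrix.single i j 1 := by
  unfold ev eu
  ext k l
  simp [Matrix.single_apply]

theorem trace_ev (b : R) (X : MZ) : (ev b X).trace = (X.1.trace : R) + b * (X.2.trace : R) := by
  unfold ev
  rw [Matrix.trace_add, Matrix.trace_smul, smul_eq_mul]
  congr 1
  · simp [Matrix.trace]
  · simp [Matrix.trace]

theorem ev_map {R' : Type*} [CommRing R'] (f : R →+* R') (b : R) (X : MZ) : (ev b X).map f = ev (f b) X := by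
  ext i j
  rw [Matrix.map_apply, ev_apply, ev_apply, map_add, map_mul, map_intCast, map_intCast]

variable (b : R)

/-- the generators -/
def S (i : Fin 5) : Matrix (Fin 4) (Fin 4) R := ev b (SZ i)

/-- a word in the generators -/
def W (w : List (Fin 5)) : Matrix (Fin 4) (Fin 4) R := (w.map (S b)).prod

/-- the element of order seven -/
def X : Matrix (Fin 4) (Fin 4) R := W b [0, 1, 2, 3, 4]

variable {b} (hb : b * b + b + 2 = 0)

include hb

theorem ev_wd (w : List (Fin 5)) : ev b (wd w) = W b w := by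
  induction w with
  | nil =>
    rw [wd, ev_sc]
    simp [W]
  | cons i w ih =>
    rw [wd, ev_mm hb, ih]
    simp [W, S]

theorem ev_xp (n : ℕ) : ev b (xp n) = X b ^ n := by
  induction n with
  | zero =>
    rw [xp, ev_sc]
    simp
  | succ n ih =>
    rw [xp, ev_mm hb, ih, pow_succ']
    congr 1
    exact ev_wd hb _

theorem S_quad (i : Fin 5) : S b i * S b i + S b i + 1 = 0 := by
  have h := congrArg (ev b) (cube i)
  rw [ev_add, ev_add, ev_mm hb, ev_zero, ev_sc] at h
  simpa [S] using h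

theorem S_cube (i : Fin 5) : S b i ^ 3 = 1 := by
  have h := S_quad hb i
  have h1 : S b i ^ 3 = (S b i - 1) * (S b i * S b i + S b i + 1) + 1 := by noncomm_ring
  rw [h1, h, mul_zero, zero_add]

theorem S_sq {i j : Fin 5} (hij : i ≠ j) : (S b i * S b j) ^ 2 = -1 := by
  have h := congrArg (ev b) (sq i j hij)
  rw [ev_mm hb, ev_mm hb, ev_sc] at h
  rw [pow_two]
  simpa [S] using h

theorem X_seven : X b ^ 7 = 1 := by
  have h := congrArg (ev b) x_seven
  rw [ev_xp hb, ev_sc] at h
  simpa using h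

theorem trace_X : (X b).trace = 1 + b := by
  have h1 := trace_ev b xZ
  have h2 := Prod.ext_iff.1 x_tr
  dsimp only at h2
  rw [h2.1, h2.2, show ev b xZ = X b from ev_wd hb _] at h1
  rw [h1]
  simp

theorem trace_X2 : (X b ^ 2).trace = 1 + b := by
  have h1 := trace_ev b (xp 2)
  have h2 := Prod.ext_iff.1 x_tr2
  dsimp only at h2
  rw [h2.1, h2.2, ev_xp hb] at h1
  rw [h1]
  simp

theorem trace_X6 : (X b ^ 6).trace = -b := by
  have h1 := trace_ev b (xp 6)
  have h2 := Prod.ext_iff.1 x_tr6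
  dsimp only at h2
  rw [h2.1, h2.2, ev_xp hb] at h1
  rw [h1]
  simp

theorem trace_X5 : (X b ^ 5).trace = -b := by
  have h1 := trace_ev b (xp 5)
  have h2 := Prod.ext_iff.1 x_tr5
  dsimp only at h2
  rw [h2.1, h2.2, ev_xp hb] at h1
  rw [h1]
  simp

/-- the form -/
theorem S_herm (i : Fin 5) : (S (-1 - b) i)ᵀ * ev b HZ * S b i = ev b HZ := by
  have h := congrArg (ev b) (herm i)
  rw [ev_mm hb, ev_mm hb, ev_tt, ev_cc] at h
  exact h

theorem H_inv : ev b HZ * ev b HiZ = 1 := by
  have h := congrArg (ev b) herm_inv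
  rw [ev_mm hb, ev_sc] at h
  simpa using h

theorem H_inv' : ev b HiZ * ev b HZ = 1 := by
  have h := congrArg (ev b) herm_inv'
  rw [ev_mm hb, ev_sc] at h
  simpa using h

end Cfsg.Agent.H637.A7Ev
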