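import Cfsg.Agent.Blocks.ModularTraces

/-!
# Pairs of irreducible representations that are not self-dual (helper637)

* `dual_irreducible` : the dual of an irreducible representation is irreducible;
* `pair` : if `c (τ_ρ - τ_ρ*) = d (τ_σ - τ_σ*)`, `c ≠ 0`, `ρ`, `σ` irreducible over an algebraically closed field and `ρ` is not
  self-dual then `ρ` or its dual has the trace and the dimension of `σ`;
* `norton` : a criterion for irreducibility.
-/

set_option autoImplicit false

namespace Cfsg.Agent.H637.RepPair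

open Module Representation

universe u w

variable {K : Type u} [Field K] {G : Type w} [Group G]

section one

variable {V : Type u} [AddCommGroup V] [Module K V] (ρ : Representation K G V)

/-- the trace of a representation -/
noncomputable def tau (g : G) : K := LinearMap.trace K V (ρ g)

theorem tau_conj (g x : G) : tau ρ (x * g * x⁻¹) = tau ρ g := by
  unfold tau
  rw [ρ.map_mul, LinearMap.trace_mul_comm, ← ρ.map_mul, ← mul_assoc, inv_mul_cancel, one_mul]

theorem tau_dual [FiniteDimensional K V] (g : G) : tau ρ.dual g = tau ρ g⁻¹ := by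
  unfold tau
  rw [Representation.dual_apply, LinearMap.trace_transpose']

/-- irreducibility from invariant subspaces -/
theorem irreducible_of [Nontrivial V] (h : ∀ X : Submodule K V, (∀ g, ∀ v ∈ X, ρ g v ∈ X) → X = ⊥ ∨ X = ⊤) :
    ρ.IsIrreducible := by
  refine { toNontrivial := ⟨⊥, ⊤, fun e => ?_⟩, eq_bot_or_eq_top := fun X => ?_ }
  · obtain ⟨v, hv⟩ := exists_ne (0 : V)
    have h1 : v ∈ (⊤ : Subrepresentation ρ) := trivial
    rw [← e] at h1
    exact hv h1
  · rcases h X.toSubmodule (fun g v hv => X.apply_mem_toSubmodule g hv) with h | h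
    · left
      apply Subrepresentation.toSubmodule_injective
      rw [h]; rfl
    · right
      apply Subrepresentation.toSubmodule_injective
      rw [h]; rfl

variable {ρ}

theorem nontrivial_of (h : ρ.IsIrreducible) : Nontrivial V := by
  by_contra hn
  rw [not_nontrivial_iff_subsingleton] at hn
  obtain ⟨x, y, hxy⟩ := h.toNontrivial
  apply hxy
  apply SetLike.ext
  intro v
  have hv : v = 0 := Subsingleton.elim _ _
  subst hv
  exact ⟨fun _ => y.toSubmodule.zero_mem, fun _ => x.toSubmodule.zero_mem⟩

theorem bot_or_top (h : ρ.IsIrreducible) (X : Submodule K V) (hX : ∀ g, ∀ v ∈ X, ρ g v ∈ X) : X = ⊥ ∨ X = ⊤ := by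
  rcases h.eq_bot_or_eq_top ⟨X, fun g v hv => hX g v hv⟩ with h | h
  · left
    exact congrArg Subrepresentation.toSubmodule h
  · right
    exact congrArg Subrepresentation.toSubmodule h

theorem dual_irreducible [FiniteDimensional K V] (h : ρ.IsIrreducible) : ρ.dual.IsIrreducible := by
  have := nontrivial_of h
  refine irreducible_of _ fun X hX => ?_
  have hinv : ∀ g, ∀ v ∈ X.dualCoannihilator, ρ g v ∈ X.dualCoannihilator := by
    intro g v hv
    rw [Submodule.mem_dualCoannihilator] at hv ⊢
    intro f hf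
    have h1 := hv _ (hX g⁻¹ f hf)
    rw [Representation.dual_apply, inv_inv] at h1
    exact h1
  rcases bot_or_top h _ hinv with h1 | h1
  · right
    rw [← Subspace.dualCoannihilator_dualAnnihilator_eq (W := X), h1, Submodule.dualAnnihilator_bot]
  · left
    rw [← Subspace.dualCoannihilator_dualAnnihilator_eq (W := X), h1, Submodule.dualAnnihilator_top]

/-- **Norton's criterion.** -/
theorem norton {a : Module.End K V} {u : V} {φ : V →ₗ[K] K} [Nontrivial V]
    (ha : ∀ X : Submodule K V, (∀ g, ∀ v ∈ X, ρ g v ∈ X) → ∀ v ∈ X, a v ∈ X) (hau : ∀ v, a v = φ v • u)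
    (h1 : ∀ X : Submodule K V, (∀ g, ∀ v ∈ X, ρ g v ∈ X) → u ∈ X → X = ⊤)
    (h2 : ∀ v, (∀ g, φ (ρ g v) = 0) → v = 0) : ρ.IsIrreducible := by
  refine irreducible_of _ fun X hX => ?_
  by_cases hb : X = ⊥
  · exact Or.inl hb
  · right
    obtain ⟨v, hv, hv0⟩ := Submodule.exists_mem_ne_zero_of_ne_bot hb
    obtain ⟨g, hg⟩ : ∃ g, φ (ρ g v) ≠ 0 := by
      by_contra hcon
      push Not at hcon
      exact hv0 (h2 v hcon)
    apply h1 X hX
    have h3 := ha X hX _ (hX g v hv)
    rw [hau] at h3
    have h4 := X.smul_mem (φ (ρ g v))⁻¹ h3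
    rwa [smul_smul, inv_mul_cancel₀ hg, one_smul] at h4

end one

section equiv

variable {V W : Type u} [AddCommGroup V] [Module K V] [AddCommGroup W] [Module K W]
  {ρ : Representation K G V} {σ : Representation K G W}

theorem tau_of_equiv (e : Representation.Equiv ρ σ) (g : G) : tau ρ g = tau σ g := by
  unfold tau
  have h1 : σ g = (e.toLinearEquiv).conj (ρ g) := by
    ext v
    rw [LinearEquiv.conj_apply_apply]
    have h2 : e.toLinearEquiv (ρ g (e.toLinearEquiv.symm v)) = σ g (e.toLinearEquiv (e.toLinearEquiv.symm v)) :=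
      IntertwiningMap.isIntertwining ρ σ e.toIntertwiningMap g (e.toLinearEquiv.symm v)
    rw [LinearEquiv.apply_symm_apply] at h2
    exact h2.symm
  rw [h1, LinearMap.trace_conj']

theorem finrank_of_equiv (e : Representation.Equiv ρ σ) : finrank K V = finrank K W :=
  e.toLinearEquiv.finrank_eq

end equiv

section pair

variable (K) (V W : Type u) [AddCommGroup V] [Module K V] [AddCommGroup W] [Module K W]

/-- the four spaces -/
def VV : Fin 4 → Type u
  | 0 => V
  | 1 => Module.Dual K V
  | 2 => W
  | 3 => Module.Dual K W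

instance acg (i : Fin 4) : AddCommGroup (VV K V W i) :=
  match i with
  | 0 => inferInstanceAs (AddCommGroup V)
  | 1 => inferInstanceAs (AddCommGroup (Module.Dual K V))
  | 2 => inferInstanceAs (AddCommGroup W)
  | 3 => inferInstanceAs (AddCommGroup (Module.Dual K W))

instance mdl (i : Fin 4) : Module K (VV K V W i) :=
  match i with
  | 0 => inferInstanceAs (Module K V)
  | 1 => inferInstanceAs (Module K (Module.Dual K V))
  | 2 => inferInstanceAs (Module K W)
  | 3 => inferInstanceAs (Module K (Module.Dual K W))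

instance fdm [FiniteDimensional K V] [FiniteDimensional K W] (i : Fin 4) : FiniteDimensional K (VV K V W i) :=
  match i with
  | 0 => inferInstanceAs (FiniteDimensional K V)
  | 1 => inferInstanceAs (FiniteDimensional K (Module.Dual K V))
  | 2 => inferInstanceAs (FiniteDimensional K W)
  | 3 => inferInstanceAs (FiniteDimensional K (Module.Dual K W))

variable {V W}

/-- the four representations -/
def RR (ρ : Representation K G V) (σ : Representation K G W) : ∀ i : Fin 4, Representation K G (VV K V W i)
  | 0 => ρ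
  | 1 => ρ.dual
  | 2 => σ
  | 3 => σ.dual

variable {K} [FiniteDimensional K V] [FiniteDimensional K W]

/-- **Two pairs of dual representations with proportional trace differences coincide.** -/
theorem pair [IsAlgClosed K] {ρ : Representation K G V} {σ : Representation K G W} (hρ : ρ.IsIrreducible)
    (hσ : σ.IsIrreducible) {c d : K} (hc : c ≠ 0)
    (h : ∀ g, c * (tau ρ g - tau ρ g⁻¹) = d * (tau σ g - tau σ g⁻¹)) (hne : ∃ g, tau ρ g⁻¹ ≠ tau ρ g) :
    finrank K V = finrank K W ∧ ((∀ g, tau ρ g = tau σ g) ∨ ∀ g, tau ρ g = tau σ g⁻¹) := by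
  by_contra hcon
  rw [not_and_or, not_or] at hcon
  -- the equivalences excluded
  have e1 : ∀ {X Y : Type u} [AddCommGroup X] [Module K X] [AddCommGroup Y] [Module K Y]
      {α : Representation K G X} {β : Representation K G Y}, (¬ (finrank K X = finrank K Y ∧ ∀ g, tau α g = tau β g)) →
      IsEmpty (Representation.Equiv α β) ∧ IsEmpty (Representation.Equiv β α) := by
    intro X Y _ _ _ _ α β hn
    exact ⟨⟨fun e => hn ⟨finrank_of_equiv e, fun g => tau_of_equiv e g⟩⟩,
      ⟨fun e => hn ⟨(finrank_of_equiv e).symm, fun g => (tau_of_equiv e g).symm⟩⟩⟩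
  have hdV : finrank K (Module.Dual K V) = finrank K V := Subspace.dual_finrank_eq
  have hdW : finrank K (Module.Dual K W) = finrank K W := Subspace.dual_finrank_eq
  have hns : ∃ g, tau σ g⁻¹ ≠ tau σ g := by
    by_contra hcon'
    push Not at hcon'
    obtain ⟨g, hg⟩ := hne
    have h1 := h g
    rw [hcon' g, sub_self, mul_zero] at h1
    rcases mul_eq_zero.1 h1 with h1 | h1
    · exact hc h1
    · exact hg (sub_eq_zero.1 h1).symm
  have n01 : ¬ (finrank K V = finrank K (Module.Dual K V) ∧ ∀ g, tau ρ g = tau ρ.dual g) := by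
    rintro ⟨-, h1⟩
    obtain ⟨g, hg⟩ := hne
    have h2 := h1 g
    rw [tau_dual] at h2
    exact hg h2.symm
  have n23 : ¬ (finrank K W = finrank K (Module.Dual K W) ∧ ∀ g, tau σ g = tau σ.dual g) := by
    rintro ⟨-, h1⟩
    obtain ⟨g, hg⟩ := hns
    have h2 := h1 g
    rw [tau_dual] at h2
    exact hg h2.symm
  have n02 : ¬ (finrank K V = finrank K W ∧ ∀ g, tau ρ g = tau σ g) := by
    rintro ⟨h1, h2⟩
    rcases hcon with h3 | h3
    · exact h3 h1
    · exact h3.1 h2
  have n03 : ¬ (finrank K V = finrank K (Module.Dual K W) ∧ ∀ g, tau ρ g = tau σ.dual g) := by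
    rintro ⟨h1, h2⟩
    rcases hcon with h3 | h3
    · exact h3 (h1.trans hdW)
    · refine h3.2 fun g => ?_
      rw [h2, tau_dual]
  have n12 : ¬ (finrank K (Module.Dual K V) = finrank K W ∧ ∀ g, tau ρ.dual g = tau σ g) := by
    rintro ⟨h1, h2⟩
    rcases hcon with h3 | h3
    · exact h3 (hdV.symm.trans h1)
    · refine h3.2 fun g => ?_
      have h4 := h2 g⁻¹
      rw [tau_dual, inv_inv] at h4
      exact h4
  have n13 : ¬ (finrank K (Module.Dual K V) = finrank K (Module.Dual K W) ∧ ∀ g, tau ρ.dual g = tau σ.dual g) := by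
    rintro ⟨h1, h2⟩
    rcases hcon with h3 | h3
    · exact h3 (hdV.symm.trans (h1.trans hdW))
    · refine h3.1 fun g => ?_
      have h4 := h2 g⁻¹
      rw [tau_dual, tau_dual, inv_inv] at h4
      exact h4
  have hind := Blocks.ModularTraces.linearIndependent_trace (RR K ρ σ) (fun i =>
    match i with
    | 0 => hρ
    | 1 => dual_irreducible hρ
    | 2 => hσ
    | 3 => dual_irreducible hσ) (fun i j hij =>
    match i, j with
    | 0, 1 => (e1 n01).1
    | 1, 0 => (e1 n01).2
    | 2, 3 => (e1 n23).1
    | 3, 2 => (e1 n23).2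
    | 0, 2 => (e1 n02).1
    | 2, 0 => (e1 n02).2
    | 0, 3 => (e1 n03).1
    | 3, 0 => (e1 n03).2
    | 1, 2 => (e1 n12).1
    | 2, 1 => (e1 n12).2
    | 1, 3 => (e1 n13).1
    | 3, 1 => (e1 n13).2
    | 0, 0 => absurd rfl hij
    | 1, 1 => absurd rfl hij
    | 2, 2 => absurd rfl hij
    | 3, 3 => absurd rfl hij)
  rw [Fintype.linearIndependent_iff] at hind
  have h5 := hind ![c, -c, -d, d] (by
    funext g
    simp only [Fin.sum_univ_four, Pi.add_apply, Pi.smul_apply, smul_eq_mul, Pi.zero_apply]
    have h6 := h g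
    have h7 := tau_dual ρ g
    have h8 := tau_dual σ g
    show c * tau ρ g + -c * tau ρ.dual g + -d * tau σ g + d * tau σ.dual g = 0
    rw [h7, h8]
    linear_combination h6) 0
  exact hc h5

end pair

end Cfsg.Agent.H637.RepPair
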