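import Cfsg.Agent.H637.A7Ev
import Cfsg.Agent.H637.RepPair

/-!
# Irreducibility of the four-dimensional representation of `2.A₇` and of its symmetric square (helper637)

`ρ : G →* M₄(K)` with `ρ (gᵢ) = S b i`, `b² + b + 2 = 0`, `K` not of characteristic `7`:
`four_irreducible`; for `K` not of characteristic `2` : `sym_irreducible`; `tau_four`, `tau_sym` : the traces.
-/

set_option autoImplicit false
set_option linter.unusedSectionVars false

namespace Cfsg.Agent.H637.A7Four

open Matrix Module Cfsg.Agent.H637.A7Mat Cfsg.Agent.H637.A7Ev Cfsg.Agent.H637.RepPair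

universe u w

variable {K : Type u} [Field K] {G : Type w} [Group G]

section rep

variable {n : Type} [Fintype n] [DecidableEq n] (ρ : G →* Matrix n n K)

/-- the representation on `Kⁿ` -/
noncomputable def rep : Representation K G (n → K) where
  toFun g := Matrix.toLin' (ρ g)
  map_one' := by rw [map_one, Matrix.toLin'_one]; rfl
  map_mul' a b := by rw [map_mul, Matrix.toLin'_mul]; rfl

theorem rep_apply (g : G) (v : n → K) : rep ρ g v = ρ g *ᵥ v := rfl

theorem tau_rep (g : G) : tau (rep ρ) g = (ρ g).trace := by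
  show LinearMap.trace K (n → K) (Matrix.toLin' (ρ g)) = _
  rw [Matrix.trace_toLin'_eq]

end rep

section sym

variable (n : Type) [Fintype n] [DecidableEq n]

/-- symmetric matrices -/
def Sym (K : Type u) [Field K] : Submodule K (Matrix n n K) where
  carrier := {M | Mᵀ = M}
  add_mem' := fun {a b} ha hb => by
    show (a + b)ᵀ = a + b
    rw [Matrix.transpose_add, show aᵀ = a from ha, show bᵀ = b from hb]
  zero_mem' := Matrix.transpose_zero
  smul_mem' := fun c a ha => by
    show (c • a)ᵀ = c • a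
    rw [Matrix.transpose_smul, show aᵀ = a from ha]

variable {n}

/-- `M ↦ A M Aᵀ` -/
def act (A : Matrix n n K) : Matrix n n K →ₗ[K] Matrix n n K where
  toFun M := A * M * Aᵀ
  map_add' M N := by rw [Matrix.mul_add, Matrix.add_mul]
  map_smul' c M := by rw [Matrix.mul_smul, Matrix.smul_mul]; rfl

theorem act_mem (A : Matrix n n K) {M : Matrix n n K} (hM : M ∈ Sym n K) : act A M ∈ Sym n K := by
  show (A * M * Aᵀ)ᵀ = A * M * Aᵀ
  rw [Matrix.transpose_mul, Matrix.transpose_mul, Matrix.transpose_transpose, show Mᵀ = M from hM, Matrix.mul_assoc]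

variable (ρ : G →* Matrix n n K)

/-- the symmetric square -/
noncomputable def sym : Representation K G (Sym n K) where
  toFun g := (act (ρ g)).restrict fun M hM => act_mem (ρ g) hM
  map_one' := by
    ext M
    show (ρ 1 * M.1 * (ρ 1)ᵀ) _ _ = M.1 _ _
    rw [map_one, Matrix.transpose_one, Matrix.one_mul, Matrix.mul_one]
  map_mul' a b := by
    ext M
    show (ρ (a * b) * M.1 * (ρ (a * b))ᵀ) _ _ = (ρ a * (ρ b * M.1 * (ρ b)ᵀ) * (ρ a)ᵀ) _ _
    rw [map_mul, Matrix.transpose_mul]
    simp only [Matrix.mul_assoc]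

theorem sym_apply (g : G) (M : Sym n K) : (sym ρ g M : Matrix n n K) = ρ g * M * (ρ g)ᵀ := rfl

theorem trace_end (f : Matrix n n K →ₗ[K] Matrix n n K) :
    LinearMap.trace K _ f = ∑ i, ∑ j, f (Matrix.single i j 1) i j := by
  rw [LinearMap.trace_eq_matrix_trace K (Matrix.stdBasis K n n) f, Matrix.trace, Fintype.sum_prod_type]
  refine Finset.sum_congr rfl fun i _ => Finset.sum_congr rfl fun j _ => ?_
  rw [Matrix.diag_apply, LinearMap.toMatrix_apply, Matrix.stdBasis_eq_single]
  rfl

/-- the symmetrisation -/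
noncomputable def symm (K : Type u) [Field K] : Matrix n n K →ₗ[K] Matrix n n K where
  toFun M := (2 : K)⁻¹ • (M + Mᵀ)
  map_add' M N := by
    rw [Matrix.transpose_add, ← smul_add]
    congr 1
    abel
  map_smul' c M := by
    rw [Matrix.transpose_smul, ← smul_add, smul_comm]
    rfl

theorem symm_apply (M : Matrix n n K) : symm K M = (2 : K)⁻¹ • (M + Mᵀ) := rfl

/-- twice the trace of the symmetric square -/
theorem tau_sym (h2 : (2 : K) ≠ 0) (g : G) : 2 * tau (sym ρ) g = (ρ g).trace ^ 2 + (ρ g * ρ g).trace := by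
  set A := ρ g with hA
  have hmem : ∀ M : Matrix n n K, ((act A).comp (symm K)) M ∈ Sym n K := by
    intro M
    apply act_mem
    show (symm K M)ᵀ = symm K M
    rw [symm_apply, Matrix.transpose_smul, Matrix.transpose_add, Matrix.transpose_transpose, add_comm]
  have hfix : ∀ M : Matrix n n K, M ∈ Sym n K → symm K M = M := by
    intro M hM
    rw [symm_apply, show Mᵀ = M from hM, ← two_smul K M, smul_smul, inv_mul_cancel₀ h2, one_smul]
  have h1 := LinearMap.trace_restrict_eq_of_forall_mem (Sym n K) ((act A).comp (symm K)) hmem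
  have h3 : tau (sym ρ) g = LinearMap.trace K _ ((act A).comp (symm K)) := by
    rw [← h1]
    unfold tau
    congr 1
    ext M
    show (A * M.1 * Aᵀ) _ _ = (A * (symm K M.1) * Aᵀ) _ _
    rw [hfix _ M.2]
  rw [h3, trace_end]
  have h4 : ∀ i j, ((act A).comp (symm K)) (Matrix.single i j 1) i j = (2 : K)⁻¹ * (A i i * A j j + A i j * A j i) := by
    intro i j
    show (A * ((2 : K)⁻¹ • (Matrix.single i j (1 : K) + (Matrix.single i j (1 : K))ᵀ) : Matrix n n K) * Aᵀ : Matrix n n K) i j = _
    rw [Matrix.transpose_single, Matrix.mul_smul, Matrix.smul_mul, Matrix.smul_apply, smul_eq_mul, Matrix.mul_add,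
      Matrix.add_mul, Matrix.add_apply]
    congr 2
    · rw [Matrix.mul_apply, Finset.sum_eq_single j]
      · rw [Matrix.mul_single_apply_same, mul_one, Matrix.transpose_apply]
      · intro b _ hb
        rw [Matrix.mul_single_apply_of_ne _ _ _ _ _ hb, zero_mul]
      · intro h; exact absurd (Finset.mem_univ _) h
    · rw [Matrix.mul_apply, Finset.sum_eq_single i]
      · rw [Matrix.mul_single_apply_same, mul_one, Matrix.transpose_apply]
      · intro b _ hb
        rw [Matrix.mul_single_apply_of_ne _ _ _ _ _ hb, zero_mul]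
      · intro h; exact absurd (Finset.mem_univ _) h
  simp only [h4]
  have h5 : ∑ i, ∑ j, (2 : K)⁻¹ * (A i i * A j j + A i j * A j i) = (2 : K)⁻¹ * (A.trace ^ 2 + (A * A).trace) := by
    simp only [← Finset.mul_sum, Finset.sum_add_distrib]
    congr 2
    rw [Matrix.trace, pow_two, Finset.sum_mul]
    simp only [Matrix.diag_apply, Finset.mul_sum]
  rw [h5, mul_inv_cancel_left₀ h2]

end sym

/-! ### irreducibility -/

section irr

variable {b : K} (hb : b * b + b + 2 = 0) (ρ : G →* Matrix (Fin 4) (Fin 4) K) (g : Fin 5 → G) (hg : ∀ i, ρ (g i) = S b i)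

/-- a word in the generators -/
def gw (w : List (Fin 5)) : G := (w.map g).prod

/-- the element of order seven -/
def gx : G := gw g [0, 1, 2, 3, 4]

include hg

theorem rho_gw (w : List (Fin 5)) : ρ (gw g w) = W b w := by
  unfold gw W
  rw [map_list_prod, List.map_map]
  congr 1
  exact List.map_congr_left fun i _ => hg i

theorem rho_gx : ρ (gx g) = X b := rho_gw ρ g hg _

omit hg in
theorem lc_mem (hb : b * b + b + 2 = 0) (Y : Submodule K (Matrix (Fin 4) (Fin 4) K)) :
    ∀ (cs : List (ℤ × ℤ)) (Xs : List MZ), (∀ Z ∈ Xs, ev b Z ∈ Y) → ev b (lc cs Xs) ∈ Y := by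
  intro cs
  induction cs with
  | nil =>
    intro Xs _
    rw [lc, ev_zero]
    exact Y.zero_mem
    simp
  | cons c cs ih =>
    intro Xs hX
    cases Xs with
    | nil =>
      rw [lc, ev_zero]
      exact Y.zero_mem
      simp
    | cons Z Xs =>
      rw [lc, ev_add, ev_mm hb, ev_sc, Matrix.smul_mul, Matrix.one_mul]
      exact Y.add_mem (Y.smul_mem _ (hX Z List.mem_cons_self)) (ih Xs fun Z' hZ' => hX Z' (List.mem_cons_of_mem _ hZ'))

/-- the row -/
def phi (b : K) : Fin 4 → K := fun j => ev b phiZ 0 j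

omit hg in
theorem phi_mul (v : Fin 4 → K) : ev b phiZ *ᵥ v = (phi b ⬝ᵥ v) • Pi.single 0 1 := by
  funext i
  rw [Pi.smul_apply, smul_eq_mul]
  by_cases hi : i = 0
  · subst hi
    rw [Pi.single_eq_same, mul_one]
    rfl
  · rw [Pi.single_eq_of_ne hi, mul_zero]
    show (fun j => ev b phiZ i j) ⬝ᵥ v = 0
    have : (fun j => ev b phiZ i j) = 0 := by
      funext j
      rw [ev_apply]
      fin_cases i
      · exact absurd rfl hi
      all_goals fin_cases j <;> simp [phiZ]
    rw [this, zero_dotProduct]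

include hb

omit hg in
theorem one_add_ne (h7 : (7 : K) ≠ 0) : 1 + 2 * b ≠ 0 := by
  intro h0
  apply h7
  linear_combination (-(1 + 2 * b)) * h0 + 4 * hb

/-- **The four-dimensional representation is irreducible.** -/
theorem four_irreducible (h7 : (7 : K) ≠ 0) : (rep ρ).IsIrreducible := by
  have h12 := one_add_ne hb h7
  let a : Module.End K (Fin 4 → K) := ∑ k ∈ Finset.range 7, rep ρ (gx g ^ k)
  let φ : (Fin 4 → K) →ₗ[K] K := (1 + 2 * b) • (dotProductBilin K K (phi b))
  have hφ : ∀ v, φ v = (1 + 2 * b) * (phi b ⬝ᵥ v) := fun v => rfl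
  refine norton (a := a) (u := Pi.single 0 1) (φ := φ) ?_ ?_ ?_ ?_
  · intro X hX v hv
    show (∑ k ∈ Finset.range 7, rep ρ (gx g ^ k)) v ∈ X
    rw [LinearMap.sum_apply]
    exact X.sum_mem fun k _ => hX _ v hv
  · intro v
    show (∑ k ∈ Finset.range 7, rep ρ (gx g ^ k)) v = _
    have h1 : ∑ k ∈ Finset.range 7, (X b) ^ k = (1 + 2 * b) • ev b phiZ := by
      have h2 := congrArg (ev b) x_sum
      rw [ev_sum, ev_mm hb, ev_sc, Matrix.smul_mul, Matrix.one_mul] at h2
      have h3 : ∑ k ∈ Finset.range 7, (X b) ^ k = ∑ i ∈ Finset.range 7, ev b (xp i) :=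
        Finset.sum_congr rfl fun k _ => (ev_xp hb k).symm
      rw [h3, h2]
      congr 1
      push_cast
      ring
    rw [LinearMap.sum_apply, hφ]
    have h4 : ∑ k ∈ Finset.range 7, (rep ρ (gx g ^ k)) v = (∑ k ∈ Finset.range 7, (X b) ^ k) *ᵥ v := by
      rw [Matrix.sum_mulVec]
      refine Finset.sum_congr rfl fun k _ => ?_
      rw [rep_apply, map_pow, rho_gx ρ g hg]
    rw [h4, h1, Matrix.smul_mulVec, phi_mul, smul_smul]
  · intro Y hY hu
    have key : ∀ k : Fin 4, (Pi.single k 1 : Fin 4 → K) ∈ Y := by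
      intro k
      have h1 := congrArg (ev b) (cols k)
      rw [ev_mm hb, ev_wd hb, ev_eu, ev_eu] at h1
      have h2 := hY (gw g (![[], [0], [1], [1, 0]] k)) _ hu
      rw [rep_apply, rho_gw ρ g hg] at h2
      have h3 : (W b (![[], [0], [1], [1, 0]] k)) *ᵥ (Pi.single 0 1 : Fin 4 → K) = Pi.single k 1 := by
        funext i
        have h4 := congrFun (congrFun h1 i) 0
        rw [Matrix.mul_single_apply_same, mul_one] at h4
        rw [Matrix.mulVec_single_one, Matrix.col_apply, h4, Matrix.single_apply]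
        by_cases hi : i = k
        · subst hi
          simp
        · rw [Pi.single_eq_of_ne hi, if_neg]
          rintro ⟨h5, -⟩
          exact hi h5.symm
      rwa [h3] at h2
    rw [eq_top_iff]
    intro v _
    have h5 : v = ∑ k, v k • (Pi.single k 1 : Fin 4 → K) := by
      rw [← pi_eq_sum_univ']
    rw [h5]
    exact Y.sum_mem fun k _ => Y.smul_mem _ (key k)
  · intro v hv
    have h0 : ∀ w, phi b ⬝ᵥ (W b w *ᵥ v) = 0 := by
      intro w
      have h1 := hv (gw g w)
      rw [hφ, rep_apply, rho_gw ρ g hg] at h1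
      exact (mul_eq_zero.1 h1).resolve_left h12
    have h1 : ∀ (r : Fin 4) (w : List (Fin 5)), (∀ j, (rowsZ.1 r j, rowsZ.2 r j) = ((mm phiZ (wd w)).1 0 j, (mm phiZ (wd w)).2 0 j)) →
        (ev b rowsZ *ᵥ v) r = 0 := by
      intro r w h
      have h2 : (ev b rowsZ *ᵥ v) r = (ev b (mm phiZ (wd w)) *ᵥ v) 0 := by
        show (fun j => ev b rowsZ r j) ⬝ᵥ v = (fun j => ev b (mm phiZ (wd w)) 0 j) ⬝ᵥ v
        congr 1
        funext j
        have h3 := Prod.ext_iff.1 (h j)
        dsimp only at h3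
        rw [ev_apply, ev_apply, h3.1, h3.2]
      rw [h2, ev_mm hb, ev_wd hb, ← Matrix.mulVec_mulVec]
      exact h0 w
    have h2 : ev b rowsZ *ᵥ v = 0 := by
      funext r
      fin_cases r
      · exact h1 0 _ rows_zero
      · exact h1 1 _ rows_one
      · exact h1 2 _ rows_two
      · exact h1 3 _ rows_three
    have h3 := congrArg (ev b) linv_rows
    rw [ev_mm hb, ev_sc] at h3
    have h4 : v = (ev b linvZ * ev b rowsZ) *ᵥ v := by
      rw [h3]
      simp
    rw [h4, ← Matrix.mulVec_mulVec, h2, Matrix.mulVec_zero]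

/-- the functional on symmetric matrices -/
def psi (b : K) : Matrix (Fin 4) (Fin 4) K →ₗ[K] K where
  toFun M := - (ev b PhiZ * M).trace
  map_add' M N := by rw [Matrix.mul_add, Matrix.trace_add, neg_add]
  map_smul' c M := by rw [Matrix.mul_smul, Matrix.trace_smul, smul_eq_mul, smul_eq_mul, RingHom.id_apply, mul_neg]

omit hb hg in
theorem two_smul_eq (M : Matrix (Fin 4) (Fin 4) K) (hM : Mᵀ = M) :
    (2 : K) • M = ∑ i, ∑ j, M i j • (Matrix.single i j (1 : K) + Matrix.single j i 1) := by
  have h1 : M = ∑ i, ∑ j, M i j • Matrix.single i j (1 : K) := by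
    conv_lhs => rw [Matrix.matrix_eq_sum_single M]
    refine Finset.sum_congr rfl fun i _ => Finset.sum_congr rfl fun j _ => ?_
    rw [Matrix.smul_single, smul_eq_mul, mul_one]
  have h2 : M = ∑ i, ∑ j, M i j • Matrix.single j i (1 : K) := by
    rw [Finset.sum_comm]
    conv_lhs => rw [h1]
    refine Finset.sum_congr rfl fun i _ => Finset.sum_congr rfl fun j _ => ?_
    rw [show M j i = M i j from congrFun (congrFun hM i) j]
  simp only [smul_add, Finset.sum_add_distrib]
  rw [← h1, ← h2, two_smul]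

/-- **The symmetric square is irreducible.** -/
theorem sym_irreducible (h2 : (2 : K) ≠ 0) : (sym ρ).IsIrreducible := by
  let u : Sym (Fin 4) K := ⟨Matrix.single 0 0 1, Matrix.transpose_single _ _ _⟩
  let a : Module.End K (Sym (Fin 4) K) := ∑ k ∈ Finset.range 7, sym ρ (gx g ^ k)
  let φ : Sym (Fin 4) K →ₗ[K] K := (psi b).comp (Sym (Fin 4) K).subtype
  have hφ : ∀ M : Sym (Fin 4) K, φ M = psi b M := fun v => rfl
  have hnt : Nontrivial (Sym (Fin 4) K) := by
    refine ⟨u, 0, fun h => ?_⟩
    have h3 := congrArg (fun M : Sym (Fin 4) K => (M : Matrix (Fin 4) (Fin 4) K) 0 0) h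
    simp [u] at h3
  refine norton (a := a) (u := u) (φ := φ) ?_ ?_ ?_ ?_
  · intro X hX v hv
    show (∑ k ∈ Finset.range 7, sym ρ (gx g ^ k)) v ∈ X
    rw [LinearMap.sum_apply]
    exact X.sum_mem fun k _ => hX _ v hv
  · intro M
    apply Subtype.ext
    have e1 : ((∑ k ∈ Finset.range 7, sym ρ (gx g ^ k)) M : Matrix (Fin 4) (Fin 4) K) =
        (∑ k ∈ Finset.range 7, act ((X b) ^ k)) (M : Matrix (Fin 4) (Fin 4) K) := by
      rw [LinearMap.sum_apply, LinearMap.sum_apply, AddSubmonoidClass.coe_finsetSum]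
      refine Finset.sum_congr rfl fun k _ => ?_
      rw [sym_apply, map_pow, rho_gx ρ g hg]
      rfl
    have e2 : ∀ i j : Fin 4, (∑ k ∈ Finset.range 7, act ((X b) ^ k)) (Matrix.single i j (1 : K) + Matrix.single j i 1) =
        (psi b).smulRight (Matrix.single 0 0 (1 : K)) (Matrix.single i j (1 : K) + Matrix.single j i 1) := by
      intro i j
      have h3 := congrArg (ev b) (sum_sym i j)
      rw [ev_sum, ev_neg, ev_mm hb, ev_sc, Matrix.smul_mul, Matrix.one_mul, ev_eu] at h3
      rw [LinearMap.sum_apply, LinearMap.smulRight_apply]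
      have h4 : ∑ k ∈ Finset.range 7, (act ((X b) ^ k)) (Matrix.single i j (1 : K) + Matrix.single j i 1) =
          ∑ k ∈ Finset.range 7, ev b (mm (mm (xp k) (eu i j + eu j i)) (tt (xp k))) := by
        refine Finset.sum_congr rfl fun k _ => ?_
        rw [ev_mm hb, ev_mm hb, ev_tt, ev_xp hb, ev_add, ev_eu, ev_eu]
        rfl
      rw [h4, h3, ← neg_smul]
      congr 1
      show _ = - (ev b PhiZ * (Matrix.single i j (1 : K) + Matrix.single j i 1)).trace
      rw [Matrix.mul_add, Matrix.trace_add, Matrix.trace_mul_comm, Matrix.trace_mul_comm (ev b PhiZ),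
        Matrix.trace_single_mul, Matrix.trace_single_mul, ev_apply, ev_apply]
      push_cast
      ring
    have e3 : ∀ N : Matrix (Fin 4) (Fin 4) K, Nᵀ = N → (∑ k ∈ Finset.range 7, act ((X b) ^ k)) N =
        (psi b).smulRight (Matrix.single 0 0 (1 : K)) N := by
      intro N hN
      have h3 : (2 : K) • (∑ k ∈ Finset.range 7, act ((X b) ^ k)) N =
          (2 : K) • (psi b).smulRight (Matrix.single 0 0 (1 : K)) N := by
        rw [← map_smul, ← map_smul, two_smul_eq N hN]
        simp only [map_sum, map_smul, e2]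
      have h4 := congrArg (fun z => (2 : K)⁻¹ • z) h3
      simpa only [smul_smul, inv_mul_cancel₀ h2, one_smul] using h4
    show ((∑ k ∈ Finset.range 7, sym ρ (gx g ^ k)) M : Matrix (Fin 4) (Fin 4) K) = _
    rw [e1, e3 _ M.2]
    rfl
  · intro Y hY hu
    have hmem : ∀ Z ∈ cw.map vv, ev b Z ∈ Y.map (Sym (Fin 4) K).subtype := by
      intro Z hZ
      obtain ⟨w, -, rfl⟩ := List.mem_map.1 hZ
      refine ⟨sym ρ (gw g w) u, hY _ _ hu, ?_⟩
      show (sym ρ (gw g w) u : Matrix (Fin 4) (Fin 4) K) = _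
      rw [sym_apply, rho_gw ρ g hg]
      unfold vv
      rw [ev_mm hb, ev_mm hb, ev_tt, ev_wd hb, ev_eu]
    have h4 : (2 : K) * 2 ≠ 0 := mul_ne_zero h2 h2
    rw [eq_top_iff]
    intro M _
    have h5 : (2 : K) • (2 : K) • (M : Matrix (Fin 4) (Fin 4) K) ∈ Y.map (Sym (Fin 4) K).subtype := by
      rw [two_smul_eq _ M.2, Finset.smul_sum]
      refine Submodule.sum_mem _ fun i _ => ?_
      rw [Finset.smul_sum]
      refine Submodule.sum_mem _ fun j _ => ?_
      rw [smul_comm]
      apply Submodule.smul_mem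
      have h6 := lc_mem hb _ (Ct.getD (4 * i + j) []) (cw.map vv) hmem
      rw [span_vv i j, ev_mm hb, ev_sc, ev_add, ev_eu, ev_eu, Matrix.smul_mul, Matrix.one_mul] at h6
      have h7 : (((2 : ℤ), (0 : ℤ)).1 : K) + b * (((2 : ℤ), (0 : ℤ)).2 : K) = 2 := by
        push_cast
        ring
      rwa [h7] at h6
    have h6 : (M : Matrix (Fin 4) (Fin 4) K) ∈ Y.map (Sym (Fin 4) K).subtype := by
      have h7 := Submodule.smul_mem _ ((2 : K) * 2)⁻¹ h5
      rwa [smul_smul (2 : K) 2, smul_smul, inv_mul_cancel₀ h4, one_smul] at h7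
    obtain ⟨M', hM', e⟩ := h6
    have : M' = M := Subtype.ext e
    rwa [← this]
  · intro M hM
    let f : Matrix (Fin 4) (Fin 4) K →ₗ[K] K :=
      { toFun := fun N => (N * (M : Matrix (Fin 4) (Fin 4) K)).trace
        map_add' := fun A B => by rw [Matrix.add_mul, Matrix.trace_add]
        map_smul' := fun c A => by rw [Matrix.smul_mul, Matrix.trace_smul]; rfl }
    have hmem : ∀ Z ∈ rw'.map pp, ev b Z ∈ LinearMap.ker f := by
      intro Z hZ
      obtain ⟨w, -, rfl⟩ := List.mem_map.1 hZ
      have h3 := hM (gw g w)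
      rw [hφ, sym_apply, rho_gw ρ g hg] at h3
      have h4 : (ev b PhiZ * (W b w * (M : Matrix (Fin 4) (Fin 4) K) * (W b w)ᵀ)).trace = 0 := neg_eq_zero.1 h3
      rw [LinearMap.mem_ker]
      show (ev b (pp w) * (M : Matrix (Fin 4) (Fin 4) K)).trace = 0
      unfold pp
      rw [ev_mm hb, ev_mm hb, ev_tt, ev_wd hb, Matrix.mul_assoc, Matrix.mul_assoc, Matrix.trace_mul_comm, ← h4]
      congr 1
      simp only [Matrix.mul_assoc]
    apply Subtype.ext
    show (M : Matrix (Fin 4) (Fin 4) K) = 0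
    funext i j
    have h6 := lc_mem hb _ (Rt.getD (4 * i + j) []) (rw'.map pp) hmem
    rw [span_pp i j, ev_mm hb, ev_sc, ev_add, ev_eu, ev_eu, Matrix.smul_mul, Matrix.one_mul, LinearMap.mem_ker,
      map_smul, map_add] at h6
    have h7 : (((2 : ℤ), (0 : ℤ)).1 : K) + b * (((2 : ℤ), (0 : ℤ)).2 : K) = 2 := by
      push_cast
      ring
    rw [h7, smul_eq_mul] at h6
    have h8 : ∀ i j, f (Matrix.single i j 1) = (M : Matrix (Fin 4) (Fin 4) K) j i := by
      intro i j
      show (Matrix.single i j (1 : K) * (M : Matrix (Fin 4) (Fin 4) K)).trace = _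
      rw [Matrix.trace_single_mul, one_smul]
    rw [h8, h8, show (M : Matrix (Fin 4) (Fin 4) K) j i = (M : Matrix (Fin 4) (Fin 4) K) i j from
      congrFun (congrFun M.2 i) j, ← two_mul] at h6
    have h9 := (mul_eq_zero.1 h6).resolve_left h2
    exact (mul_eq_zero.1 h9).resolve_left h2

end irr

end Cfsg.Agent.H637.A7Four
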