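import Cfsg.Agent.CharactersDeep.SchurAltPerm

/-!
# The alternating group of degree seven: conjugacy facts (helper637)

* `s i` : the Carmichael generators `(0 1 i+2)`; `x7` : the product, a seven-cycle;
* `invol_conj` : involutions are conjugate;
* `strong` : elements of order not seven are inverted by an involution `y` with `y g` an involution;
* `seven_conj` : elements of order seven are conjugate to `x7` or to its inverse; `x7_sq` : `x7` is conjugate to its square.
-/

set_option autoImplicit false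

namespace Cfsg.Agent.H637.A7Grp

open Equiv Equiv.Perm

theorem classify (m : Multiset ℕ) (h2 : ∀ a ∈ m, 2 ≤ a) (hs : m.sum ≤ 7) (he : (m.sum + m.card) % 2 = 0) :
    m = 0 ∨ m = {3} ∨ m = {2, 2} ∨ m = {3, 3} ∨ m = {4, 2} ∨ m = {5} ∨ m = {3, 2, 2} ∨ m = {7} := by
  have hc : 2 * m.card ≤ m.sum := by
    have := Multiset.card_nsmul_le_sum (s := m) (a := 2) h2
    simpa [mul_comm] using this
  have hc3 : m.card ≤ 3 := by omega
  interval_cases hk : m.card
  · rw [Multiset.card_eq_zero] at hk
    subst hk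
    simp
  · obtain ⟨a, rfl⟩ := Multiset.card_eq_one.1 hk
    simp only [Multiset.mem_singleton, forall_eq, Multiset.sum_singleton] at *
    interval_cases a <;> simp at he ⊢
  · obtain ⟨a, b, rfl⟩ := Multiset.card_eq_two.1 hk
    simp only [Multiset.insert_eq_cons, Multiset.mem_cons, Multiset.mem_singleton, forall_eq_or_imp, forall_eq,
      Multiset.sum_cons, Multiset.sum_singleton] at *
    have ha : a ≤ 5 := by omega
    have hb : b ≤ 5 := by omega
    obtain ⟨ha2, hb2⟩ := h2
    interval_cases a <;> interval_cases b <;> first | omega | decide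
  · obtain ⟨a, b, c, rfl⟩ := Multiset.card_eq_three.1 hk
    simp only [Multiset.insert_eq_cons, Multiset.mem_cons, Multiset.mem_singleton, forall_eq_or_imp, forall_eq,
      Multiset.sum_cons, Multiset.sum_singleton] at *
    obtain ⟨ha2, hb2, hc2⟩ := h2
    have ha : a ≤ 3 := by omega
    have hb : b ≤ 3 := by omega
    have hc : c ≤ 3 := by omega
    interval_cases a <;> interval_cases b <;> interval_cases c <;> first | omega | decide

/-- the cycle types in `A₇` -/
theorem cycleType_cases {g : Perm (Fin 7)} (hg : sign g = 1) :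
    g.cycleType = 0 ∨ g.cycleType = {3} ∨ g.cycleType = {2, 2} ∨ g.cycleType = {3, 3} ∨ g.cycleType = {4, 2} ∨
      g.cycleType = {5} ∨ g.cycleType = {3, 2, 2} ∨ g.cycleType = {7} := by
  have hs : g.cycleType.sum ≤ 7 := by
    rw [g.sum_cycleType]
    exact (Finset.card_le_univ _).trans (by simp)
  have he : (g.cycleType.sum + g.cycleType.card) % 2 = 0 := by
    rw [sign_of_cycleType] at hg
    rcases Nat.mod_two_eq_zero_or_one (g.cycleType.sum + g.cycleType.card) with h | h
    · exact h
    · exfalso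
      rw [(Nat.odd_iff.2 h).neg_one_pow] at hg
      exact absurd hg (by decide)
  exact classify _ (fun a ha => two_le_of_mem_cycleType ha) hs he

/-- the representatives -/
def r3 : Perm (Fin 7) := c[0, 1, 2]
def r22 : Perm (Fin 7) := c[0, 1] * c[2, 3]
def r33 : Perm (Fin 7) := c[0, 1, 2] * c[3, 4, 5]
def r42 : Perm (Fin 7) := c[0, 1, 2, 3] * c[4, 5]
def r5 : Perm (Fin 7) := c[0, 1, 2, 3, 4]
def r322 : Perm (Fin 7) := c[0, 1, 2] * c[3, 4] * c[5, 6]

theorem ct3 : cycleType r3 = {3} := by decide +kernel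
theorem ct22 : cycleType r22 = {2, 2} := by decide +kernel
theorem ct33 : cycleType r33 = {3, 3} := by decide +kernel
theorem ct42 : cycleType r42 = {4, 2} := by decide +kernel
theorem ct5 : cycleType r5 = {5} := by decide +kernel
theorem ct322 : cycleType r322 = {3, 2, 2} := by decide +kernel

/-- the Carmichael generators -/
def s (i : Fin 5) : alternatingGroup (Fin 7) :=
  ⟨![c[0, 1, 2], c[0, 1, 3], c[0, 1, 4], c[0, 1, 5], c[0, 1, 6]] i, mem_alternatingGroup.2 (by
    revert i
    decide +kernel)⟩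

/-- the seven-cycle -/
def x7 : alternatingGroup (Fin 7) := s 0 * s 1 * s 2 * s 3 * s 4

theorem ct7 : cycleType (x7 : Perm (Fin 7)) = {7} := by decide +kernel

theorem s_cube : ∀ i, s i ^ 3 = 1 := by decide +kernel

theorem s_sq : ∀ i j, i ≠ j → (s i * s j) ^ 2 = 1 := by decide +kernel

theorem s_ne : ∀ i j, i ≠ j → s i * s j ≠ 1 := by decide +kernel

/-- a strongly real element -/
def SR (g : Perm (Fin 7)) : Prop :=
  ∃ y : Perm (Fin 7), sign y = 1 ∧ y * y = 1 ∧ y ≠ 1 ∧ (y * g) * (y * g) = 1 ∧ y * g ≠ 1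

theorem SR.conj {g h : Perm (Fin 7)} (H : SR g) (e : g.cycleType = h.cycleType) : SR h := by
  obtain ⟨y, h1, h2, h3, h4, h5⟩ := H
  obtain ⟨c, hc⟩ := isConj_iff.1 (isConj_iff_cycleType_eq.2 e)
  have key : c * y * c⁻¹ * h = c * (y * g) * c⁻¹ := by
    rw [← hc]
    group
  refine ⟨c * y * c⁻¹, ?_, ?_, ?_, ?_, ?_⟩
  · rw [map_mul, map_mul, map_inv, mul_right_comm, mul_inv_cancel, one_mul, h1]
  · calc c * y * c⁻¹ * (c * y * c⁻¹) = c * (y * y) * c⁻¹ := by group
      _ = 1 := by rw [h2, mul_one, mul_inv_cancel]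
  · intro h0
    apply h3
    have : y = c⁻¹ * (c * y * c⁻¹) * c := by group
    rw [this, h0, mul_one, inv_mul_cancel]
  · rw [key]
    calc c * (y * g) * c⁻¹ * (c * (y * g) * c⁻¹) = c * ((y * g) * (y * g)) * c⁻¹ := by group
      _ = 1 := by rw [h4, mul_one, mul_inv_cancel]
  · rw [key]
    intro h0
    apply h5
    have : y * g = c⁻¹ * (c * (y * g) * c⁻¹) * c := by group
    rw [this, h0, mul_one, inv_mul_cancel]

theorem SR_one : SR 1 := ⟨c[0, 1] * c[2, 3], by decide +kernel⟩
theorem SR3 : SR r3 := ⟨c[0, 1] * c[3, 4], by decide +kernel⟩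
theorem SR22 : SR r22 := ⟨c[0, 2] * c[1, 3], by decide +kernel⟩
theorem SR33 : SR r33 := ⟨c[0, 1] * c[3, 4], by decide +kernel⟩
theorem SR42 : SR r42 := ⟨c[0, 2] * c[4, 5], by decide +kernel⟩
theorem SR5 : SR r5 := ⟨c[0, 4] * c[1, 3], by decide +kernel⟩
theorem SR322 : SR r322 := ⟨c[0, 1] * c[3, 4], by decide +kernel⟩

/-- **Elements of order different from seven are strongly real.** -/
theorem strong (g : alternatingGroup (Fin 7)) :
    (g : Perm (Fin 7)).cycleType = {7} ∨
      ∃ y : alternatingGroup (Fin 7), y * y = 1 ∧ y ≠ 1 ∧ (y * g) * (y * g) = 1 ∧ y * g ≠ 1 := by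
  have key : SR (g : Perm (Fin 7)) → ∃ y : alternatingGroup (Fin 7), y * y = 1 ∧ y ≠ 1 ∧ (y * g) * (y * g) = 1 ∧
      y * g ≠ 1 := by
    rintro ⟨y, h1, h2, h3, h4, h5⟩
    refine ⟨⟨y, mem_alternatingGroup.2 h1⟩, Subtype.ext h2, fun h => h3 (congrArg Subtype.val h), Subtype.ext h4,
      fun h => h5 (congrArg Subtype.val h)⟩
  rcases cycleType_cases (mem_alternatingGroup.1 g.2) with h | h | h | h | h | h | h | h
  · right
    apply key
    rw [cycleType_eq_zero.1 h]
    exact SR_one
  · exact Or.inr (key (SR3.conj (ct3.trans h.symm)))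
  · exact Or.inr (key (SR22.conj (ct22.trans h.symm)))
  · exact Or.inr (key (SR33.conj (ct33.trans h.symm)))
  · exact Or.inr (key (SR42.conj (ct42.trans h.symm)))
  · exact Or.inr (key (SR5.conj (ct5.trans h.symm)))
  · exact Or.inr (key (SR322.conj (ct322.trans h.symm)))
  · exact Or.inl h

theorem orderOf_seven {g : alternatingGroup (Fin 7)} (h : (g : Perm (Fin 7)).cycleType = {7}) : orderOf g = 7 := by
  rw [← Subgroup.orderOf_coe, ← lcm_cycleType, h]
  simp

/-- **Involutions are conjugate.** -/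
theorem invol_conj {t u : alternatingGroup (Fin 7)} (ht : t * t = 1) (ht1 : t ≠ 1) (hu : u * u = 1) (hu1 : u ≠ 1) :
    IsConj t u := by
  have key : ∀ {t : alternatingGroup (Fin 7)}, t * t = 1 → t ≠ 1 → (t : Perm (Fin 7)).cycleType = {2, 2} := by
    intro t ht ht1
    have h1 : orderOf (t : Perm (Fin 7)) = 2 := by
      rw [Subgroup.orderOf_coe]
      exact orderOf_eq_prime (by rw [pow_two, ht]) ht1
    rcases cycleType_cases (mem_alternatingGroup.1 t.2) with h | h | h | h | h | h | h | h
    · exfalso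
      apply ht1
      exact Subtype.ext (cycleType_eq_zero.1 h)
    · rw [← lcm_cycleType, h] at h1
      simp at h1
    · exact h
    · rw [← lcm_cycleType, h] at h1
      simp at h1
    · rw [← lcm_cycleType, h] at h1
      exact absurd h1 (by decide)
    · rw [← lcm_cycleType, h] at h1
      simp at h1
    · rw [← lcm_cycleType, h] at h1
      exact absurd h1 (by decide)
    · rw [← lcm_cycleType, h] at h1
      simp at h1
  have h1 := key ht ht1
  have h2 := key hu hu1
  refine alternatingGroup.isConj_of (isConj_iff_cycleType_eq.2 (h1.trans h2.symm)) ?_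
  rw [← sum_cycleType, h1]
  decide

/-- an odd permutation inverting the seven-cycle -/
theorem exists_inv : ∃ t : Perm (Fin 7), sign t = -1 ∧ t * (x7 : Perm (Fin 7)) * t⁻¹ = (x7 : Perm (Fin 7))⁻¹ := by
  decide +kernel

/-- **Elements of order seven.** -/
theorem seven_conj {g : alternatingGroup (Fin 7)} (h : (g : Perm (Fin 7)).cycleType = {7}) :
    (∃ c : alternatingGroup (Fin 7), c * x7 * c⁻¹ = g) ∨ ∃ c : alternatingGroup (Fin 7), c * x7⁻¹ * c⁻¹ = g := by
  obtain ⟨c, hc⟩ := isConj_iff.1 (isConj_iff_cycleType_eq.2 (ct7.trans h.symm))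
  rcases Int.units_eq_one_or (sign c) with h1 | h1
  · left
    exact ⟨⟨c, mem_alternatingGroup.2 h1⟩, Subtype.ext hc⟩
  · right
    obtain ⟨t, ht, hx⟩ := exists_inv
    refine ⟨⟨c * t, mem_alternatingGroup.2 ?_⟩, Subtype.ext ?_⟩
    · rw [map_mul, h1, ht]
      decide
    · show c * t * (x7 : Perm (Fin 7))⁻¹ * (c * t)⁻¹ = (g : Perm (Fin 7))
      have h2 : t * (x7 : Perm (Fin 7))⁻¹ * t⁻¹ = (x7 : Perm (Fin 7)) := by
        have := congrArg (·⁻¹) hx
        simpa [mul_assoc] using this
      calc c * t * (x7 : Perm (Fin 7))⁻¹ * (c * t)⁻¹ = c * (t * (x7 : Perm (Fin 7))⁻¹ * t⁻¹) * c⁻¹ := by group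
        _ = g := by rw [h2, hc]

theorem x7_seven : x7 ^ 7 = 1 := by decide +kernel

theorem x7_ne : x7 ≠ 1 := by decide +kernel

/-- `2 |A₇| = 7!` -/
theorem card_A7 : 2 * Nat.card (alternatingGroup (Fin 7)) = Nat.factorial 7 := by
  rw [Nat.card_eq_fintype_card]
  have h1 := two_mul_card_alternatingGroup (α := Fin 7)
  rw [h1, Fintype.card_perm, Fintype.card_fin]

/-- the generators generate -/
theorem closure_s : Subgroup.closure (Set.range s) = ⊤ := by
  have h1 := CharactersDeep.SchurAltPerm.alternating_le_closure_x (o := (0 : Fin 7)) (l := 1) (by decide)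
    ((Subgroup.closure (Set.range s)).map (alternatingGroup (Fin 7)).subtype) (by
      intro c h0 h1
      have key : ∀ c : Fin 7, c ≠ 0 → c ≠ 1 → ∃ i : Fin 5, (s i : Perm (Fin 7)) = CharactersDeep.SchurAltPerm.x 0 1 c := by
        unfold CharactersDeep.SchurAltPerm.x
        decide +kernel
      obtain ⟨i, hi⟩ := key c h0 h1
      exact ⟨s i, Subgroup.subset_closure ⟨i, rfl⟩, hi⟩)
  rw [eq_top_iff]
  intro g _
  obtain ⟨g', hg', e⟩ := h1 g.2
  rwa [show g = g' from Subtype.ext e.symm]

end Cfsg.Agent.H637.A7Grp
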