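import Mathlib

/-!
# The four-dimensional representation of `2.A₇` over `ℤ[b]`, `b² + b + 2 = 0` (helper637)

`S b i`, `i < 5` : matrices with `S i ^ 3 = 1`, `(S i * S j) ^ 2 = -1` (`i ≠ j`) over a commutative ring with `b² + b + 2 = 0`.

The identities are identities of pairs of integer matrices, checked in the kernel.
-/

set_option autoImplicit false

namespace Cfsg.Agent.H637.A7Mat

open Matrix

/-- `X.1 + b X.2` -/
abbrev MZ := Matrix (Fin 4) (Fin 4) ℤ × Matrix (Fin 4) (Fin 4) ℤ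

/-- the product -/
def mm (X Y : MZ) : MZ := (X.1 * Y.1 - (2 : ℤ) • (X.2 * Y.2), X.1 * Y.2 + X.2 * Y.1 - X.2 * Y.2)

/-- the transpose -/
def tt (X : MZ) : MZ := (X.1ᵀ, X.2ᵀ)

/-- a scalar -/
def sc (c : ℤ × ℤ) : MZ := (c.1 • (1 : Matrix (Fin 4) (Fin 4) ℤ), c.2 • (1 : Matrix (Fin 4) (Fin 4) ℤ))

/-- the conjugate `b ↦ -1 - b` -/
def cc (X : MZ) : MZ := (X.1 - X.2, - X.2)

/-- a matrix unit -/
def eu (i j : Fin 4) : MZ := (Matrix.single i j 1, 0)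

/-- the generators -/
def SZ : Fin 5 → MZ := ![
  (!![0, -1, -1, 1; 1, -1, -1, 0; 0, 0, -1, 1; 0, 0, -1, 0],
   !![0, 0, 0, 0; 0, 0, 0, 0; 0, 0, 0, 0; 0, 0, 0, 0]),
    (!![0, 0, -1, 0; 0, 0, 0, -1; 1, 0, -1, 0; 0, 1, 0, -1],
   !![0, 0, 0, 0; 0, 0, 0, 0; 0, 0, 0, 0; 0, 0, 0, 0]),
    (!![1, 0, -1, 0; 1, -1, -1, 1; 1, 0, -2, 0; 0, 1, -1, 0],
   !![0, 1, 1, -1; 0, 1, 0, 0; 1, 0, 0, -1; 0, 1, 0, -1]),
    (!![1, -1, -2, 1; 1, -2, -1, 1; 0, 0, -2, 1; 0, 0, -1, 1],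
   !![1, 0, 0, 0; 0, 0, 0, 1; 1, 0, -1, 0; 0, 1, 0, 0]),
    (!![0, -1, -2, 1; 1, -2, -1, 0; -1, 0, -1, 1; 0, -1, -1, 1],
   !![1, 0, -1, 0; 1, -1, -1, 1; 0, 0, -1, 0; 0, 0, -1, 1])]

/-- a word -/
def wd : List (Fin 5) → MZ
  | [] => sc (1, 0)
  | i :: l => mm (SZ i) (wd l)

/-- the element of order seven -/
def xZ : MZ := wd [0, 1, 2, 3, 4]

/-- its powers -/
def xp : ℕ → MZ
  | 0 => sc (1, 0)
  | n + 1 => mm xZ (xp n)

/-- the row -/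
def phiZ : MZ := (!![-1, 1, 2, 0; 0, 0, 0, 0; 0, 0, 0, 0; 0, 0, 0, 0],
  !![-2, 1, 1, 0; 0, 0, 0, 0; 0, 0, 0, 0; 0, 0, 0, 0])

/-- the matrix `φᵀ φ` -/
def PhiZ : MZ := mm (tt phiZ) phiZ

/-- the form -/
def HZ : MZ := (!![-1, 1, 2, 0; 0, -1, 0, -1; -1, -1, -1, 1; 0, 2, 0, -1],
   !![-2, 1, 1, 0; 1, -2, -1, 1; 1, -1, -2, 1; 0, 1, 1, -2])

def HiZ : MZ := (!![1, 1, 2, 1; 0, 1, 0, -1; -1, 0, 1, 1; 0, 2, 0, 1],
   !![2, 1, 1, 1; 1, 2, 0, 1; 1, 0, 2, 1; 1, 1, 1, 2])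

def rowsZ : MZ := (!![-1, 1, 2, 0; 1, 0, -2, 1; 2, 0, -1, -1; -2, 1, 1, -1],
   !![-2, 1, 1, 0; 1, 1, 0, -1; 1, 0, 1, -1; 0, -1, -1, 0])

def linvZ : MZ := (!![-1, 0, -1, 1; -2, -2, -1, -1; -1, 1, 0, 1; -1, -1, 1, 1],
   !![1, 0, 0, 1; 0, -1, 1, 1; 0, 1, -1, 1; 1, 1, 1, 2])

def cw : List (List (Fin 5)) := [[3, 2], [1], [3, 0], [2, 0], [0], [4, 4], [2], [2, 3], [1, 0, 0], [3, 1, 0]]

def rw' : List (List (Fin 5)) := [[1], [3, 2], [], [4, 4], [0, 4], [0, 0], [4, 0], [0, 3], [3, 3], [0, 0, 4]]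

def Ct : List (List (ℤ × ℤ)) := [
    [(8, 0), (8, 12), (4, -12), (0, -4), (16, 0), (4, 8), (4, 12), (0, -8), (8, 0), (8, -8)],
    [(-4, 0), (-6, -6), (-2, 6), (0, 2), (-10, 0), (-3, -5), (-3, -7), (0, 4), (-4, 0), (-4, 4)],
    [(-2, 4), (-12, -5), (10, 8), (2, 2), (-2, 6), (-8, -3), (-8, -4), (6, 4), (0, 4), (6, 8)],
    [(-2, 0), (0, -1), (0, 2), (-2, 0), (-2, 2), (-2, -1), (-2, -2), (0, 2), (-2, 0), (-2, 2)],
    [(-4, 0), (-6, -6), (-2, 6), (0, 2), (-10, 0), (-3, -5), (-3, -7), (0, 4), (-4, 0), (-4, 4)],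
    [(0, 0), (0, 0), (0, 0), (0, 0), (4, 0), (0, 0), (0, 0), (0, 0), (0, 0), (0, 0)],
    [(2, -4), (10, 2), (-10, -8), (-2, -2), (2, -6), (9, 3), (9, 3), (-6, -4), (0, -4), (-6, -8)],
    [(-2, 2), (-4, 0), (8, 6), (2, 0), (-2, 2), (-6, -2), (-6, 0), (4, 2), (0, 4), (4, 4)],
    [(-2, 4), (-12, -5), (10, 8), (2, 2), (-2, 6), (-8, -3), (-8, -4), (6, 4), (0, 4), (6, 8)],
    [(2, -4), (10, 2), (-10, -8), (-2, -2), (2, -6), (9, 3), (9, 3), (-6, -4), (0, -4), (-6, -8)],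
    [(0, 0), (4, 0), (0, 0), (0, 0), (0, 0), (0, 0), (0, 0), (0, 0), (0, 0), (0, 0)],
    [(-6, -4), (0, -3), (-8, 4), (0, 0), (-8, -4), (2, -5), (0, -4), (-4, 2), (-6, -2), (-8, 0)],
    [(-2, 0), (0, -1), (0, 2), (-2, 0), (-2, 2), (-2, -1), (-2, -2), (0, 2), (-2, 0), (-2, 2)],
    [(-2, 2), (-4, 0), (8, 6), (2, 0), (-2, 2), (-6, -2), (-6, 0), (4, 2), (0, 4), (4, 4)],
    [(-6, -4), (0, -3), (-8, 4), (0, 0), (-8, -4), (2, -5), (0, -4), (-4, 2), (-6, -2), (-8, 0)],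
    [(12, 8), (-4, 6), (16, -8), (0, 0), (16, 8), (-4, 10), (0, 8), (8, -4), (16, 4), (16, 0)]]

def Rt : List (List (ℤ × ℤ)) := [
    [(4, 0), (-8, -8), (8, -8), (4, 4), (-16, -8), (8, 8), (-4, -4), (-8, -8), (16, 8), (0, 16)],
    [(-3, 1), (2, -2), (6, 4), (-1, 3), (4, -4), (-4, 0), (-2, -2), (6, 0), (-8, 2), (-10, -2)],
    [(8, 4), (0, -10), (22, -1), (0, 4), (-14, -18), (0, 12), (2, -4), (-2, -13), (14, 18), (-20, 12)],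
    [(3, 5), (2, -6), (18, 4), (1, 5), (-4, -14), (-6, 6), (0, -2), (6, -8), (0, 14), (-20, 4)],
    [(-3, 1), (2, -2), (6, 4), (-1, 3), (4, -4), (-4, 0), (-2, -2), (6, 0), (-8, 2), (-10, -2)],
    [(2, -2), (4, -4), (16, 8), (-10, -6), (8, -8), (0, 8), (8, -8), (4, -4), (0, 4), (-28, -4)],
    [(-8, -2), (0, 0), (-2, -2), (-4, 6), (0, 0), (0, -6), (-10, -2), (2, 4), (-10, -6), (8, 4)],
    [(-5, -5), (-4, -6), (14, -4), (-13, 3), (-8, -12), (12, 6), (-10, -14), (-4, -4), (2, 0), (-10, 16)],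
    [(8, 4), (0, -10), (22, -1), (0, 4), (-14, -18), (0, 12), (2, -4), (-2, -13), (14, 18), (-20, 12)],
    [(-8, -2), (0, 0), (-2, -2), (-4, 6), (0, 0), (0, -6), (-10, -2), (2, 4), (-10, -6), (8, 4)],
    [(8, 12), (16, -4), (28, 18), (0, 0), (12, -20), (-24, 8), (16, 4), (20, -10), (-8, 24), (-48, -16)],
    [(-4, 8), (10, 2), (4, 11), (4, 6), (14, -4), (-22, -8), (2, 8), (20, 3), (-22, 6), (-12, -16)],
    [(3, 5), (2, -6), (18, 4), (1, 5), (-4, -14), (-6, 6), (0, -2), (6, -8), (0, 14), (-20, 4)],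
    [(-5, -5), (-4, -6), (14, -4), (-13, 3), (-8, -12), (12, 6), (-10, -14), (-4, -4), (2, 0), (-10, 16)],
    [(-4, 8), (10, 2), (4, 11), (4, 6), (14, -4), (-22, -8), (2, 8), (20, 3), (-22, 6), (-12, -16)],
    [(-12, 0), (-4, 0), (-4, -8), (0, 12), (-8, -4), (4, -8), (-20, -4), (4, 4), (-12, -4), (16, 12)]]

/-- `∑ cₖ Xₖ` -/
def lc : List (ℤ × ℤ) → List MZ → MZ
  | c :: cs, X :: Xs => mm (sc c) X + lc cs Xs
  | _, _ => 0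

/-- `v vᵀ`, `v = w e₀` -/
def vv (w : List (Fin 5)) : MZ := mm (mm (wd w) (eu 0 0)) (tt (wd w))

/-- `(φ w)ᵀ (φ w)` -/
def pp (w : List (Fin 5)) : MZ := mm (mm (tt (wd w)) PhiZ) (wd w)

/-! ### the identities -/

theorem cube : ∀ i, mm (SZ i) (SZ i) + SZ i + sc (1, 0) = 0 := by decide +kernel

theorem sq : ∀ i j, i ≠ j → mm (mm (SZ i) (SZ j)) (mm (SZ i) (SZ j)) = sc (-1, 0) := by decide +kernel

theorem x_seven : xp 7 = sc (1, 0) := by decide +kernel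

theorem x_sum : ∑ k ∈ Finset.range 7, xp k = mm (sc (1, 2)) phiZ := by decide +kernel

theorem x_tr : (xZ.1.trace, xZ.2.trace) = (1, 1) := by decide +kernel

theorem x_tr2 : ((xp 2).1.trace, (xp 2).2.trace) = (1, 1) := by decide +kernel

theorem x_tr6 : ((xp 6).1.trace, (xp 6).2.trace) = (0, -1) := by decide +kernel

theorem x_tr5 : ((xp 5).1.trace, (xp 5).2.trace) = (0, -1) := by decide +kernel

theorem herm : ∀ i, mm (mm (tt (cc (SZ i))) HZ) (SZ i) = HZ := by decide +kernel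

theorem herm_inv : mm HZ HiZ = sc (1, 0) := by decide +kernel

theorem herm_inv' : mm HiZ HZ = sc (1, 0) := by decide +kernel

theorem linv_rows : mm linvZ rowsZ = sc (1, 0) := by decide +kernel

theorem rows_zero : ∀ j, (rowsZ.1 0 j, rowsZ.2 0 j) = ((mm phiZ (wd [])).1 0 j, (mm phiZ (wd [])).2 0 j) := by
  decide +kernel

theorem rows_one : ∀ j, (rowsZ.1 1 j, rowsZ.2 1 j) = ((mm phiZ (wd [0])).1 0 j, (mm phiZ (wd [0])).2 0 j) := by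
  decide +kernel

theorem rows_two : ∀ j, (rowsZ.1 2 j, rowsZ.2 2 j) = ((mm phiZ (wd [1])).1 0 j, (mm phiZ (wd [1])).2 0 j) := by
  decide +kernel

theorem rows_three : ∀ j, (rowsZ.1 3 j, rowsZ.2 3 j) = ((mm phiZ (wd [0, 1])).1 0 j, (mm phiZ (wd [0, 1])).2 0 j) := by
  decide +kernel

theorem cols : ∀ k : Fin 4, mm (wd (![[], [0], [1], [1, 0]] k)) (eu 0 0) = eu k 0 := by decide +kernel

theorem span_vv : ∀ i j : Fin 4, lc (Ct.getD (4 * i + j) []) (cw.map vv) = mm (sc (2, 0)) (eu i j + eu j i) := by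
  decide +kernel

theorem span_pp : ∀ i j : Fin 4, lc (Rt.getD (4 * i + j) []) (rw'.map pp) = mm (sc (2, 0)) (eu i j + eu j i) := by
  decide +kernel

theorem sum_sym : ∀ i j : Fin 4, ∑ k ∈ Finset.range 7, mm (mm (xp k) (eu i j + eu j i)) (tt (xp k)) =
    - mm (sc (PhiZ.1 i j + PhiZ.1 j i, PhiZ.2 i j + PhiZ.2 j i)) (eu 0 0) := by
  decide +kernel

end Cfsg.Agent.H637.A7Mat
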