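import Cfsg.Agent.H637.A7Three

/-!
# `3.A₇` in dimension nine (helper637)
-/

set_option autoImplicit false
set_option linter.unusedSectionVars false
set_option linter.unusedSimpArgs false

namespace Cfsg.Agent.H637.Three

open Matrix
open Cfsg.Agent.H915.A7Old (a3 b3 dg gm rm fin3 ext3 omega_cube omega_ne mul3 gm_mul_gm gm_entries dg_entries rm_entries)

section gen

variable {F : Type*} [Field F] {R : Type*} [Ring R] [Algebra F R] {ω : F}

/-- circulant -/
def ci (y₀ y₁ y₂ : R) : Matrix (Fin 3) (Fin 3) R := !![y₀, y₂, y₁; y₁, y₀, y₂; y₂, y₁, y₀]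

theorem ci_entries (y₀ y₁ y₂ : R) : ci y₀ y₁ y₂ 0 0 = y₀ ∧ ci y₀ y₁ y₂ 0 1 = y₂ ∧ ci y₀ y₁ y₂ 0 2 = y₁ ∧
    ci y₀ y₁ y₂ 1 0 = y₁ ∧ ci y₀ y₁ y₂ 1 1 = y₀ ∧ ci y₀ y₁ y₂ 1 2 = y₂ ∧ ci y₀ y₁ y₂ 2 0 = y₂ ∧ ci y₀ y₁ y₂ 2 1 = y₁ ∧
    ci y₀ y₁ y₂ 2 2 = y₀ := ⟨rfl, rfl, rfl, rfl, rfl, rfl, rfl, rfl, rfl⟩

theorem K_eq3 (hω : ω ^ 2 + ω + 1 = 0) (x d₀ d₁ d₂ t : R) :
    gm ω x * dg d₀ d₁ d₂ * (gm ω x * rm t) = ci (x * (d₀ + d₁ + d₂) * (x * t))
      (x * (d₀ + ω ^ 2 • d₁ + ω • d₂) * (x * t)) (x * (d₀ + ω • d₁ + ω ^ 2 • d₂) * (x * t)) := by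
  obtain ⟨a00, a01, a02, a10, a11, a12, a20, a21, a22⟩ := gm_entries hω x
  obtain ⟨r00, r01, r02, r10, r11, r12, r20, r21, r22⟩ := rm_entries t
  obtain ⟨k00, k01, k02, k10, k11, k12, k20, k21, k22⟩ := dg_entries d₀ d₁ d₂
  obtain ⟨p00, p01, p02, p10, p11, p12, p20, p21, p22⟩ := ci_entries (x * (d₀ + d₁ + d₂) * (x * t))
      (x * (d₀ + ω ^ 2 • d₁ + ω • d₂) * (x * t)) (x * (d₀ + ω • d₁ + ω ^ 2 • d₂) * (x * t))
  have e1 : ω ^ 2 * ω ^ 2 = ω := by linear_combination (ω ^ 2 - ω) * hω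
  have e2 : ω * ω ^ 2 = 1 := by linear_combination (ω - 1) * hω
  have e3 : ω ^ 2 * ω = 1 := by linear_combination (ω - 1) * hω
  have e4 : ω * ω = ω ^ 2 := by ring
  apply ext3 <;> simp only [mul3, p00, p01, p02, p10, p11, p12, p20, p21, p22] <;>
    simp only [a00, a01, a02, a10, a11, a12, a20, a21, a22, r00, r01, r02, r10, r11, r12, r20, r21, r22,
      k00, k01, k02, k10, k11, k12, k20, k21, k22, mul_zero, zero_mul, add_zero, zero_add, mul_add, add_mul,
      smul_mul_assoc, mul_smul_comm, smul_smul, smul_zero, e1, e2, e3, e4, one_smul, mul_assoc]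

/-- the relation of order six, in blocks -/
theorem r6_block (hω : ω ^ 2 + ω + 1 = 0) {x d₀ d₁ d₂ t : R} (ht : t = (3 : F) • (x * x)) (tt : t * t = 1)
    (h00 : d₀ * d₀ = 1) (h11 : d₁ * d₁ = 1) (h22 : d₂ * d₂ = 1)
    (r6 : (dg d₀ d₁ d₂ * (gm ω x * dg d₀ d₁ d₂ * (gm ω x * (gm ω x * gm ω x)))) ^ 3 = gm ω x * gm ω x) :
    ∃ y₀ y₁ y₂ : R, y₀ = x * (d₀ + d₁ + d₂) * (x * t) ∧ y₁ = x * (d₀ + ω ^ 2 • d₁ + ω • d₂) * (x * t) ∧
      y₂ = x * (d₀ + ω • d₁ + ω ^ 2 • d₂) * (x * t) ∧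
      dg d₀ d₁ d₂ * ci y₀ y₁ y₂ * dg d₀ d₁ d₂ = rm t * (ci y₀ y₁ y₂ * dg d₀ d₁ d₂ * ci y₀ y₁ y₂) := by
  refine ⟨_, _, _, rfl, rfl, rfl, ?_⟩
  have hs : gm ω x * gm ω x = rm t := by rw [gm_mul_gm hω, ht]
  rw [← K_eq3 hω, ← hs]
  have hkk : dg d₀ d₁ d₂ * dg d₀ d₁ d₂ = (1 : Matrix (Fin 3) (Fin 3) R) := by
    obtain ⟨k00, k01, k02, k10, k11, k12, k20, k21, k22⟩ := dg_entries d₀ d₁ d₂
    apply ext3 <;> simp only [mul3, k00, k01, k02, k10, k11, k12, k20, k21, k22, h00, h11, h22] <;> simp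
  have hss : (gm ω x * gm ω x) * (gm ω x * gm ω x) = (1 : Matrix (Fin 3) (Fin 3) R) := by
    rw [hs]
    obtain ⟨r00, r01, r02, r10, r11, r12, r20, r21, r22⟩ := rm_entries t
    apply ext3 <;> simp only [mul3, r00, r01, r02, r10, r11, r12, r20, r21, r22, tt] <;> simp
  generalize dg d₀ d₁ d₂ = k at *
  generalize gm ω x = g at *
  have hKK : (g * k * (g * (g * g))) * (g * k * (g * (g * g))) = 1 := by
    calc _ = g * k * ((g * g) * (g * g)) * k * (g * (g * g)) := by noncomm_ring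
      _ = g * (k * k) * (g * (g * g)) := by rw [hss]; noncomm_ring
      _ = (g * g) * (g * g) := by rw [hkk]; noncomm_ring
      _ = 1 := hss
  generalize g * k * (g * (g * g)) = K at *
  have h1 : (K * k * K) * (K * k * K) = 1 := by
    calc _ = K * k * (K * K) * k * K := by noncomm_ring
      _ = K * (k * k) * K := by rw [hKK]; noncomm_ring
      _ = K * K := by rw [hkk]; noncomm_ring
      _ = 1 := hKK
  calc k * K * k = k * K * k * ((K * k * K) * (K * k * K)) := by rw [h1, mul_one]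
    _ = (k * K) ^ 3 * (K * k * K) := by
      rw [pow_succ, pow_two]; noncomm_ring
    _ = (g * g) * (K * k * K) := by rw [r6]

/-- two blocks of the relation of order six -/
theorem r6_entries (hω : ω ^ 2 + ω + 1 = 0) {x d₀ d₁ d₂ t : R} (ht : t = (3 : F) • (x * x)) (tt : t * t = 1)
    (h00 : d₀ * d₀ = 1) (h11 : d₁ * d₁ = 1) (h22 : d₂ * d₂ = 1)
    (r6 : (dg d₀ d₁ d₂ * (gm ω x * dg d₀ d₁ d₂ * (gm ω x * (gm ω x * gm ω x)))) ^ 3 = gm ω x * gm ω x) :
    ∃ y₀ y₁ y₂ : R, y₀ = x * (d₀ + d₁ + d₂) * (x * t) ∧ y₁ = x * (d₀ + ω ^ 2 • d₁ + ω • d₂) * (x * t) ∧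
      y₂ = x * (d₀ + ω • d₁ + ω ^ 2 • d₂) * (x * t) ∧
      d₀ * y₂ * d₁ = t * (y₀ * d₀ * y₂ + y₂ * d₁ * y₀ + y₁ * d₂ * y₁) ∧
      d₁ * y₁ * d₀ = t * (y₂ * d₀ * y₀ + y₁ * d₁ * y₁ + y₀ * d₂ * y₂) := by
  obtain ⟨y₀, y₁, y₂, h0, h1, h2, h⟩ := r6_block hω ht tt h00 h11 h22 r6
  refine ⟨y₀, y₁, y₂, h0, h1, h2, ?_, ?_⟩
  · have e := congrFun (congrFun h 0) 1
    obtain ⟨r00, r01, r02, r10, r11, r12, r20, r21, r22⟩ := rm_entries t
    obtain ⟨k00, k01, k02, k10, k11, k12, k20, k21, k22⟩ := dg_entries d₀ d₁ d₂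
    obtain ⟨p00, p01, p02, p10, p11, p12, p20, p21, p22⟩ := ci_entries y₀ y₁ y₂
    simp only [mul3, p00, p01, p02, p10, p11, p12, p20, p21, p22, r00, r01, r02, r10, r11, r12, r20, r21, r22,
      k00, k01, k02, k10, k11, k12, k20, k21, k22, mul_zero, zero_mul, add_zero, zero_add] at e
    exact e
  · have e := congrFun (congrFun h 1) 0
    obtain ⟨r00, r01, r02, r10, r11, r12, r20, r21, r22⟩ := rm_entries t
    obtain ⟨k00, k01, k02, k10, k11, k12, k20, k21, k22⟩ := dg_entries d₀ d₁ d₂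
    obtain ⟨p00, p01, p02, p10, p11, p12, p20, p21, p22⟩ := ci_entries y₀ y₁ y₂
    simp only [mul3, p00, p01, p02, p10, p11, p12, p20, p21, p22, r00, r01, r02, r10, r11, r12, r20, r21, r22,
      k00, k01, k02, k10, k11, k12, k20, k21, k22, mul_zero, zero_mul, add_zero, zero_add] at e
    exact e

end gen

section dat

variable {F W : Type*} [Field F] [AddCommGroup W] [Module F W] {ω : F} {x d₀ d₁ d₂ t : Module.End F W}

theorem mul_ap {A B C : Module.End F W} (h : A * B = C) (w : W) : A (B w) = C w := by rw [← h]; rfl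

namespace Dat

variable (D : Dat ω x d₀ d₁ d₂ t)
include D

theorem xt : t * x = x * t := by
  rw [D.ht, smul_mul_assoc, mul_smul_comm, mul_assoc]

theorem h01 : d₀ * d₁ = d₂ := by rw [← D.h21, mul_assoc, D.h11, mul_one]

theorem h12 : d₁ * d₂ = d₀ := by rw [← D.h10, ← mul_assoc, D.h11, one_mul]

theorem h20 : d₂ * d₀ = d₁ := by rw [← D.h21, ← mul_assoc, D.h22, one_mul]

/-- `d₀ ≠ 1` in dimension at least three -/
theorem ne_one [FiniteDimensional F W] (hW : 2 < Module.finrank F W) : d₀ ≠ 1 := by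
  intro h0
  have e21 : d₂ = d₁ := by rw [← D.h02, h0, one_mul]
  obtain ⟨c, hc⟩ := D.comm t D.xt D.t0 (by rw [D.t1, e21]) (by rw [D.t2, e21])
  have hxx : ∀ w, x (x w) = ((3 : F)⁻¹ * c) • w := by
    intro w
    have h1 : (3 : F) • x (x w) = c • w := by
      have h2 := congrArg (fun T : Module.End F W => T w) (D.ht.symm.trans hc)
      exact h2
    rw [← smul_smul, ← h1, smul_smul, inv_mul_cancel₀ D.h3, one_smul]
  have hdd : ∀ w, d₁ (d₁ w) = w := fun w => mul_ap D.h11 w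
  have hmx : (x * d₁ + d₁ * x) * x = x * (x * d₁ + d₁ * x) := by
    apply LinearMap.ext
    intro w
    show x (d₁ (x w)) + d₁ (x (x w)) = x (x (d₁ w) + d₁ (x w))
    rw [map_add, hxx, hxx, map_smul]
    abel
  have hmd : (x * d₁ + d₁ * x) * d₁ = d₁ * (x * d₁ + d₁ * x) := by
    apply LinearMap.ext
    intro w
    show x (d₁ (d₁ w)) + d₁ (x (d₁ w)) = d₁ (x (d₁ w) + d₁ (x w))
    rw [map_add, hdd, hdd]
    abel
  obtain ⟨κ, hκ⟩ := D.comm (x * d₁ + d₁ * x) hmx (by rw [h0, mul_one, one_mul]) hmd (by rw [e21]; exact hmd)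
  have hκ' : ∀ w, d₁ (x w) = κ • w - x (d₁ w) := by
    intro w
    have h2 : x (d₁ w) + d₁ (x w) = κ • w := congrArg (fun T : Module.End F W => T w) hκ
    rw [← h2]
    abel
  have : Nontrivial W := Module.nontrivial_of_finrank_pos (R := F) (by omega)
  obtain ⟨v, hv, ε, hε⟩ : ∃ v : W, v ≠ 0 ∧ ∃ ε : F, d₁ v = ε • v := by
    by_cases h1 : ∃ u, d₁ u + u ≠ 0
    · obtain ⟨u, hu⟩ := h1
      refine ⟨d₁ u + u, hu, 1, ?_⟩
      rw [map_add, hdd, one_smul, add_comm]
    · push Not at h1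
      obtain ⟨v, hv⟩ := exists_ne (0 : W)
      refine ⟨v, hv, -1, ?_⟩
      rw [neg_one_smul]
      exact eq_neg_of_add_eq_zero_left (h1 v)
  let U : Submodule F W := Submodule.span F (Set.range ![v, x v])
  have hvU : v ∈ U := Submodule.subset_span ⟨0, rfl⟩
  have hxU : x v ∈ U := Submodule.subset_span ⟨1, rfl⟩
  have hgen : ∀ T : Module.End F W, T v ∈ U → T (x v) ∈ U → ∀ u ∈ U, T u ∈ U := by
    intro T h1 h2 u hu
    have : U ≤ U.comap T := by
      apply Submodule.span_le.2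
      rintro _ ⟨i, rfl⟩
      fin_cases i
      · exact h1
      · exact h2
    exact this hu
  have hx := hgen x hxU (by rw [hxx]; exact U.smul_mem _ hvU)
  have hd : ∀ u ∈ U, d₁ u ∈ U := hgen d₁ (by rw [hε]; exact U.smul_mem _ hvU) (by
    rw [hκ', hε, map_smul]
    exact sub_mem (U.smul_mem _ hvU) (U.smul_mem _ hxU))
  rcases D.irr U hx (by rw [h0]; exact fun u hu => hu) hd (by rw [e21]; exact hd) with h1 | h1
  · rw [h1, Submodule.mem_bot] at hvU
    exact hv hvU
  · have h2 : Module.finrank F U ≤ 2 := by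
      have := finrank_range_le_card (R := F) (![v, x v])
      rw [Fintype.card_fin] at this
      exact this
    rw [h1, finrank_top] at h2
    omega

end Dat

/-- an endomorphism with square zero of a three-dimensional space -/
theorem rank_one [FiniteDimensional F W] (hW : Module.finrank F W = 3) {N : Module.End F W} (h : N * N = 0)
    (h0 : N ≠ 0) : ∃ e : W, e ≠ 0 ∧ (∃ w, N w = e) ∧ ∃ φ : W →ₗ[F] F, ∀ w, N w = φ w • e := by
  obtain ⟨w₀, hw₀⟩ : ∃ w, N w ≠ 0 := by
    by_contra hcon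
    push Not at hcon
    exact h0 (LinearMap.ext hcon)
  have h1 := LinearMap.finrank_range_add_finrank_ker N
  have h2 : LinearMap.range N ≤ LinearMap.ker N := by
    rintro _ ⟨w, rfl⟩
    rw [LinearMap.mem_ker]
    exact mul_ap h w
  have h3 := Submodule.finrank_mono h2
  have h4 : Module.finrank F (LinearMap.range N) ≤ 1 := by omega
  have h5 : Module.finrank F (LinearMap.range N) = 1 := by
    apply le_antisymm h4
    apply Nat.one_le_iff_ne_zero.2
    intro h6
    have h7 := Submodule.finrank_eq_zero.1 h6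
    apply hw₀
    have h8 : N w₀ ∈ LinearMap.range N := ⟨w₀, rfl⟩
    rw [h7, Submodule.mem_bot] at h8
    exact h8
  obtain ⟨f, hf⟩ : ∃ f : W →ₗ[F] F, f (N w₀) = 1 := by
    by_contra hcon
    push Not at hcon
    apply hw₀
    rw [← Module.forall_dual_apply_eq_zero_iff F]
    intro g
    by_contra hg
    apply hcon ((g (N w₀))⁻¹ • g)
    rw [LinearMap.smul_apply, smul_eq_mul, inv_mul_cancel₀ hg]
  refine ⟨N w₀, hw₀, ⟨w₀, rfl⟩, f ∘ₗ N, fun w => ?_⟩
  have h6 : (⟨N w₀, w₀, rfl⟩ : LinearMap.range N) ≠ 0 := fun h => hw₀ (congrArg Subtype.val h)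
  obtain ⟨c, hc⟩ := (finrank_eq_one_iff_of_nonzero' _ h6).1 h5 ⟨N w, w, rfl⟩
  have h7 : c • N w₀ = N w := congrArg Subtype.val hc
  rw [LinearMap.comp_apply, ← h7, map_smul, hf, smul_eq_mul, mul_one]

/-- characteristic two is impossible in dimension three -/
theorem Dat.not_two [FiniteDimensional F W] (D : Dat ω x d₀ d₁ d₂ t) (hW : Module.finrank F W = 3)
    (h2 : (2 : F) = 0) : False := by
  have h0 := D.ne_one (by omega)
  have add_self : ∀ w : W, w + w = 0 := fun w => by rw [← two_smul F w, h2, zero_smul]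
  have eq_of_add : ∀ u v : W, u + v = 0 → u = v := fun u v h => by
    have h1 : u = u + (v + v) := by rw [add_self, add_zero]
    rw [h1, ← add_assoc, h, zero_add]
  have sq0 : ∀ T : Module.End F W, T * T = 1 → (T + 1) * (T + 1) = 0 := by
    intro T hT
    apply LinearMap.ext
    intro w
    show T (T w + w) + (T w + w) = 0
    rw [map_add, mul_ap hT]
    show w + T w + (T w + w) = 0
    have : w + T w + (T w + w) = (w + w) + (T w + T w) := by abel
    rw [this, add_self, add_self, add_zero]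
  have ne0 : ∀ T : Module.End F W, T ≠ 1 → T + 1 ≠ 0 := by
    intro T hT h
    apply hT
    apply LinearMap.ext
    intro w
    exact eq_of_add _ _ (congrArg (fun T : Module.End F W => T w) h)
  have ht1 : t ≠ 1 := by
    intro ht
    apply h0
    have e : d₂ = d₁ := by
      have := D.t2
      rwa [ht, one_mul, mul_one] at this
    rw [← D.h21, e, D.h11]
  have hd1 : d₁ ≠ 1 := by
    intro hd
    apply h0
    have e : d₂ = 1 := by
      have h3 : t * d₂ = t * 1 := by rw [D.t2, hd, one_mul, mul_one]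
      calc d₂ = t * (t * d₂) := by rw [← mul_assoc, D.tt, one_mul]
        _ = 1 := by rw [h3, mul_one, D.tt]
    rw [← D.h21, e, hd, one_mul]
  obtain ⟨e, he, ⟨e', he'⟩, ψ, hψ⟩ := rank_one hW (sq0 t D.tt) (ne0 t ht1)
  obtain ⟨v, hv, -, φ, hφ⟩ := rank_one hW (sq0 d₁ D.h11) (ne0 d₁ hd1)
  have ht : ∀ w, t w = w + ψ w • e := by
    intro w
    have h3 : t w + w = ψ w • e := hψ w
    rw [← h3, add_comm (t w), ← add_assoc, add_self, zero_add]
  have hd : ∀ w, d₁ w = w + φ w • v := by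
    intro w
    have h3 : d₁ w + w = φ w • v := hφ w
    rw [← h3, add_comm (d₁ w), ← add_assoc, add_self, zero_add]
  have hψe : ψ e = 0 := by
    have h3 : (t + 1) e = 0 := by rw [← he']; exact mul_ap (sq0 t D.tt) e'
    rw [hψ] at h3
    exact (smul_eq_zero.1 h3).resolve_right he
  have hte : t e = e := by rw [ht, hψe, zero_smul, add_zero]
  -- an operator commuting with `t` fixes the line and the plane
  have line : ∀ T : Module.End F W, t * T = T * t → ∀ u ∈ Submodule.span F {e}, T u ∈ Submodule.span F {e} := by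
    intro T hT u hu
    obtain ⟨c, rfl⟩ := Submodule.mem_span_singleton.1 hu
    rw [map_smul]
    apply Submodule.smul_mem
    have h3 : ψ (T e') • e = T e := by
      rw [← hψ, ← he']
      show t (T e') + T e' = T (t e' + e')
      rw [map_add]
      congr 1
      exact congrArg (fun T : Module.End F W => T e') hT
    rw [← h3]
    exact Submodule.smul_mem _ _ (Submodule.mem_span_singleton_self e)
  have plane : ∀ T : Module.End F W, t * T = T * t → ∀ u ∈ LinearMap.ker ψ, T u ∈ LinearMap.ker ψ := by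
    intro T hT u hu
    rw [LinearMap.mem_ker] at hu ⊢
    have h3 : ψ (T u) • e = T (ψ u • e) := by
      rw [← hψ, ← hψ]
      show t (T u) + T u = T (t u + u)
      rw [map_add]
      congr 1
      exact congrArg (fun T : Module.End F W => T u) hT
    rw [hu, zero_smul, map_zero] at h3
    exact (smul_eq_zero.1 h3).resolve_right he
  have hφe : φ e ≠ 0 := by
    intro h3
    have h4 : ∀ u ∈ Submodule.span F {e}, d₁ u ∈ Submodule.span F {e} := by
      intro u hu
      obtain ⟨c, rfl⟩ := Submodule.mem_span_singleton.1 hu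
      rw [map_smul, hd, h3, zero_smul, add_zero]
      exact hu
    have h5 : ∀ u ∈ Submodule.span F {e}, d₂ u ∈ Submodule.span F {e} := by
      intro u hu
      rw [← mul_ap D.h10]
      exact h4 _ (line d₀ D.t0 _ hu)
    rcases D.irr _ (line x D.xt) (line d₀ D.t0) h4 h5 with h6 | h6
    · exact he (Submodule.span_singleton_eq_bot.1 h6)
    · have h7 := finrank_span_singleton (K := F) he
      rw [h6, finrank_top] at h7
      omega
  have hψv : ψ v ≠ 0 := by
    intro h3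
    have h4 : ∀ u ∈ LinearMap.ker ψ, d₁ u ∈ LinearMap.ker ψ := by
      intro u hu
      rw [LinearMap.mem_ker] at hu ⊢
      rw [hd, map_add, map_smul, h3, hu, smul_zero, add_zero]
    have h5 : ∀ u ∈ LinearMap.ker ψ, d₂ u ∈ LinearMap.ker ψ := by
      intro u hu
      rw [← mul_ap D.h10]
      exact h4 _ (plane d₀ D.t0 _ hu)
    rcases D.irr _ (plane x D.xt) (plane d₀ D.t0) h4 h5 with h6 | h6
    · have h7 : e ∈ LinearMap.ker ψ := hψe
      rw [h6, Submodule.mem_bot] at h7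
      exact he h7
    · have h7 : e' ∈ LinearMap.ker ψ := by rw [h6]; exact Submodule.mem_top
      have h8 := hψ e'
      rw [he', LinearMap.mem_ker.1 h7, zero_smul] at h8
      exact he h8
  have hφv : φ v = 0 := by
    have h3 : (d₁ + 1) ((d₁ + 1) e) = 0 := mul_ap (sq0 d₁ D.h11) e
    rw [hφ e, map_smul, hφ v, smul_smul] at h3
    rcases smul_eq_zero.1 h3 with h4 | h4
    · exact (mul_eq_zero.1 h4).resolve_left hφe
    · exact absurd h4 hv
  have hφtv : φ (t v) ≠ 0 := by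
    rw [ht, map_add, map_smul, hφv, zero_add, smul_eq_mul]
    exact mul_ne_zero hψv hφe
  -- `d₂ = t d₁ t`
  have hd2 : ∀ w, d₂ w = w + φ (t w) • t v := by
    intro w
    have h3 : t (t (d₂ w)) = d₂ w := mul_ap D.tt _
    rw [← h3, mul_ap D.t2]
    show t (d₁ (t w)) = _
    rw [hd, map_add, map_smul, mul_ap D.tt]
    rfl
  have hcomm : d₁ (d₂ e) = d₂ (d₁ e) := by
    rw [mul_ap D.h12, mul_ap D.h21]
  rw [hd2 e, hd e, hte, map_add, map_add, map_smul, map_smul, hd e, hd2 e, hte, hd (t v), hd2 v] at hcomm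
  have h3 : (φ e * φ (t v)) • v = (φ e * φ (t v)) • t v := by
    have h4 : e + φ e • v + φ e • (t v + φ (t v) • v) - (e + φ e • t v + φ e • (v + φ (t v) • t v)) =
        (φ e * φ (t v)) • v - (φ e * φ (t v)) • t v := by module
    rw [hcomm, sub_self] at h4
    exact (sub_eq_zero.1 h4.symm)
  have h4 : v = t v := by
    have h5 : (φ e * φ (t v)) • (v - t v) = 0 := by rw [smul_sub, h3, sub_self]
    exact sub_eq_zero.1 ((smul_eq_zero.1 h5).resolve_left (mul_ne_zero hφe hφtv))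
  rw [ht] at h4
  have h5 : ψ v • e = 0 := by
    have h6 : v + ψ v • e - v = ψ v • e := by abel
    rw [← h4, sub_self] at h6
    exact h6.symm
  rcases smul_eq_zero.1 h5 with h6 | h6
  · exact hψv h6
  · exact he h6

theorem double_zero (h2 : (2 : F) ≠ 0) {w : W} (h : w = -w) : w = 0 := by
  have h1 : (2 : F) • w = 0 := by
    rw [two_smul]
    nth_rewrite 2 [h]
    exact add_neg_cancel w
  exact (smul_eq_zero.1 h1).resolve_left h2

/-- a nonzero vector `e` with `d₀ e = -e`, `d₁ e = e` -/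
theorem Dat.exists_e1 [FiniteDimensional F W] (D : Dat ω x d₀ d₁ d₂ t) (hW : 2 < Module.finrank F W)
    (h2 : (2 : F) ≠ 0) : ∃ e : W, e ≠ 0 ∧ d₀ e = -e ∧ d₁ e = e ∧ d₂ e = -e := by
  by_contra hcon
  push Not at hcon
  apply D.ne_one hW
  have key : ∀ w, w + d₁ w = d₀ (w + d₁ w) := by
    intro w
    by_contra h
    have hu : (w + d₁ w) - d₀ (w + d₁ w) ≠ 0 := sub_ne_zero.2 h
    have h3 : d₀ ((w + d₁ w) - d₀ (w + d₁ w)) = -((w + d₁ w) - d₀ (w + d₁ w)) := by
      rw [map_sub, mul_ap D.h00, Module.End.one_apply]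
      abel
    have h4 : d₁ ((w + d₁ w) - d₀ (w + d₁ w)) = (w + d₁ w) - d₀ (w + d₁ w) := by
      rw [map_sub, mul_ap D.h10, map_add, map_add, map_add, mul_ap D.h11, mul_ap D.h21, mul_ap D.h01,
        Module.End.one_apply]
      abel
    refine hcon _ hu h3 h4 ?_
    rw [← mul_ap D.h10, h3, map_neg, h4]
  have key2 : ∀ w, w + d₂ w = d₀ (w + d₂ w) := by
    intro w
    have h3 := congrArg t (key (t w))
    rw [map_add, mul_ap D.tt, mul_ap D.t1] at h3
    have h4 : t (d₀ (t w + d₁ (t w))) = d₀ (t (t w + d₁ (t w))) := congrArg (fun T : Module.End F W => T _) D.t0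
    rw [h4, map_add t, mul_ap D.tt, mul_ap D.t1] at h3
    have h5 : ∀ u, (d₂ * t) (t u) = d₂ u := by
      intro u
      show d₂ (t (t u)) = _
      rw [mul_ap D.tt]; rfl
    rw [h5] at h3
    exact h3
  apply LinearMap.ext
  intro w
  have h3 := key w
  have h4 := key2 w
  rw [map_add, mul_ap D.h01] at h3
  rw [map_add, mul_ap D.h02] at h4
  have h5 : (2 : F) • (w - d₀ w) = 0 := by
    have h6 : (2 : F) • (w - d₀ w) = ((w + d₁ w) - (d₀ w + d₂ w)) + ((w + d₂ w) - (d₀ w + d₁ w)) := by module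
    rw [h6, h3, h4, sub_self, sub_self, add_zero]
  have h6 := (smul_eq_zero.1 h5).resolve_left h2
  exact (sub_eq_zero.1 h6).symm

/-- the normal form in odd characteristic -/
theorem Dat.exists_basis [FiniteDimensional F W] (D : Dat ω x d₀ d₁ d₂ t) (hW : Module.finrank F W = 3)
    (h2 : (2 : F) ≠ 0) : ∃ (b : Module.Basis (Fin 3) F W) (α γ ξ : F),
      d₀ (b 0) = b 0 ∧ d₀ (b 1) = -b 1 ∧ d₀ (b 2) = -b 2 ∧ d₁ (b 0) = b 0 ∧ d₁ (b 1) = b 2 ∧ d₁ (b 2) = b 1 ∧
      d₂ (b 0) = b 0 ∧ d₂ (b 1) = -b 2 ∧ d₂ (b 2) = -b 1 ∧ t (b 0) = b 0 ∧ t (b 1) = b 1 ∧ t (b 2) = -b 2 ∧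
      x (b 0) = α • b 0 + γ • b 1 ∧ x (b 1) = b 0 - α • b 1 ∧ x (b 2) = ξ • b 2 ∧ 3 * (γ + α ^ 2) = 1 ∧
      3 * ξ ^ 2 = -1 := by
  obtain ⟨e₁, he₁, h01, h11, h21⟩ := D.exists_e1 (by omega) h2
  obtain ⟨f, hf⟩ : ∃ f, f = e₁ + t e₁ := ⟨_, rfl⟩
  obtain ⟨h, hh⟩ : ∃ h, h = e₁ - t e₁ := ⟨_, rfl⟩
  have q0 : d₀ (t e₁) = -t e₁ := by
    have : d₀ (t e₁) = t (d₀ e₁) := congrArg (fun T : Module.End F W => T e₁) D.t0.symm
    rw [this, h01, map_neg]
  have q1 : d₁ (t e₁) = -t e₁ := by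
    have : d₁ (t e₁) = t (d₂ e₁) := congrArg (fun T : Module.End F W => T e₁) D.t2.symm
    rw [this, h21, map_neg]
  have q2 : d₂ (t e₁) = t e₁ := by
    have : d₂ (t e₁) = t (d₁ e₁) := congrArg (fun T : Module.End F W => T e₁) D.t1.symm
    rw [this, h11]
  have tte : t (t e₁) = e₁ := mul_ap D.tt e₁
  have tf : t f = f := by rw [hf, map_add, tte, add_comm]
  have th : t h = -h := by rw [hh, map_sub, tte, neg_sub]
  have d0f : d₀ f = -f := by rw [hf, map_add, h01, q0]; abel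
  have d0h : d₀ h = -h := by rw [hh, map_sub, h01, q0]; abel
  have d1f : d₁ f = h := by rw [hf, hh, map_add, h11, q1]; abel
  have d1h : d₁ h = f := by rw [hf, hh, map_sub, h11, q1]; abel
  have d2f : d₂ f = -h := by rw [hf, hh, map_add, h21, q2]; abel
  have d2h : d₂ h = -f := by rw [hf, hh, map_sub, h21, q2]; abel
  have hf0 : f ≠ 0 := by
    intro h0
    apply he₁
    have h3 : h = 0 := by rw [← d1f, h0, map_zero]
    have h4 : (2 : F) • e₁ = 0 := by
      have : (2 : F) • e₁ = f + h := by rw [hf, hh]; module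
      rw [this, h0, h3, add_zero]
    exact (smul_eq_zero.1 h4).resolve_left h2
  have hh0 : h ≠ 0 := fun h0 => hf0 (by rw [← d1h, h0, map_zero])
  -- independence of `f`, `h`
  have indep2 : ∀ p q : F, p • f + q • h = 0 → p = 0 ∧ q = 0 := by
    intro p q e
    have e2 := congrArg t e
    rw [map_add, map_smul, map_smul, tf, th, map_zero] at e2
    have e3 : (2 * p) • f = 0 := by
      have : (2 * p) • f = (p • f + q • h) + (p • f + q • -h) := by module
      rw [this, e, e2, add_zero]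
    have e4 : (2 * q) • h = 0 := by
      have : (2 * q) • h = (p • f + q • h) - (p • f + q • -h) := by module
      rw [this, e, e2, sub_zero]
    exact ⟨(mul_eq_zero.1 ((smul_eq_zero.1 e3).resolve_right hf0)).resolve_left h2,
      (mul_eq_zero.1 ((smul_eq_zero.1 e4).resolve_right hh0)).resolve_left h2⟩
  let S : Submodule F W := Submodule.span F (Set.range ![f, h])
  have hS : Module.finrank F S ≤ 2 := by
    have := finrank_range_le_card (R := F) (![f, h])
    rw [Fintype.card_fin] at this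
    exact this
  obtain ⟨v, hv⟩ : ∃ v, v ∉ S := by
    by_contra hcon
    push Not at hcon
    have : S = ⊤ := by rw [eq_top_iff]; exact fun u _ => hcon u
    rw [this, finrank_top] at hS
    omega
  have hfS : f ∈ S := Submodule.subset_span ⟨0, rfl⟩
  have hhS : h ∈ S := Submodule.subset_span ⟨1, rfl⟩
  have mkb : ∀ u : W, u ∉ S → ∃ b : Module.Basis (Fin 3) F W, b 0 = u ∧ b 1 = f ∧ b 2 = h := by
    intro u hu
    have li : LinearIndependent F ![u, f, h] := by
      rw [Fintype.linearIndependent_iff]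
      intro g hg
      rw [Fin.sum_univ_three] at hg
      have hg' : g 0 • u + g 1 • f + g 2 • h = 0 := hg
      have g0 : g 0 = 0 := by
        by_contra h0
        apply hu
        have : u = (-(g 0)⁻¹ * g 1) • f + (-(g 0)⁻¹ * g 2) • h := by
          have e1 : u = (g 0)⁻¹ • (g 0 • u + g 1 • f + g 2 • h) + ((-(g 0)⁻¹ * g 1) • f + (-(g 0)⁻¹ * g 2) • h) := by
            have e2 : (g 0)⁻¹ • (g 0 • u + g 1 • f + g 2 • h) + ((-(g 0)⁻¹ * g 1) • f + (-(g 0)⁻¹ * g 2) • h) =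
              ((g 0)⁻¹ * g 0) • u := by module
            rw [e2, inv_mul_cancel₀ h0, one_smul]
          rw [hg', smul_zero, zero_add] at e1
          exact e1
        rw [this]
        exact add_mem (S.smul_mem _ hfS) (S.smul_mem _ hhS)
      rw [g0, zero_smul, zero_add] at hg'
      obtain ⟨g1, g2⟩ := indep2 _ _ hg'
      intro i
      fin_cases i
      exacts [g0, g1, g2]
    refine ⟨basisOfLinearIndependentOfCardEqFinrank li (by rw [Fintype.card_fin, hW]), ?_, ?_, ?_⟩ <;>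
      rw [coe_basisOfLinearIndependentOfCardEqFinrank] <;> rfl
  -- the sign characters
  obtain ⟨b, b0, b1, b2⟩ := mkb v hv
  obtain ⟨φ, hφ⟩ : ∃ φ, φ = b.coord 0 := ⟨_, rfl⟩
  have φv : φ v = 1 := by rw [hφ, ← b0, Module.Basis.coord_apply, Module.Basis.repr_self, Finsupp.single_eq_same]
  have φf : φ f = 0 := by
    rw [hφ, ← b1, Module.Basis.coord_apply, Module.Basis.repr_self, Finsupp.single_eq_of_ne (by decide)]
  have φh : φ h = 0 := by
    rw [hφ, ← b2, Module.Basis.coord_apply, Module.Basis.repr_self, Finsupp.single_eq_of_ne (by decide)]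
  have expand : ∀ w, ∃ p q : F, w = φ w • v + p • f + q • h := by
    intro w
    refine ⟨b.repr w 1, b.repr w 2, ?_⟩
    have h3 := b.sum_repr w
    rw [Fin.sum_univ_three, b0, b1, b2] at h3
    rw [hφ]
    exact h3.symm
  have mult : ∀ T : Module.End F W, φ (T f) = 0 → φ (T h) = 0 → ∀ w, φ (T w) = φ (T v) * φ w := by
    intro T h3 h4 w
    obtain ⟨p, q, hw⟩ := expand w
    conv_lhs => rw [hw]
    simp only [map_add, map_smul, h3, h4, smul_eq_mul, mul_zero, add_zero]
    ring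
  have m1 := mult d₁ (by rw [d1f, φh]) (by rw [d1h, φf])
  have m2 := mult d₂ (by rw [d2f, map_neg, φh, neg_zero]) (by rw [d2h, map_neg, φf, neg_zero])
  have mt := mult t (by rw [tf, φf]) (by rw [th, map_neg, φh, neg_zero])
  have c1 : φ (d₁ v) * φ (d₁ v) = 1 := by rw [← m1, mul_ap D.h11]; exact φv
  have c2 : φ (t v) * φ (t v) = 1 := by rw [← mt, mul_ap D.tt]; exact φv
  have c3 : φ (d₁ v) = φ (d₂ v) := by
    have h3 : t (d₁ v) = d₂ (t v) := congrArg (fun T : Module.End F W => T v) D.t1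
    have h4 : φ (t (d₁ v)) = φ (d₂ (t v)) := by rw [h3]
    rw [mt, m2] at h4
    have h5 : φ (t v) ≠ 0 := fun h6 => by rw [h6, mul_zero] at c2; exact zero_ne_one c2
    rw [mul_comm] at h4
    exact mul_right_cancel₀ h5 h4
  have c0 : φ (d₀ v) = 1 := by
    rw [← mul_ap D.h21, m2, ← c3, c1]
  -- the fixed vector of `d₀`
  obtain ⟨u, hu⟩ : ∃ u, u = v + d₀ v := ⟨_, rfl⟩
  have φu : φ u = 2 := by rw [hu, map_add, φv, c0]; norm_num
  have huS : u ∉ S := by
    intro h3
    have h4 : S ≤ LinearMap.ker φ := by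
      apply Submodule.span_le.2
      rintro _ ⟨i, rfl⟩
      fin_cases i
      · exact φf
      · exact φh
    have h5 : φ u = 0 := h4 h3
    rw [φu] at h5
    exact h2 h5
  have d0u : d₀ u = u := by rw [hu, map_add, mul_ap D.h00, add_comm]; rfl
  clear expand mult m1 m2 mt c1 c2 c3 c0
  obtain ⟨b', b0', b1', b2'⟩ := mkb u huS
  have expand : ∀ w, ∃ r p q : F, w = r • u + p • f + q • h := by
    intro w
    refine ⟨b'.repr w 0, b'.repr w 1, b'.repr w 2, ?_⟩
    have h3 := b'.sum_repr w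
    rw [Fin.sum_univ_three, b0', b1', b2'] at h3
    exact h3.symm
  have indep : ∀ r p q : F, r • u + p • f + q • h = 0 → r = 0 ∧ p = 0 ∧ q = 0 := by
    intro r p q e
    have h3 := congrArg φ e
    rw [map_add, map_add, map_smul, map_smul, map_smul, φu, φf, φh, smul_zero, smul_zero, add_zero, add_zero, map_zero,
      smul_eq_mul] at h3
    have hr := (mul_eq_zero.1 h3).resolve_right h2
    rw [hr, zero_smul, zero_add] at e
    exact ⟨hr, indep2 _ _ e⟩
  -- an operator commuting with `d₀` multiplies `u`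
  have fix : ∀ T : Module.End F W, d₀ * T = T * d₀ → ∃ c : F, T u = c • u := by
    intro T hT
    obtain ⟨r, p, q, h3⟩ := expand (T u)
    have h4 : d₀ (T u) = T u := by
      have : d₀ (T u) = T (d₀ u) := congrArg (fun T : Module.End F W => T u) hT
      rw [this, d0u]
    rw [h3, map_add, map_add, map_smul, map_smul, map_smul, d0u, d0f, d0h] at h4
    have h5 : (0 : F) • u + (2 * p) • f + (2 * q) • h = 0 := by
      have : (0 : F) • u + (2 * p) • f + (2 * q) • h =
        (r • u + p • f + q • h) - (r • u + p • -f + q • -h) := by module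
      rw [this, h4, sub_self]
    obtain ⟨-, h6, h7⟩ := indep _ _ _ h5
    refine ⟨r, ?_⟩
    rw [h3, (mul_eq_zero.1 h6).resolve_left h2, (mul_eq_zero.1 h7).resolve_left h2, zero_smul, zero_smul, add_zero,
      add_zero]
  obtain ⟨δ, hδ⟩ := fix d₁ (by rw [D.h01, D.h10])
  obtain ⟨τ, hτ⟩ := fix t D.t0.symm
  have hu0 : u ≠ 0 := fun h3 => h2 (by rw [← φu, h3, map_zero])
  have hττ : τ * τ = 1 := by
    have h3 : t (t u) = u := mul_ap D.tt u
    rw [hτ, map_smul, hτ, smul_smul] at h3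
    have h4 : (τ * τ - 1) • u = 0 := by rw [sub_smul, h3, one_smul, sub_self]
    exact sub_eq_zero.1 ((smul_eq_zero.1 h4).resolve_right hu0)
  have hδδ : δ * δ = 1 := by
    have h3 : d₁ (d₁ u) = u := mul_ap D.h11 u
    rw [hδ, map_smul, hδ, smul_smul] at h3
    have h4 : (δ * δ - 1) • u = 0 := by rw [sub_smul, h3, one_smul, sub_self]
    exact sub_eq_zero.1 ((smul_eq_zero.1 h4).resolve_right hu0)
  have hδ2 : d₂ u = δ • u := by
    rw [← mul_ap D.h10, d0u, hδ]
  -- traces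
  have trb : ∀ (T : Module.End F W) (c₀ c₁ c₂ : F), b'.repr (T (b' 0)) 0 = c₀ → b'.repr (T (b' 1)) 1 = c₁ →
      b'.repr (T (b' 2)) 2 = c₂ → LinearMap.trace F W T = c₀ + c₁ + c₂ := by
    intro T c₀ c₁ c₂ h3 h4 h5
    rw [LinearMap.trace_eq_matrix_trace F b', Matrix.trace_fin_three, LinearMap.toMatrix_apply,
      LinearMap.toMatrix_apply, LinearMap.toMatrix_apply, h3, h4, h5]
  have t_t := trb t τ 1 (-1) (by rw [b0', hτ, ← b0']; simp) (by rw [b1', tf, ← b1']; simp)
    (by rw [b2', th, ← b2']; simp)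
  have t_0 := trb d₀ 1 (-1) (-1) (by rw [b0', d0u, ← b0']; simp) (by rw [b1', d0f, ← b1']; simp)
    (by rw [b2', d0h, ← b2']; simp)
  have t_1 := trb d₁ δ 0 0 (by rw [b0', hδ, ← b0']; simp) (by rw [b1', d1f, ← b2']; simp)
    (by rw [b2', d1h, ← b1']; simp)
  have t_2 := trb d₂ δ 0 0 (by rw [b0', hδ2, ← b0']; simp) (by rw [b1', d2f, ← b2']; simp)
    (by rw [b2', d2h, ← b1']; simp)
  have htr := D.htr
  rw [t_t, t_0, t_1, t_2] at htr
  have hτ' : τ = 2 * δ - 1 := by linear_combination htr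
  have hδ1 : δ = 1 := by
    have h3 : (2 * 2) * (1 - δ) = 0 := by
      rw [hτ'] at hττ
      linear_combination hττ - 4 * hδδ
    have h4 := (mul_eq_zero.1 h3).resolve_left (mul_ne_zero h2 h2)
    linear_combination -h4
  have hτ1 : τ = 1 := by rw [hτ', hδ1]; norm_num
  subst hδ1
  subst hτ1
  rw [one_smul] at hδ hτ hδ2
  -- `x`
  have xx : ∀ w, (3 : F) • x (x w) = t w := fun w => (congrArg (fun T : Module.End F W => T w) D.ht).symm
  have xt' : ∀ w, t (x w) = x (t w) := fun w => congrArg (fun T : Module.End F W => T w) D.xt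
  have plus : ∀ w, t w = w → ∃ p q : F, w = p • u + q • f := by
    intro w hw
    obtain ⟨r, p, q, h3⟩ := expand w
    rw [h3, map_add, map_add, map_smul, map_smul, map_smul, hτ, tf, th] at hw
    have h5 : (0 : F) • u + (0 : F) • f + (2 * q) • h = 0 := by
      have : (0 : F) • u + (0 : F) • f + (2 * q) • h =
        (r • u + p • f + q • h) - (r • u + p • f + q • -h) := by module
      rw [this, hw, sub_self]
    obtain ⟨-, -, h7⟩ := indep _ _ _ h5
    refine ⟨r, p, ?_⟩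
    rw [h3, (mul_eq_zero.1 h7).resolve_left h2, zero_smul, add_zero]
  obtain ⟨ξ, hξ⟩ : ∃ ξ : F, x h = ξ • h := by
    obtain ⟨r, p, q, h3⟩ := expand (x h)
    have h4 : t (x h) = -x h := by rw [xt', th, map_neg]
    rw [h3, map_add, map_add, map_smul, map_smul, map_smul, hτ, tf, th] at h4
    have h5 : (2 * r) • u + (2 * p) • f + (0 : F) • h = 0 := by
      have : (2 * r) • u + (2 * p) • f + (0 : F) • h =
        (r • u + p • f + q • -h) - -(r • u + p • f + q • h) := by module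
      rw [this, h4, sub_self]
    obtain ⟨h6, h7, -⟩ := indep _ _ _ h5
    refine ⟨q, ?_⟩
    rw [h3, (mul_eq_zero.1 h6).resolve_left h2, (mul_eq_zero.1 h7).resolve_left h2, zero_smul, zero_smul, zero_add,
      zero_add]
  obtain ⟨β, ρ, hβ⟩ := plus (x f) (by rw [xt', tf])
  obtain ⟨α, γ, hα⟩ := plus (x u) (by rw [xt', hτ])
  have hβ0 : β ≠ 0 := by
    intro h0
    rw [h0, zero_smul, zero_add] at hβ
    have hgen : ∀ T : Module.End F W, T f ∈ S → T h ∈ S → ∀ s ∈ S, T s ∈ S := by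
      intro T h3 h4 s hs
      have : S ≤ S.comap T := by
        apply Submodule.span_le.2
        rintro _ ⟨i, rfl⟩
        fin_cases i
        · exact h3
        · exact h4
      exact this hs
    rcases D.irr S (hgen x (by rw [hβ]; exact S.smul_mem _ hfS) (by rw [hξ]; exact S.smul_mem _ hhS))
      (hgen d₀ (by rw [d0f]; exact neg_mem hfS) (by rw [d0h]; exact neg_mem hhS))
      (hgen d₁ (by rw [d1f]; exact hhS) (by rw [d1h]; exact hfS))
      (hgen d₂ (by rw [d2f]; exact neg_mem hhS) (by rw [d2h]; exact neg_mem hfS)) with h3 | h3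
    · rw [h3, Submodule.mem_bot] at hfS
      exact hf0 hfS
    · exact hv (h3 ▸ Submodule.mem_top)
  have hβu : β • u ∉ S := by
    intro h3
    apply huS
    have h4 := S.smul_mem β⁻¹ h3
    rwa [smul_smul, inv_mul_cancel₀ hβ0, one_smul] at h4
  -- the relations of `x`
  have r1 := xx f
  rw [hβ, map_add, map_smul, map_smul, hα, hβ, tf] at r1
  have r1' : (3 * (β * α + ρ * β)) • u + (3 * (β * γ + ρ * ρ) - 1) • f + (0 : F) • h = 0 := by
    have : (3 * (β * α + ρ * β)) • u + (3 * (β * γ + ρ * ρ) - 1) • f + (0 : F) • h =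
      (3 : F) • (β • (α • u + γ • f) + ρ • (β • u + ρ • f)) - f := by module
    rw [this, r1, sub_self]
  obtain ⟨s1, s2, -⟩ := indep _ _ _ r1'
  have hρ : ρ = -α := by
    have h3 := (mul_eq_zero.1 s1).resolve_left D.h3
    have h4 : β * (α + ρ) = 0 := by linear_combination h3
    linear_combination (mul_eq_zero.1 h4).resolve_left hβ0
  subst hρ
  have r2 := xx h
  rw [hξ, map_smul, hξ, th] at r2
  have r2' : (0 : F) • u + (0 : F) • f + (3 * (ξ * ξ) + 1) • h = 0 := by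
    have : (0 : F) • u + (0 : F) • f + (3 * (ξ * ξ) + 1) • h = (3 : F) • ξ • ξ • h - -h := by module
    rw [this, r2, sub_self]
  obtain ⟨-, -, s3⟩ := indep _ _ _ r2'
  obtain ⟨b'', b0'', b1'', b2''⟩ := mkb (β • u) hβu
  refine ⟨b'', α, β * γ, ξ, ?_⟩
  rw [b0'', b1'', b2'']
  refine ⟨by rw [map_smul, d0u], d0f, d0h, by rw [map_smul, hδ], d1f, d1h, by rw [map_smul, hδ2], d2f, d2h,
    by rw [map_smul, hτ], tf, th, ?_, ?_, hξ, by linear_combination s2, by linear_combination s3⟩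
  · rw [map_smul, hα]; module
  · rw [hβ]; module

set_option maxHeartbeats 1000000 in
/-- **In odd characteristic dimension three forces characteristic seven.** -/
theorem Dat.seven [FiniteDimensional F W] (D : Dat ω x d₀ d₁ d₂ t) (hW : Module.finrank F W = 3)
    (h2 : (2 : F) ≠ 0) : (7 : F) = 0 := by
  obtain ⟨b, α, γ, ξ, a00, a01, a02, a10, a11, a12, a20, a21, a22, at0, at1, at2, ax0, ax1, ax2, hγ, hξ⟩ :=
    D.exists_basis hW h2
  obtain ⟨y₀, y₁, y₂, hy0, hy1, hy2, E1, E2⟩ := r6_entries D.hω D.ht D.tt D.h00 D.h11 D.h22 D.r6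
  let M := LinearMap.toMatrixAlgEquiv b
  have X : M x = !![α, 1, 0; γ, -α, 0; 0, 0, ξ] := by
    ext i j
    rw [LinearMap.toMatrixAlgEquiv_apply]
    fin_cases j <;> fin_cases i <;> simp [ax0, ax1, ax2]
  have T : M t = !![1, 0, 0; 0, 1, 0; 0, 0, -1] := by
    ext i j
    rw [LinearMap.toMatrixAlgEquiv_apply]
    fin_cases j <;> fin_cases i <;> simp [at0, at1, at2]
  have D0 : M d₀ = !![1, 0, 0; 0, -1, 0; 0, 0, -1] := by
    ext i j
    rw [LinearMap.toMatrixAlgEquiv_apply]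
    fin_cases j <;> fin_cases i <;> simp [a00, a01, a02]
  have D1 : M d₁ = !![1, 0, 0; 0, 0, 1; 0, 1, 0] := by
    ext i j
    rw [LinearMap.toMatrixAlgEquiv_apply]
    fin_cases j <;> fin_cases i <;> simp [a10, a11, a12]
  have D2 : M d₂ = !![1, 0, 0; 0, 0, -1; 0, -1, 0] := by
    ext i j
    rw [LinearMap.toMatrixAlgEquiv_apply]
    fin_cases j <;> fin_cases i <;> simp [a20, a21, a22]
  obtain ⟨θ, hθ⟩ : ∃ θ, θ = ω - ω ^ 2 := ⟨_, rfl⟩
  have hθ2 : θ ^ 2 = -3 := by rw [hθ]; linear_combination (ω ^ 2 - 3 * ω + 3) * D.hω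
  have hω := D.hω
  have M0 : M (d₀ + d₁ + d₂) = !![3, 0, 0; 0, -1, 0; 0, 0, -1] := by
    rw [map_add, map_add, D0, D1, D2]
    ext i j
    fin_cases i <;> fin_cases j <;> norm_num
  have M1 : M (d₀ + ω ^ 2 • d₁ + ω • d₂) = !![0, 0, 0; 0, -1, -θ; 0, -θ, -1] := by
    rw [map_add, map_add, map_smul, map_smul, D0, D1, D2]
    ext i j
    fin_cases i <;> fin_cases j <;> norm_num <;>
      first
      | linear_combination hω
      | linear_combination -hω
      | linear_combination hθ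
      | linear_combination -hθ
  have M2 : M (d₀ + ω • d₁ + ω ^ 2 • d₂) = !![0, 0, 0; 0, -1, θ; 0, θ, -1] := by
    rw [map_add, map_add, map_smul, map_smul, D0, D1, D2]
    ext i j
    fin_cases i <;> fin_cases j <;> norm_num <;>
      first
      | linear_combination hω
      | linear_combination -hω
      | linear_combination hθ
      | linear_combination -hθ
  have Y0 : M y₀ = !![3 * α ^ 2 - γ, 4 * α, 0; 4 * α * γ, 3 * γ - α ^ 2, 0; 0, 0, ξ ^ 2] := by
    rw [hy0, map_mul, map_mul, map_mul, M0, X, T]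
    ext i j
    fin_cases i <;> fin_cases j <;> simp [Matrix.mul_apply, Fin.sum_univ_three] <;> ring
  have Y1 : M y₁ = !![-γ, α, ξ * θ; α * γ, -α ^ 2, -(α * ξ * θ); -(γ * ξ * θ), α * ξ * θ, ξ ^ 2] := by
    rw [hy1, map_mul, map_mul, map_mul, M1, X, T]
    ext i j
    fin_cases i <;> fin_cases j <;> simp [Matrix.mul_apply, Fin.sum_univ_three] <;> ring
  have Y2 : M y₂ = !![-γ, α, -(ξ * θ); α * γ, -α ^ 2, α * ξ * θ; γ * ξ * θ, -(α * ξ * θ), ξ ^ 2] := by
    rw [hy2, map_mul, map_mul, map_mul, M2, X, T]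
    ext i j
    fin_cases i <;> fin_cases j <;> simp [Matrix.mul_apply, Fin.sum_univ_three] <;> ring
  have F1 := congrFun (congrFun (congrArg M E1) 0) 2
  rw [map_mul, map_mul, map_mul, map_add, map_add, map_mul, map_mul, map_mul, map_mul, map_mul, map_mul, Y0, Y1, Y2,
    D0, D1, D2, T] at F1
  simp [Matrix.mul_apply, Fin.sum_univ_three] at F1
  have F2 := congrFun (congrFun (congrArg M E2) 0) 2
  rw [map_mul, map_mul, map_mul, map_add, map_add, map_mul, map_mul, map_mul, map_mul, map_mul, map_mul, Y0, Y1, Y2,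
    D0, D1, D2, T] at F2
  simp [Matrix.mul_apply, Fin.sum_univ_three] at F2
  have G1 : 7 * α ^ 2 * (ξ * θ) = 0 := by
    linear_combination F1 + α * ξ ^ 2 * hθ2 - α * hξ
  have G2 : (9 * α ^ 2 - 2) * (ξ * θ) = 0 := by
    linear_combination 3 * F2 - 3 * α * ξ ^ 2 * hθ2 + ξ * θ * hξ
  have hξθ : ξ * θ ≠ 0 := by
    intro h0
    have h3 : (3 : F) * ((ξ * θ) * (ξ * θ)) = 3 := by linear_combination θ ^ 2 * hξ - hθ2
    rw [h0, mul_zero, mul_zero] at h3
    exact D.h3 h3.symm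
  have K1 := (mul_eq_zero.1 G1).resolve_right hξθ
  have K2 := (mul_eq_zero.1 G2).resolve_right hξθ
  have K3 : (2 : F) * 7 = 0 := by linear_combination 9 * K1 - 7 * K2
  exact (mul_eq_zero.1 K3).resolve_left h2

end dat

end Cfsg.Agent.H637.Three
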