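import Cfsg.Agent.H637.A7Nine
import Cfsg.Agent.H637.A7Main

/-!
# `A₇` and its covers in dimension nine (helper637)

`nine` : a core with `Soc P ≅ A₇` in dimension nine is self-dual, or the characteristic is seven and `Fr P 7`.
-/

set_option autoImplicit false
set_option linter.unusedSectionVars false

namespace Cfsg.Agent.H637.Three

open Cfsg Cfsg.Geo Matrix Cfsg.Agent.H913.N6
open Cfsg.Agent.H915.LD
open Cfsg.Agent.H907
open Equiv Equiv.Perm
open Cfsg.Agent.H890.Y3 (r3 r3' g4 r22 r33 r42 r322 r5 r7 y4 reps r3_comm r3_pow r33_eq)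
open Cfsg.Agent.H915.A7Old (Rel Z3 kk exists_rel L_congr)

/-- every element of `A₇` is of order seven or conjugate in `A₇` to a representative -/
theorem reps' (x : alternatingGroup (Fin 7)) : x ^ 7 = 1 ∨ ∃ γ r : alternatingGroup (Fin 7),
    (r = r3 ∨ r = r33 ∨ r = r322 ∨ ((r = r22 ∨ r = r42 ∨ r = r5))) ∧ γ * x * γ⁻¹ = r := by
  obtain ⟨σ, r, hr, h⟩ := reps x
  have key : ∀ τ : Perm (Fin 7), sign τ = -1 → τ * (r : Perm (Fin 7)) = r * τ → ∃ γ : alternatingGroup (Fin 7),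
      γ * x * γ⁻¹ = r := by
    intro τ hτ hc
    have h1 : σ * (x : Perm (Fin 7)) * σ⁻¹ = r := congrArg Subtype.val h
    rcases Int.units_eq_one_or (sign σ) with hs | hs
    · exact ⟨⟨σ, mem_alternatingGroup.2 hs⟩, Subtype.ext h1⟩
    · refine ⟨⟨τ * σ, mem_alternatingGroup.2 (by rw [Perm.sign_mul, hτ, hs]; rfl)⟩, Subtype.ext ?_⟩
      show τ * σ * (x : Perm (Fin 7)) * (τ * σ)⁻¹ = r
      have : τ * σ * (x : Perm (Fin 7)) * (τ * σ)⁻¹ = τ * (σ * x * σ⁻¹) * τ⁻¹ := by group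
      rw [this, h1, hc, mul_inv_cancel_right]
  rcases hr with rfl | rfl | rfl | rfl | rfl | rfl | rfl | rfl
  · left
    have : x = 1 := by
      have h2 : MulAut.conjNormal σ x = MulAut.conjNormal σ 1 := by rw [h, map_one]
      exact (MulAut.conjNormal σ).injective h2
    rw [this, one_pow]
  · right
    obtain ⟨γ, hγ⟩ := key (c[3, 4]) (by decide +kernel) (by decide +kernel)
    exact ⟨γ, _, Or.inl rfl, hγ⟩
  · right
    obtain ⟨γ, hγ⟩ := key (c[0, 1]) (by decide +kernel) (by decide +kernel)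
    exact ⟨γ, _, Or.inr (Or.inr (Or.inr (Or.inl rfl))), hγ⟩
  · right
    obtain ⟨γ, hγ⟩ := key (c[0, 3] * c[1, 4] * c[2, 5]) (by decide +kernel) (by decide +kernel)
    exact ⟨γ, _, Or.inr (Or.inl rfl), hγ⟩
  · right
    obtain ⟨γ, hγ⟩ := key (c[4, 5]) (by decide +kernel) (by decide +kernel)
    exact ⟨γ, _, Or.inr (Or.inr (Or.inr (Or.inr (Or.inl rfl)))), hγ⟩
  · right
    obtain ⟨γ, hγ⟩ := key (c[3, 4]) (by decide +kernel) (by decide +kernel)
    exact ⟨γ, _, Or.inr (Or.inr (Or.inl rfl)), hγ⟩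
  · left
    have h2 : MulAut.conjNormal σ (x ^ 7) = MulAut.conjNormal σ 1 := by
      rw [map_pow, h, map_one]
      decide +kernel
    exact (MulAut.conjNormal σ).injective h2
  · right
    obtain ⟨γ, hγ⟩ := key (c[5, 6]) (by decide +kernel) (by decide +kernel)
    exact ⟨γ, _, Or.inr (Or.inr (Or.inr (Or.inr (Or.inr rfl)))), hγ⟩

def y5 : alternatingGroup (Fin 7) := ⟨c[1, 2, 4, 3] * c[5, 6], mem_alternatingGroup.2 (by decide)⟩

theorem pow22 : r22 ^ 7 = r22 ∧ r22 ^ 20 = 1 := by decide +kernel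
theorem pow42 : y4 * r42 * y4⁻¹ = r42 ^ 7 ∧ r42 ^ 20 = 1 := by decide +kernel
theorem pow5 : y5 * r5 * y5⁻¹ = r5 ^ 7 ∧ r5 ^ 20 = 1 := by decide +kernel
theorem pow322 : r322 ^ 7 = r322 ∧ r322 ^ 2 = r3 ^ 2 := by decide +kernel
theorem pow3 : r3 ^ 7 = r3 := by decide +kernel
theorem pow33 : r33 ^ 7 = r33 := by decide +kernel

section fr

variable {ι : Type} [Fintype ι] [DecidableEq ι] {F : Type*} [Field F] {P : Subgroup (GL ι F)}
  {C : Cov P (alternatingGroup (Fin 7))}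

/-- `σ` conjugate to `σ ^ 7` of order prime to three: the lifts are conjugate -/
theorem good_of_conj [Nonempty ι] (hZ : Z3 P) {σ γ : alternatingGroup (Fin 7)} (h7 : γ * σ * γ⁻¹ = σ ^ 7)
    (h20 : σ ^ 20 = 1) {g : GL ι F} (hg : C.L g σ) : tr (g ^ 7) = tr g := by
  obtain ⟨y, hy⟩ := C.exists_lift γ
  have h1 := L_congr (hg.conj hy) h7
  obtain ⟨c, hc, h2⟩ := (hg.pow 7).exists_sc h1
  have h3 := hg.pow 20
  rw [h20, Cov.L.one_iff] at h3
  obtain ⟨hd, d, h4⟩ := h3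
  have hd' : sc d ∈ P := h4 ▸ hd
  have hc3 := hZ c hc
  have hd3 := hZ d hd'
  have h5 : (g ^ 7) ^ 20 = sc (d ^ 7) := by rw [← pow_mul, mul_comm, pow_mul, h4, sc_pow]
  have h6 : (sc c * (y * g * y⁻¹)) ^ 20 = sc (c ^ 20 * d) := by
    rw [(show Commute (sc c) (y * g * y⁻¹) from sc_comm c _).mul_pow, conj_pow, h4, ← sc_comm,
      mul_inv_cancel_right, ← sc_pow, ← sc_mul]
  rw [h2, h6] at h5
  have h7 := sc_inj h5
  have h8 : d ^ 7 = d := by
    have : d ^ 7 = (d ^ 3) ^ 2 * d := by rw [← pow_mul, ← pow_succ]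
    rw [this, hd3, one_pow, one_mul]
  have h9 : c ^ 20 = 1 := by
    rw [h8] at h7
    exact mul_eq_right.1 h7
  have h10 : c = 1 := by
    have e1 : c ^ 21 = 1 := by rw [show 21 = 3 * 7 from rfl, pow_mul, hc3, one_pow]
    rw [pow_succ, h9, one_mul] at e1
    exact e1
  rw [h2, h10, sc_one, one_mul, tr_conj]

/-- lifts of `σ` have trace zero when some lift conjugates them to a proper multiple -/
theorem tr_zero {ω : Fˣ} (hω : ω ≠ 1) {g y : GL ι F} (h : y * g * y⁻¹ = sc ω * g) : tr g = 0 := by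
  have h1 := tr_conj y g
  have h2 : tr (sc ω * g) = (ω : F) * tr g := tr_smul (by rw [Units.val_mul, coe_sc, smul_mul_assoc, one_mul])
  rw [h, h2] at h1
  have h3 : ((ω : F) - 1) * tr g = 0 := by rw [sub_mul, h1, one_mul, sub_self]
  rcases mul_eq_zero.1 h3 with h4 | h4
  · exact absurd (Units.ext (sub_eq_zero.1 h4)) hω
  · exact h4

theorem fr_seven [Finite F] [CharP F 7] (hC : Core P) (C : Cov P (alternatingGroup (Fin 7))) (hZ : Z3 P)
    (hz : ∃ c : Fˣ, c ≠ 1 ∧ sc c ∈ P) : Fr P 7 := by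
  have : Fact (Nat.Prime 7) := ⟨by norm_num⟩
  have hι : Nonempty ι := hC.nonempty
  obtain ⟨ω, a, b, k, g₀, hrel, La, Lb, Lk, Lg, hωP⟩ := exists_rel (C := C) hZ
  have hω1 : ω ≠ 1 := by
    rintro rfl
    apply omega_ne_one hC hZ hz La Lb
    rw [hrel.ab, sc_one, one_mul]
  have hω1' : ω⁻¹ ≠ 1 := fun h => hω1 (inv_eq_one.1 h)
  have hba : b * a * b⁻¹ = sc ω⁻¹ * a := by
    have h1 := hrel.ab
    rw [mul_inv_eq_iff_eq_mul, mul_assoc, h1, ← mul_assoc, ← sc_mul, inv_mul_cancel, sc_one, one_mul]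
  -- conjugation of lifts
  have cj : ∀ {g x : GL ι F} {σ τ : alternatingGroup (Fin 7)}, C.L g σ → C.L x τ → (∃ γ, γ * σ * γ⁻¹ = τ) →
      ∃ (y : GL ι F) (c : Fˣ), sc c ∈ P ∧ y * g * y⁻¹ = sc c * x := by
    rintro g x σ τ hg hx ⟨γ, hγ⟩
    obtain ⟨y, hy⟩ := C.exists_lift γ
    obtain ⟨c, hc, h⟩ := (L_congr (hg.conj hy) hγ).exists_sc hx
    exact ⟨y, c, hc, h⟩
  have scal : ∀ (c : Fˣ) (g : GL ι F), tr (sc c * g) = (c : F) * tr g := fun c g =>
    tr_smul (by rw [Units.val_mul, coe_sc, smul_mul_assoc, one_mul])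
  have zero : ∀ {g x : GL ι F} {σ τ : alternatingGroup (Fin 7)}, C.L g σ → C.L x τ → (∃ γ, γ * σ * γ⁻¹ = τ) →
      tr x = 0 → tr g = 0 := by
    intro g x σ τ hg hx h h0
    obtain ⟨y, c, -, h1⟩ := cj hg hx h
    rw [← tr_conj y g, h1, scal, h0, mul_zero]
  have hta : tr a = 0 := tr_zero hω1' hba
  have htab : tr (a * b) = 0 := by
    refine tr_zero (y := a) hω1 ?_
    have h1 : a * (a * b) * a⁻¹ = a * (a * b) * a⁻¹ := rfl
    calc a * (a * b) * a⁻¹ = a * (sc ω * (b * a)) * a⁻¹ := by rw [hrel.ab]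
      _ = sc ω * (a * b) := by rw [← mul_assoc a, ← sc_comm]; group
  have hab : C.L (a * b) r33 := L_congr (La.mul Lb) r33_eq.symm
  apply Fr.of_reg' 7
  intro g hgP hreg
  have hpow : tr (g ^ 7) = tr g ^ 7 := by
    have := tr_pow_char (p := 7) g 1
    rw [pow_one] at this
    exact this
  rw [← hpow]
  obtain ⟨σ, hσ⟩ := Cov.L.of_mem C hgP
  rcases reps' σ with h7 | ⟨γ, r, hr, hγ⟩
  · -- order seven
    have h1 := hσ.pow 7
    rw [h7, Cov.L.one_iff] at h1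
    obtain ⟨hm, c, hc⟩ := h1
    have hc3 := hZ c (hc ▸ hm)
    have h2 : g ^ 21 = 1 := by rw [show 21 = 7 * 3 from rfl, pow_mul, hc, ← sc_pow, hc3, sc_one]
    have h3 : orderOf g ∣ 3 := by
      have h4 : orderOf g ∣ 7 * 3 := orderOf_dvd_of_pow_eq_one h2
      have h5 : (orderOf g).Coprime 7 := by
        rw [Nat.coprime_comm, Nat.Prime.coprime_iff_not_dvd (by norm_num)]
        exact hreg
      exact h5.dvd_of_dvd_mul_left h4
    have h4 : g ^ 3 = 1 := orderOf_dvd_iff_pow_eq_one.1 h3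
    have h5 : g ^ 7 = g := by
      have : g ^ 7 = (g ^ 3) ^ 2 * g := by rw [← pow_mul, ← pow_succ]
      rw [this, h4, one_pow, one_mul]
    rw [h5]
  · have back : ∀ {δ : alternatingGroup (Fin 7)}, δ * r * δ⁻¹ = r ^ 7 →
        (γ⁻¹ * δ * γ) * σ * (γ⁻¹ * δ * γ)⁻¹ = σ ^ 7 := by
      intro δ hδ
      have h1 : σ = γ⁻¹ * r * γ := by rw [← hγ]; group
      have h2 : σ ^ 7 = γ⁻¹ * r ^ 7 * γ := by
        rw [h1]
        have := conj_pow (i := 7) (a := γ⁻¹) (b := r)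
        rw [inv_inv] at this
        exact this
      rw [h2, ← hδ, h1]
      group
    have back20 : r ^ 20 = 1 → σ ^ 20 = 1 := by
      intro h
      have h1 : σ = γ⁻¹ * r * (γ⁻¹)⁻¹ := by rw [← hγ]; group
      rw [h1, conj_pow, h, mul_one, mul_inv_cancel]
    rcases hr with rfl | rfl | rfl | rfl | rfl | rfl
    · have h1 : tr g = 0 := zero hσ La ⟨γ, hγ⟩ hta
      have h2 : tr (g ^ 7) = 0 := zero (hσ.pow 7) La ⟨γ, by rw [← conj_pow, hγ, pow3]⟩ hta
      rw [h1, h2]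
    · have h1 : tr g = 0 := zero hσ hab ⟨γ, hγ⟩ htab
      have h2 : tr (g ^ 7) = 0 := zero (hσ.pow 7) hab ⟨γ, by rw [← conj_pow, hγ, pow33]⟩ htab
      rw [h1, h2]
    · -- order six
      obtain ⟨y, c, hc, h1⟩ := cj (hσ.pow 2) (La.pow 2) ⟨γ, by rw [← conj_pow, hγ, pow322.2]⟩
      have hc3 := hZ c hc
      have h2 : (g ^ 2) ^ 3 = 1 := by
        have h3 : (y * g ^ 2 * y⁻¹) ^ 3 = 1 := by
          rw [h1, (show Commute (sc c) (a ^ 2) from sc_comm c _).mul_pow, ← sc_pow, hc3, sc_one, one_mul, ← pow_mul,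
            mul_comm, pow_mul, hrel.a3, one_pow]
        rw [conj_pow, mul_inv_eq_one] at h3
        exact mul_eq_left.1 h3
      have h5 : g ^ 7 = g := by
        have : g ^ 7 = (g ^ 2) ^ 3 * g := by rw [← pow_mul, ← pow_succ]
        rw [this, h2, one_mul]
      rw [h5]
    · exact good_of_conj hZ (back (δ := 1) (by rw [pow22.1]; group)) (back20 pow22.2) hσ
    · exact good_of_conj hZ (back pow42.1) (back20 pow42.2) hσ
    · exact good_of_conj hZ (back pow5.1) (back20 pow5.2) hσ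

end fr

section main

variable {ι : Type} [Fintype ι] [DecidableEq ι] {F : Type*} [Field F] [Finite F] {P : Subgroup (GL ι F)}

/-- the scalars of `P` have order dividing six and `n` -/
theorem scalars_dvd (hC : Core P) (e : Soc P ≃* alternatingGroup (Fin 7)) {c : Fˣ} (hc : (sc c : GL ι F) ∈ P) :
    c ^ 6 = 1 ∧ c ^ Fintype.card ι = 1 := by
  have hι : Nonempty ι := hC.nonempty
  have h1 := hC.card_scalars_dvd e (S2116.result 7 (Or.inr rfl))
  rw [show Nat.card (Multiplicative (ZMod 6)) = 6 from Nat.card_zmod 6] at h1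
  have hz : (⟨sc c, hc⟩ : P) ∈ (scalars ι F).subgroupOf P := sc_mem_scalars c
  have h2 : (⟨sc c, hc⟩ : P) ^ 6 = 1 := by
    have h4 : (⟨⟨sc c, hc⟩, hz⟩ : (scalars ι F).subgroupOf P) ^ Nat.card ((scalars ι F).subgroupOf P) = 1 :=
      pow_card_eq_one'
    have h5 : (⟨sc c, hc⟩ : P) ^ Nat.card ((scalars ι F).subgroupOf P) = 1 := congrArg Subtype.val h4
    obtain ⟨m, hm⟩ := h1
    rw [hm, pow_mul, h5, one_pow]
  have h4 := hC.pow_card hz
  have h2' : (sc (c ^ 6) : GL ι F) = sc 1 := by rw [sc_one, sc_pow]; exact congrArg Subtype.val h2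
  have h4' : (sc (c ^ Fintype.card ι) : GL ι F) = sc 1 := by rw [sc_one, sc_pow]; exact congrArg Subtype.val h4
  exact ⟨sc_inj h2', sc_inj h4'⟩

/-- **`3.A₇` in dimension nine.** -/
theorem nine_three (hC : Core P) (e : Soc P ≃* alternatingGroup (Fin 7)) (hn : Fintype.card ι = 9)
    (hz : ∃ c : Fˣ, c ≠ 1 ∧ (sc c : GL ι F) ∈ P) : (7 : F) = 0 ∧ Fr P 7 := by
  have hZ : Z3 P := by
    intro c hc
    obtain ⟨h1, h2⟩ := scalars_dvd hC e hc
    rw [hn] at h2
    have h3 : c ^ 3 = c ^ 9 := by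
      have : c ^ 9 = c ^ 6 * c ^ 3 := by rw [← pow_add]
      rw [this, h1, one_mul]
    rw [h3, h2]
  obtain ⟨W, ω, x, d₀, d₁, d₂, t, D, hW⟩ := exists_dat hC (Cov.of e) hZ hz
  rw [hn] at hW
  have hW3 : Module.finrank F W = 3 := by omega
  by_cases h2 : (2 : F) = 0
  · exact (D.not_two hW3 h2).elim
  · have h7 := D.seven hW3 h2
    have : CharP F 7 := by
      have h8 : ringChar F = 7 := CharP.ringChar_of_prime_eq_zero (by norm_num) (by exact_mod_cast h7)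
      rw [← h8]
      exact ringChar.charP F
    exact ⟨h7, fr_seven hC (Cov.of e) hZ hz⟩

/-- **`A₇` and its covers in dimension nine.** -/
theorem nine (p : ℕ) [Fact p.Prime] [CharP F p] (hC : Core P) (e : Soc P ≃* alternatingGroup (Fin 7))
    (hn : Fintype.card ι = 9) : SD P ∨ (p = 7 ∧ Fr P 7 ∧ ∃ c : Fˣ, c ≠ 1 ∧ (sc c : GL ι F) ∈ P) := by
  by_cases hz : ∃ c : Fˣ, c ≠ 1 ∧ (sc c : GL ι F) ∈ P
  · right
    obtain ⟨h1, h2⟩ := nine_three hC e hn hz
    refine ⟨?_, h2, hz⟩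
    have h3 : ((7 : ℕ) : F) = 0 := by exact_mod_cast h1
    rw [CharP.cast_eq_zero_iff F p] at h3
    exact (Nat.prime_dvd_prime_iff_eq (Fact.out) (by norm_num)).1 h3
  · left
    push Not at hz
    rcases A7Main.le_two p hC e (fun g hg hs => by
      obtain ⟨c, rfl⟩ := mem_scalars.1 hs
      by_cases hc : c = 1
      · rw [hc, sc_one, one_mul]
      · exact absurd hg (hz c hc)) with h | ⟨h, -⟩
    · exact h
    · rw [hn] at h
      omega

end main

end Cfsg.Agent.H637.Three
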