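import Cfsg.Agent.H637.A7Blk

/-!
# `3.A₇` over the multiplicity space (helper637)

A core `P` with `P/Z = A₇` whose scalars have order three: the data `x, d₀, d₁, d₂, t` on the multiplicity space `W` of
`3^{1+2}` (dimension `n/3`), after helper890.
-/

set_option autoImplicit false
set_option linter.unusedSectionVars false

namespace Cfsg.Agent.H637.Three

open Cfsg Cfsg.Geo Matrix Cfsg.Agent.H913.N6 Cfsg.Agent.H637.Blk
open Cfsg.Agent.H915.LD (Core Soc toSoc tr Fr)
open Cfsg.Agent.H907
open Cfsg.Agent.H890.Y3 (r3 r3' g4 r3_comm r3_pow)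
open Cfsg.Agent.H915.A7Old (Rel Z3 kk gen7 f9 f9_injective index_f9 a3 b3 dg gm rm fin3 ext3 omega_cube omega_ne mul3 exists_rel
  omega_sum three_ne stage_one gm_mul_gm gm_entries dg_entries rm_entries two_conj L_congr)

section core

variable {ι : Type} [Fintype ι] [DecidableEq ι] {F : Type*} [Field F] {P : Subgroup (GL ι F)}

local notation "MI" => Matrix ι ι F

/-- lifts of generators and the scalars of `P` generate `P` -/
theorem le_of_gens {T : Type*} [Group T] (C : Cov P T) {S : Set T} (hS : Subgroup.closure S = ⊤)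
    {Y : Subgroup (GL ι F)} (hY : ∀ s ∈ S, ∃ y ∈ Y, C.L y s) (hsc : ∀ c, sc c ∈ P → sc c ∈ Y) : P ≤ Y := by
  have key : ∀ σ : T, ∃ y ∈ Y, C.L y σ := by
    intro σ
    have h1 : σ ∈ Subgroup.closure S := by rw [hS]; exact Subgroup.mem_top _
    induction h1 using Subgroup.closure_induction with
    | mem x hx => exact hY x hx
    | one => exact ⟨1, one_mem Y, Cov.L.one⟩
    | mul x y _ _ h h' =>
      obtain ⟨u, hu, hu'⟩ := h
      obtain ⟨v, hv, hv'⟩ := h'
      exact ⟨u * v, mul_mem hu hv, hu'.mul hv'⟩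
    | inv x _ h =>
      obtain ⟨u, hu, hu'⟩ := h
      exact ⟨u⁻¹, inv_mem hu, hu'.inv⟩
  intro x hx
  obtain ⟨σ, hσ⟩ := Cov.L.of_mem C hx
  obtain ⟨y, hy, hy'⟩ := key σ
  obtain ⟨c, hc, rfl⟩ := hσ.exists_sc hy'
  exact mul_mem (hsc c hc) hy

/-- the lifts of the two `3`-cycles do not commute -/
theorem omega_ne_one [Nonempty ι] [Finite F] (hC : Core P) {C : Cov P (alternatingGroup (Fin 7))} (hZ : Z3 P)
    (hz : ∃ c : Fˣ, c ≠ 1 ∧ sc c ∈ P) {a b : GL ι F} (La : C.L a r3) (Lb : C.L b r3') : a * b ≠ b * a := by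
  intro hab
  obtain ⟨c, hc1, hc⟩ := hz
  have hcomm : Commute a b := hab
  let S : Subgroup P := f9.range.comap C.π
  have hS : ∀ x ∈ S, ∀ y ∈ S, x * y = y * x := by
    have form : ∀ x ∈ S, ∃ (d : Fˣ) (i j : ℕ), (x : GL ι F) = sc d * (a ^ i * b ^ j) := by
      intro x hx
      obtain ⟨m, hm⟩ := hx
      have h1 : C.L (x : GL ι F) (r3 ^ (m.toAdd.1).val * r3' ^ (m.toAdd.2).val) := ⟨x.2, hm.symm⟩
      have h2 := (La.pow (m.toAdd.1).val).mul (Lb.pow (m.toAdd.2).val)
      obtain ⟨d, -, hd⟩ := h1.exists_sc h2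
      exact ⟨d, _, _, hd⟩
    intro x hx y hy
    obtain ⟨d, i, j, h1⟩ := form x hx
    obtain ⟨d', i', j', h2⟩ := form y hy
    apply Subtype.ext
    rw [Subgroup.coe_mul, Subgroup.coe_mul, h1, h2]
    have e1 : Commute (a ^ i * b ^ j) (a ^ i' * b ^ j') := by
      apply Commute.mul_left
      · exact Commute.mul_right (Commute.pow_pow (Commute.refl a) _ _) (hcomm.pow_pow _ _)
      · exact Commute.mul_right (hcomm.symm.pow_pow _ _) (Commute.pow_pow (Commute.refl b) _ _)
    have e2 : ∀ (e : Fˣ) (z : GL ι F), Commute (sc e) z := fun e z => sc_comm e z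
    exact ((e2 d _).mul_left ((e2 d' _).symm.mul_right e1)).eq
  have hzS : (⟨sc c, hc⟩ : P) ∈ S := by
    show C.π _ ∈ f9.range
    rw [(C.ker ⟨sc c, hc⟩).2 (sc_mem_scalars c)]
    exact one_mem _
  have h1 := pow_index_mem hC.commutator_top S hS hzS (fun x => Subtype.ext (sc_comm c (x : GL ι F)))
  have h2 : S.index = 280 := by
    rw [← index_f9]
    exact Subgroup.index_comap_of_surjective _ C.surj
  rw [h2] at h1
  have h3 : sc (c ^ 280) = (1 : GL ι F) := by
    rw [sc_pow]
    exact congrArg Subtype.val h1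
  rw [← sc_one] at h3
  have h4 := sc_inj h3
  have h5 := hZ c hc
  apply hc1
  have h6 : c ^ 280 = (c ^ 3) ^ 93 * c := by rw [← pow_mul, ← pow_succ]
  rw [h6, h5, one_pow, one_mul] at h4
  exact h4

/-- the relations as matrices -/
theorem rel_mat {ω : Fˣ} {a b k g : GL ι F} (h : Rel ω a b k g) :
    (g : MI) * a = b * g ∧ (a : MI) * (g * b) = g ∧ (k : MI) * k = 1 ∧ ((g : MI) * g) * (g * g) = 1 ∧
      (k : MI) * a = a * k ∧ ((g : MI) * g) * k = k * (g * g) ∧ (k : MI) * b * k * b = b * (b * k) ∧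
      ((k : MI) * (g * k * (g * (g * g)))) ^ 3 = g * g := by
  refine ⟨congrArg (fun g : GL ι F => (g : MI)) h.ga, ?_, ?_, ?_,
    congrArg (fun g : GL ι F => (g : MI)) h.ka, ?_, ?_, ?_⟩
  · have h1 : a * (g * b) = g := by rw [h.gb, mul_inv_cancel_left]
    exact congrArg (fun g : GL ι F => (g : MI)) h1
  · have h1 : k * k = 1 := by rw [← sq, h.k2]
    exact congrArg (fun g : GL ι F => (g : MI)) h1
  · have h1 : (g * g) * (g * g) = 1 := by rw [← sq, ← sq, ← pow_mul, h.g4]
    exact congrArg (fun g : GL ι F => (g : MI)) h1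
  · have h1 : (g * g) * k = k * (g * g) := by rw [← sq, h.sk]
    exact congrArg (fun g : GL ι F => (g : MI)) h1
  · have h1 : k * b * k * b = b * (b * k) := by
      have h2 := congrArg (fun z => z * b ^ 2) h.v4
      simp only [inv_mul_cancel_right] at h2
      calc k * b * k * b = k * (b * k * b⁻¹) * b ^ 2 := by group
        _ = b ^ 2 * k := h2
        _ = b * (b * k) := by rw [sq, mul_assoc]
    exact congrArg (fun g : GL ι F => (g : MI)) h1
  · have h1 : (k * (g * k * (g * (g * g)))) ^ 3 = g * g := by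
      have h2 : g * (g * g) = g⁻¹ := by
        rw [eq_inv_iff_mul_eq_one, ← h.g4, pow_succ, pow_succ, sq, mul_assoc g g g]
      rw [h2, h.r6, sq]
    have h2 := congrArg (fun g : GL ι F => (g : MI)) h1
    simp only [Units.val_pow_eq_pow_val, Units.val_mul] at h2
    exact h2

end core

/-- the reduced data on the multiplicity space -/
structure Dat {F W : Type*} [Field F] [AddCommGroup W] [Module F W] (ω : F) (x d₀ d₁ d₂ t : Module.End F W) :
    Prop where
  hω : ω ^ 2 + ω + 1 = 0
  h3 : (3 : F) ≠ 0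
  ht : t = (3 : F) • (x * x)
  tt : t * t = 1
  t0 : t * d₀ = d₀ * t
  t2 : t * d₂ = d₁ * t
  t1 : t * d₁ = d₂ * t
  h00 : d₀ * d₀ = 1
  h11 : d₁ * d₁ = 1
  h22 : d₂ * d₂ = 1
  h21 : d₂ * d₁ = d₀
  h02 : d₀ * d₂ = d₁
  h10 : d₁ * d₀ = d₂
  r6 : (dg d₀ d₁ d₂ * (gm ω x * dg d₀ d₁ d₂ * (gm ω x * (gm ω x * gm ω x)))) ^ 3 = gm ω x * gm ω x
  irr : ∀ U : Submodule F W, (∀ u ∈ U, x u ∈ U) → (∀ u ∈ U, d₀ u ∈ U) → (∀ u ∈ U, d₁ u ∈ U) → (∀ u ∈ U, d₂ u ∈ U) →
    U = ⊥ ∨ U = ⊤
  comm : ∀ Z : Module.End F W, Z * x = x * Z → Z * d₀ = d₀ * Z → Z * d₁ = d₁ * Z → Z * d₂ = d₂ * Z → ∃ c : F, Z = c • 1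
  htr : LinearMap.trace F W t = LinearMap.trace F W d₀ + LinearMap.trace F W d₁ + LinearMap.trace F W d₂

section ex

variable {ι : Type} [Fintype ι] [DecidableEq ι] {F : Type*} [Field F] {P : Subgroup (GL ι F)}

local notation "MI" => Matrix ι ι F
local notation "Λ" => (Matrix.toLinAlgEquiv' : Matrix ι ι F ≃ₐ[F] ((ι → F) →ₗ[F] (ι → F)))

theorem g4_kk : ∃ γ : alternatingGroup (Fin 7), γ * kk * γ⁻¹ = g4 ^ 2 :=
  ⟨⟨c[0, 5] * c[1, 6], Equiv.Perm.mem_alternatingGroup.2 (by decide)⟩, by decide +kernel⟩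

theorem val_inv_eq {x : GL ι F} {n : ℕ} (h : x ^ (n + 1) = 1) : x⁻¹ = x ^ n := by
  rw [inv_eq_iff_mul_eq_one, ← pow_succ']
  exact h

set_option maxHeartbeats 1000000 in
theorem exists_dat [Finite F] (hC : Core P) (C : Cov P (alternatingGroup (Fin 7))) (hZ : Z3 P)
    (hz : ∃ c : Fˣ, c ≠ 1 ∧ sc c ∈ P) : ∃ (W : Submodule F (ι → F)) (ω : F) (x d₀ d₁ d₂ t : Module.End F W),
      Dat ω x d₀ d₁ d₂ t ∧ Fintype.card ι = 3 * Module.finrank F W := by
  classical
  have hι : Nonempty ι := hC.nonempty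
  obtain ⟨ω, a, b, k, g, hrel, La, Lb, Lk, Lg, hωP⟩ := exists_rel (C := C) hZ
  have hω1 : ω ≠ 1 := by
    rintro rfl
    apply omega_ne_one hC hZ hz La Lb
    rw [hrel.ab, sc_one, one_mul]
  have hω3 := hZ ω hωP
  have hω3' : (ω : F) ^ 3 = 1 := by rw [← Units.val_pow_eq_pow_val, hω3, Units.val_one]
  have hω1' : (ω : F) ≠ 1 := fun h => hω1 (Units.ext h)
  have hω := omega_sum hω3' hω1'
  have h3 := three_ne hω3' hω1'
  obtain ⟨ga, gb, kk2, g4', ka, sk, v4, r6⟩ := rel_mat hrel
  have h : Sys (Λ (a : MI)) (Λ (b : MI)) (ω : F) := by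
    refine ⟨?_, ?_, ?_, hω, h3⟩
    · have h1 : a * (a * a) = 1 := by rw [← sq, ← pow_succ', hrel.a3]
      have h2 : (a : MI) * (a * a) = 1 := congrArg (fun g : GL ι F => (g : MI)) h1
      rw [← map_mul, ← map_mul, h2, map_one]
    · have h1 : b * (b * b) = 1 := by rw [← sq, ← pow_succ', hrel.b3]
      have h2 : (b : MI) * (b * b) = 1 := congrArg (fun g : GL ι F => (g : MI)) h1
      rw [← map_mul, ← map_mul, h2, map_one]
    · have h2 : (a : MI) * b = (ω : F) • ((b : MI) * a) := by
        have h3 := congrArg (fun g : GL ι F => (g : MI)) hrel.ab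
        simp only [Units.val_mul, coe_sc, smul_mul_assoc, one_mul] at h3
        exact h3
      rw [← map_mul, h2, map_smul, map_mul]
  have hmul : ∀ X Y : MI, rho h (Λ (X * Y)) = rho h (Λ X) * rho h (Λ Y) := fun X Y => by rw [map_mul, rho_mul]
  have hone : rho h (Λ (1 : MI)) = 1 := by rw [map_one, rho_one]
  have hpow : ∀ (X : MI) (n : ℕ), rho h (Λ (X ^ n)) = rho h (Λ X) ^ n := fun X n => by rw [map_pow, rho_pow]
  obtain ⟨k', hk'⟩ : ∃ k', k' = rho h (Λ (k : MI)) := ⟨_, rfl⟩
  obtain ⟨g', hg'⟩ : ∃ g', g' = rho h (Λ (g : MI)) := ⟨_, rfl⟩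
  have hA : rho h (Λ (a : MI)) = a3 (ω : F) := rho_A h
  have hB : rho h (Λ (b : MI)) = b3 := rho_B h
  have ga' : g' * a3 (ω : F) = b3 * g' := by rw [hg', ← hA, ← hB, ← hmul, ← hmul, ga]
  have gb' : a3 (ω : F) * (g' * b3) = g' := by rw [hg', ← hA, ← hB, ← hmul, ← hmul, gb]
  have kk2' : k' * k' = 1 := by rw [hk', ← hmul, kk2, hone]
  have g4'' : (g' * g') * (g' * g') = 1 := by rw [hg', ← hmul, ← hmul, g4', hone]
  have ka' : k' * a3 (ω : F) = a3 (ω : F) * k' := by rw [hk', ← hA, ← hmul, ← hmul, ka]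
  have sk' : (g' * g') * k' = k' * (g' * g') := by rw [hg', hk', ← hmul, ← hmul, ← hmul, sk]
  have v4' : k' * b3 * k' * b3 = b3 * (b3 * k') := by
    rw [hk', ← hB, ← hmul, ← hmul, ← hmul, ← hmul, ← hmul, v4]
  have r6' : (k' * (g' * k' * (g' * (g' * g')))) ^ 3 = g' * g' := by
    rw [hk', hg', ← hmul, ← hmul, ← hmul, ← hmul, ← hmul, ← hpow, r6]
  obtain ⟨x, d₀, d₁, d₂, t, hk, hg, ht, hgg, htt, ht0, ht2, ht1, h00, h11, h22, h21, h02, h10⟩ :=
    stage_one hω h3 ka' ga' gb' kk2' g4'' sk' v4'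
  refine ⟨Blk.W (Λ (a : MI)), (ω : F), x, d₀, d₁, d₂, t, ?_, ?_⟩
  swap
  · rw [← finrank_eq h, Module.finrank_fintype_fun_eq_card]
  obtain ⟨a00, a01, a02, a10, a11, a12, a20, a21, a22⟩ := gm_entries hω x
  obtain ⟨k00, k01, k02, k10, k11, k12, k20, k21, k22⟩ := dg_entries d₀ d₁ d₂
  refine ⟨hω, h3, ht, htt, ht0, ht2, ht1, h00, h11, h22, h21, h02, h10, ?_, ?_, ?_, ?_⟩
  · rw [hk, hg] at r6'
    exact r6'
  · -- irreducibility
    intro U hx h0 h1 h2
    have hU : ∀ y ∈ P, ∀ v ∈ up h U, Λ (y : MI) v ∈ up h U := by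
      let Y : Subgroup (GL ι F) :=
        { carrier := {y | (∀ v ∈ up h U, Λ (y : MI) v ∈ up h U) ∧ ∀ v ∈ up h U, Λ ((y⁻¹ : GL ι F) : MI) v ∈ up h U}
          mul_mem' := fun {y z} hy hz => by
            refine ⟨fun v hv => ?_, fun v hv => ?_⟩
            · rw [Units.val_mul, map_mul]
              exact hy.1 _ (hz.1 _ hv)
            · rw [_root_.mul_inv_rev, Units.val_mul, map_mul]
              exact hz.2 _ (hy.2 _ hv)
          one_mem' := by
            refine ⟨fun v hv => ?_, fun v hv => ?_⟩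
            · rw [Units.val_one, map_one]; exact hv
            · rw [inv_one, Units.val_one, map_one]; exact hv
          inv_mem' := fun {y} hy => by
            refine ⟨hy.2, ?_⟩
            rw [inv_inv]; exact hy.1 }
      have hY : ∀ y : GL ι F, y ∈ Y ↔ (∀ v ∈ up h U, Λ (y : MI) v ∈ up h U) ∧
        ∀ v ∈ up h U, Λ ((y⁻¹ : GL ι F) : MI) v ∈ up h U := fun _ => Iff.rfl
      have mk : ∀ (y : GL ι F) (n : ℕ), y ^ (n + 1) = 1 → (∀ v ∈ up h U, Λ (y : MI) v ∈ up h U) → y ∈ Y := by
        intro y n hn hy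
        refine ⟨hy, ?_⟩
        rw [val_inv_eq hn, Units.val_pow_eq_pow_val, map_pow]
        clear hn
        induction n with
        | zero => intro v hv; exact hv
        | succ n ih =>
          intro v hv
          rw [pow_succ']
          exact hy _ (ih v hv)
      have hPY : P ≤ Y := by
        refine le_of_gens C gen7 ?_ ?_
        · intro s hs
          simp only [Set.mem_insert_iff, Set.mem_singleton_iff] at hs
          rcases hs with rfl | rfl | rfl | rfl
          · refine ⟨a, mk a 2 hrel.a3 fun v hv => up_invt h ?_ hv, La⟩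
            rw [hA]
            intro i j u hu
            rw [H915.A7Old.a3_apply]
            split_ifs
            · exact U.smul_mem _ hu
            · exact zero_mem U
          · refine ⟨b, mk b 2 hrel.b3 fun v hv => up_invt h ?_ hv, Lb⟩
            rw [hB]
            intro i j u hu
            rw [H915.A7Old.b3_apply]
            split_ifs
            · exact hu
            · exact zero_mem U
          · refine ⟨k, mk k 1 hrel.k2 fun v hv => up_invt h ?_ hv, Lk⟩
            rw [← hk', hk]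
            intro i j u hu
            rcases fin3 i with rfl | rfl | rfl <;> rcases fin3 j with rfl | rfl | rfl <;>
              simp only [k00, k01, k02, k10, k11, k12, k20, k21, k22]
            all_goals first
              | exact zero_mem U
              | exact h0 u hu
              | exact h1 u hu
              | exact h2 u hu
          · refine ⟨g, mk g 3 hrel.g4 fun v hv => up_invt h ?_ hv, Lg⟩
            rw [← hg', hg]
            intro i j u hu
            exact U.smul_mem _ (hx u hu)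
        · intro c _
          refine (hY _).2 ⟨fun v hv => ?_, fun v hv => ?_⟩
          · rw [coe_sc, map_smul, map_one]
            exact (up h U).smul_mem _ hv
          · rw [← sc_inv, coe_sc, map_smul, map_one]
            exact (up h U).smul_mem _ hv
      intro y hy
      exact (hPY hy).1
    have h4 := hC.absIrred.1 (up h U) (by
      rintro _ ⟨y, hy, rfl⟩
      rintro _ ⟨v, hv, rfl⟩
      exact hU y hy v hv)
    rcases h4 with h4 | h4
    · exact Or.inl (up_eq_bot h h4)
    · exact Or.inr (up_eq_top h h4)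
  · -- commutant
    intro Z hx h0 h1 h2
    let Zh : Module.End F (ι → F) := ∑ i, (em (Λ (b : MI)) (Λ (a : MI)) i) ∘ₗ Z ∘ₗ (pj h i)
    have hZh : rho h Zh = dg Z Z Z := by
      ext i j w : 3
      rw [rho_apply]
      simp only [Zh, LinearMap.sum_apply, map_sum, LinearMap.comp_apply, pj_em]
      rw [Finset.sum_eq_single i]
      · rw [if_pos rfl]
        simp only [dg, Matrix.of_apply]
        by_cases hij : i = j
        · rw [if_pos hij, if_pos hij]
          split_ifs <;> rfl
        · rw [if_neg hij, if_neg hij, map_zero]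
          rfl
      · intro l _ hl
        rw [if_neg (Ne.symm hl)]
      · intro hi
        exact absurd (Finset.mem_univ i) hi
    obtain ⟨X, hX⟩ : ∃ X : MI, Λ X = Zh := (Λ).surjective Zh
    obtain ⟨X00, X01, X02, X10, X11, X12, X20, X21, X22⟩ := dg_entries Z Z Z
    have key : ∀ y : GL ι F, dg Z Z Z * rho h (Λ (y : MI)) = rho h (Λ (y : MI)) * dg Z Z Z → X * (y : MI) = (y : MI) * X := by
      intro y hy
      apply (Λ).injective
      apply rho_injective h
      rw [map_mul, map_mul, rho_mul, rho_mul, hX, hZh]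
      exact hy
    let Y : Subgroup (GL ι F) :=
      { carrier := {x | X * (x : MI) = (x : MI) * X}
        mul_mem' := fun {x y} hx hy => by
          change X * ((x * y : GL ι F) : MI) = ((x * y : GL ι F) : MI) * X
          rw [Units.val_mul, ← mul_assoc, show X * (x : MI) = (x : MI) * X from hx, mul_assoc,
            show X * (y : MI) = (y : MI) * X from hy, mul_assoc]
        one_mem' := by
          change X * ((1 : GL ι F) : MI) = ((1 : GL ι F) : MI) * X
          rw [Units.val_one, mul_one, one_mul]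
        inv_mem' := fun {x} hx => by
          change X * ((x⁻¹ : GL ι F) : MI) = ((x⁻¹ : GL ι F) : MI) * X
          have h1 : ((x⁻¹ : GL ι F) : MI) * (X * (x : MI)) * ((x⁻¹ : GL ι F) : MI) =
            ((x⁻¹ : GL ι F) : MI) * ((x : MI) * X) * ((x⁻¹ : GL ι F) : MI) := by
              rw [show X * (x : MI) = (x : MI) * X from hx]
          have h2 : (x : MI) * ((x⁻¹ : GL ι F) : MI) = 1 := by rw [← Units.val_mul, mul_inv_cancel, Units.val_one]
          have h4 : ((x⁻¹ : GL ι F) : MI) * (x : MI) = 1 := by rw [← Units.val_mul, inv_mul_cancel, Units.val_one]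
          rw [mul_assoc, mul_assoc, h2, mul_one, ← mul_assoc (((x⁻¹ : GL ι F) : MI)) (x : MI), h4, one_mul] at h1
          exact h1.symm }
    have hPY : P ≤ Y := by
      refine le_of_gens C gen7 ?_ ?_
      · intro s hs
        simp only [Set.mem_insert_iff, Set.mem_singleton_iff] at hs
        rcases hs with rfl | rfl | rfl | rfl
        · refine ⟨a, key a ?_, La⟩
          rw [hA]
          apply Matrix.ext
          intro i j
          rw [H915.A7Old.mul_a3, H915.A7Old.a3_mul]
          simp only [dg, Matrix.of_apply]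
          by_cases hij : i = j
          · rw [if_pos hij, hij]
          · rw [if_neg hij, smul_zero, smul_zero]
        · refine ⟨b, key b ?_, Lb⟩
          rw [hB]
          apply Matrix.ext
          intro i j
          rw [H915.A7Old.mul_b3]
          rcases fin3 i with rfl | rfl | rfl
          · rw [show (0 : Fin 3) = 2 + 1 from rfl, H915.A7Old.b3_mul]
            rcases fin3 j with rfl | rfl | rfl <;> rfl
          · rw [show (1 : Fin 3) = 0 + 1 from rfl, H915.A7Old.b3_mul]
            rcases fin3 j with rfl | rfl | rfl <;> rfl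
          · rw [show (2 : Fin 3) = 1 + 1 from rfl, H915.A7Old.b3_mul]
            rcases fin3 j with rfl | rfl | rfl <;> rfl
        · refine ⟨k, key k ?_, Lk⟩
          rw [← hk', hk]
          apply ext3 <;> simp only [Matrix.mul_apply, Fin.sum_univ_three, k00, k01, k02, k10, k11, k12, k20, k21, k22, X00, X01, X02, X10, X11, X12, X20,
            X21, X22, h0, h1, h2, mul_zero, zero_mul, add_zero, zero_add]
        · refine ⟨g, key g ?_, Lg⟩
          rw [← hg', hg]
          apply ext3 <;> simp only [Matrix.mul_apply, Fin.sum_univ_three, a00, a01, a02, a10, a11, a12, a20, a21, a22, X00, X01, X02, X10, X11, X12, X20,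
            X21, X22, hx, mul_zero, zero_mul, add_zero, zero_add, mul_smul_comm, smul_mul_assoc, smul_zero]
      · intro c _
        change X * ((sc c : GL ι F) : MI) = ((sc c : GL ι F) : MI) * X
        rw [coe_sc, mul_smul_comm, smul_mul_assoc, mul_one, one_mul]
    obtain ⟨c, hc⟩ := hC.absIrred.2 X (by
      rintro _ ⟨x, hx, rfl⟩
      exact hPY hx)
    refine ⟨c, ?_⟩
    have h5 : dg Z Z Z = (c • 1 : Matrix (Fin 3) (Fin 3) (Module.End F (Blk.W (Λ (a : MI))))) := by
      rw [← hZh, ← hX, hc, map_smul, map_one, rho_smul, rho_one]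
    have h6 := congrFun (congrFun h5 0) 0
    rw [X00, Matrix.smul_apply, Matrix.one_apply_eq] at h6
    exact h6
  · -- traces
    obtain ⟨γ, hγ⟩ := g4_kk
    obtain ⟨y, hy⟩ := C.exists_lift γ
    have h1 := two_conj hZ Lk (Lg.pow 2) hrel.k2 (by rw [← pow_mul]; exact hrel.g4) hy hγ
    have h2 : tr (g ^ 2) = tr k := by
      rw [← h1]
      unfold tr
      rw [Units.val_mul, Units.val_mul, Matrix.trace_mul_cycle, ← Units.val_mul, inv_mul_cancel, Units.val_one, one_mul]
    have htrΛ : ∀ X : MI, LinearMap.trace F (ι → F) (Λ X) = X.trace := fun X => by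
      exact Matrix.trace_toLin'_eq X
    have h3' := (htrΛ ((g : MI) * g)).symm.trans (trace_eq h (Λ ((g : MI) * g)))
    have h4 := (htrΛ (k : MI)).symm.trans (trace_eq h (Λ (k : MI)))
    rw [← hk', hk, Fin.sum_univ_three, k00, k11, k22] at h4
    rw [hmul, ← hg', hgg, Fin.sum_univ_three] at h3'
    obtain ⟨r00, r01, r02, r10, r11, r12, r20, r21, r22⟩ := rm_entries t
    rw [r00, r11, r22, map_zero, add_zero, add_zero] at h3'
    rw [← h3', ← h4]
    have h5 : tr (g ^ 2) = ((g : MI) * g).trace := by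
      unfold tr
      rw [sq, Units.val_mul]
    rw [← h5, h2]
    rfl

end ex

end Cfsg.Agent.H637.Three
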