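import Cfsg.Agent.H637.SemiSylow
import Cfsg.Agent.H637.TwoAdic
import Cfsg.Agent.LieClassical.OmegaReindex
import Cfsg.Agent.S0261

/-!
# Sylow `2`-subgroups of `GL_n(q)`, `q` odd: the kernel of the determinant
-/

set_option autoImplicit false

namespace Cfsg.Agent.H637

open Matrix Subgroup
open scoped commutatorElement

/-! ### Homomorphisms from symmetric groups to commutative groups -/

section Perm

variable {α : Type*} [Fintype α] [DecidableEq α] {A : Type*} [CommGroup A]

theorem hom_perm_eq_one (φ : Equiv.Perm α →* A) (σ : Equiv.Perm α) (hσ : Equiv.Perm.sign σ = 1) :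
    φ σ = 1 := by
  have h1 : σ ∈ alternatingGroup α := Equiv.Perm.mem_alternatingGroup.2 hσ
  rw [← Equiv.Perm.closure_three_cycles_eq_alternating] at h1
  have h2 : closure {σ : Equiv.Perm α | σ.IsThreeCycle} ≤ φ.ker := by
    rw [closure_le]
    intro τ hτ
    change φ τ = 1
    have h3 : orderOf τ = 3 := Equiv.Perm.IsThreeCycle.orderOf hτ
    -- `τ` is conjugate to its inverse
    have h4 : IsConj τ τ⁻¹ := by
      rw [Equiv.Perm.isConj_iff_cycleType_eq, Equiv.Perm.cycleType_inv]
    obtain ⟨g, hg⟩ := isConj_iff.1 h4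
    have h5 : φ τ = (φ τ)⁻¹ := by
      rw [← map_inv, ← hg, map_mul, map_mul, map_inv, mul_comm (φ g), mul_inv_cancel_right]
    have h6 : φ τ ^ 3 = 1 := by rw [← map_pow, ← h3, pow_orderOf_eq_one, map_one]
    have h7 : φ τ * φ τ = 1 :=
      calc φ τ * φ τ = φ τ * (φ τ)⁻¹ := congrArg (fun x => φ τ * x) h5
        _ = 1 := mul_inv_cancel _
    calc φ τ = φ τ ^ 3 * (φ τ * φ τ)⁻¹ := by group
      _ = 1 := by rw [h6, h7, inv_one, one_mul]
  exact h2 h1

/-- The sign of the exchange of the two copies of a type with an even number of elements. -/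
theorem sign_sumComm (h : Even (Fintype.card α)) :
    Equiv.Perm.sign (Equiv.sumComm α α : Equiv.Perm (α ⊕ α)) = 1 := by
  let e : α ⊕ α ≃ α × Bool := (Equiv.boolProdEquivSum α).symm.trans (Equiv.prodComm _ _)
  have h1 : (e.symm.trans (Equiv.sumComm α α)).trans e =
      Equiv.prodCongrRight (fun _ : α => (Equiv.swap true false : Equiv.Perm Bool)) := by
    ext ⟨a, b⟩ <;> cases b <;> simp [e]
  have h2 := Equiv.Perm.sign_symm_trans_trans (Equiv.sumComm α α : Equiv.Perm (α ⊕ α)) e
  rw [← h2, h1, Equiv.Perm.sign_prodCongrRight]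
  have h3 : Equiv.Perm.sign (Equiv.swap true false : Equiv.Perm Bool) = -1 :=
    Equiv.Perm.sign_swap (by decide)
  rw [Finset.prod_congr rfl (fun _ _ => h3), Finset.prod_const, Finset.card_univ]
  exact h.neg_one_pow

end Perm

/-! ### The groups `GL` -/

section GLBlocks

variable {ι κ : Type} [Fintype ι] [DecidableEq ι] [Fintype κ] [DecidableEq κ] {F : Type*} [Field F]

/-- Block diagonal matrices, as a homomorphism. -/
def blkMat (ι κ : Type) [Fintype ι] [DecidableEq ι] [Fintype κ] [DecidableEq κ] (F : Type*)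
    [Field F] : Matrix ι ι F × Matrix κ κ F →* Matrix (ι ⊕ κ) (ι ⊕ κ) F where
  toFun p := Matrix.fromBlocks p.1 0 0 p.2
  map_one' := Matrix.fromBlocks_one
  map_mul' p q := by
    rw [Matrix.fromBlocks_multiply]
    simp

/-- Block diagonal invertible matrices. -/
def blk (ι κ : Type) [Fintype ι] [DecidableEq ι] [Fintype κ] [DecidableEq κ] (F : Type*)
    [Field F] : GL ι F × GL κ F →* GL (ι ⊕ κ) F :=
  (Units.map (blkMat ι κ F)).comp MulEquiv.prodUnits.symm.toMonoidHom

theorem coe_blk (p : GL ι F × GL κ F) :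
    (blk ι κ F p : Matrix (ι ⊕ κ) (ι ⊕ κ) F) =
      Matrix.fromBlocks (p.1 : Matrix ι ι F) 0 0 (p.2 : Matrix κ κ F) := rfl

theorem blk_injective : Function.Injective (blk ι κ F) := by
  intro p q h
  have h1 := congrArg (fun x : GL (ι ⊕ κ) F => (x : Matrix (ι ⊕ κ) (ι ⊕ κ) F)) h
  simp only [coe_blk] at h1
  have h2 := Matrix.fromBlocks_inj.1 h1
  exact Prod.ext (Units.ext h2.1) (Units.ext h2.2.2.2)

theorem det_blk (p : GL ι F × GL κ F) :
    Matrix.GeneralLinearGroup.det (blk ι κ F p) =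
      Matrix.GeneralLinearGroup.det p.1 * Matrix.GeneralLinearGroup.det p.2 := by
  apply Units.ext
  change ((blk ι κ F p : Matrix (ι ⊕ κ) (ι ⊕ κ) F)).det = (p.1 : Matrix ι ι F).det * (p.2 : Matrix κ κ F).det
  rw [coe_blk, Matrix.det_fromBlocks_zero₂₁]

/-- Permutation matrices. -/
def permGL (ι : Type) [Fintype ι] [DecidableEq ι] (F : Type*) [Field F] :
    Equiv.Perm ι →* GL ι F :=
  (Matrix.permMatrixHom (n := ι) (R := F)).toHomUnits

theorem coe_permGL (σ : Equiv.Perm ι) :
    (permGL ι F σ : Matrix ι ι F) = (σ⁻¹).permMatrix F := rfl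

theorem permGL_mulVec (σ : Equiv.Perm ι) (v : ι → F) :
    (permGL ι F σ : Matrix ι ι F) *ᵥ v = v ∘ σ.symm := by
  rw [coe_permGL, Matrix.permMatrix_mulVec]
  rfl

theorem det_permGL (σ : Equiv.Perm ι) :
    Matrix.GeneralLinearGroup.det (permGL ι F σ) =
      Units.map (Int.castRingHom F).toMonoidHom (Equiv.Perm.sign σ) := by
  apply Units.ext
  change (permGL ι F σ : Matrix ι ι F).det = ((Equiv.Perm.sign σ : ℤ) : F)
  rw [coe_permGL, Matrix.det_permutation, Equiv.Perm.sign_inv]

/-- The exchange of the two blocks. -/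
def exch (ι : Type) [Fintype ι] [DecidableEq ι] (F : Type*) [Field F] : GL (ι ⊕ ι) F :=
  permGL (ι ⊕ ι) F (Equiv.sumComm ι ι)

theorem exch_sq : exch ι F ^ 2 = 1 := by
  rw [exch, ← map_pow]
  have : (Equiv.sumComm ι ι : Equiv.Perm (ι ⊕ ι)) ^ 2 = 1 := by
    ext x
    rw [pow_two]
    cases x <;> rfl
  rw [this, map_one]

theorem exch_mulVec (v : ι ⊕ ι → F) :
    (exch ι F : Matrix (ι ⊕ ι) (ι ⊕ ι) F) *ᵥ v = v ∘ Sum.swap := by
  rw [exch, permGL_mulVec]
  rfl

theorem coe_exch : (exch ι F : Matrix (ι ⊕ ι) (ι ⊕ ι) F) = Matrix.fromBlocks 0 1 1 0 := by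
  rw [← Matrix.mulVec_injective.eq_iff]
  funext v
  rw [exch_mulVec, Matrix.fromBlocks_mulVec]
  funext x
  rcases x with x | x <;> simp [Function.comp]

theorem exch_conj (a b : GL ι F) :
    exch ι F * blk ι ι F (a, b) * (exch ι F)⁻¹ = blk ι ι F (b, a) := by
  have hinv : (exch ι F)⁻¹ = exch ι F := by
    rw [inv_eq_iff_mul_eq_one, ← pow_two, exch_sq]
  rw [hinv]
  apply Units.ext
  rw [Units.val_mul, Units.val_mul, coe_exch, coe_blk, coe_blk, Matrix.fromBlocks_multiply,
    Matrix.fromBlocks_multiply]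
  simp

theorem det_exch (h : Even (Fintype.card ι)) :
    Matrix.GeneralLinearGroup.det (exch ι F) = 1 := by
  rw [exch, det_permGL, sign_sumComm h, map_one]

theorem blk_ne_exch [Nonempty ι] (p : GL ι F × GL ι F) : blk ι ι F p ≠ exch ι F := by
  intro h
  have h1 := congrArg (fun x : GL (ι ⊕ ι) F => (x : Matrix (ι ⊕ ι) (ι ⊕ ι) F)) h
  simp only [coe_blk, coe_exch] at h1
  have h2 := (Matrix.fromBlocks_inj.1 h1).2.1
  obtain ⟨i⟩ := (inferInstance : Nonempty ι)
  have h3 := congrFun (congrFun h2 i) i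
  simp at h3

end GLBlocks

/-! ### The order of `GL` -/

section Card

variable {F : Type*} [Field F] [Fintype F]

theorem card_GL_succ (n : ℕ) :
    Nat.card (GL (Fin (n + 1)) F) =
      (Fintype.card F ^ (n + 1) - 1) * Fintype.card F ^ n * Nat.card (GL (Fin n) F) := by
  have h1 : 0 < Fintype.card F := Fintype.card_pos
  rw [Matrix.card_GL_field, Matrix.card_GL_field, Fin.prod_univ_succ, Fin.val_zero, pow_zero,
    mul_assoc]
  congr 1
  have h2 : ∀ i : Fin n, Fintype.card F ^ (n + 1) - Fintype.card F ^ (i.succ : ℕ) =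
      Fintype.card F * (Fintype.card F ^ n - Fintype.card F ^ (i : ℕ)) := by
    intro i
    rw [Fin.val_succ, Nat.mul_sub, pow_succ, pow_succ, mul_comm (Fintype.card F ^ n),
      mul_comm (Fintype.card F ^ (i : ℕ))]
  rw [Finset.prod_congr rfl (fun i _ => h2 i), Finset.prod_mul_distrib, Finset.prod_const,
    Finset.card_univ, Fintype.card_fin]

/-- The exponent of `2` in the order of `GL_n(F)`. -/
noncomputable def gv (F : Type*) [Field F] [Fintype F] (n : ℕ) : ℕ :=
  padicValNat 2 (Nat.card (GL (Fin n) F))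

theorem gv_zero : gv F 0 = 0 := by
  have : Nat.card (GL (Fin 0) F) = 1 := by
    rw [Matrix.card_GL_field]
    simp
  rw [gv, this]
  simp

theorem gv_succ (hF : Odd (Fintype.card F)) (n : ℕ) :
    gv F (n + 1) = gv F n + padicValNat 2 (Fintype.card F ^ (n + 1) - 1) := by
  have h1 : 1 < Fintype.card F := Fintype.one_lt_card
  have h2 : Fintype.card F ^ (n + 1) - 1 ≠ 0 := by
    have := Nat.one_lt_pow (Nat.succ_ne_zero n) h1
    rw [Nat.succ_eq_add_one] at this
    omega
  have h3 : Nat.card (GL (Fin n) F) ≠ 0 := Nat.card_pos.ne'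
  rw [gv, gv, card_GL_succ, padicValNat.mul (mul_ne_zero h2 (pow_ne_zero _ (by omega))) h3,
    padicValNat.mul h2 (pow_ne_zero _ (by omega)),
    padicValNat.eq_zero_of_not_dvd (n := Fintype.card F ^ n) (hF.pow).not_two_dvd_nat]
  omega

theorem gv_two_mul (hF : Odd (Fintype.card F)) (n : ℕ) :
    gv F (2 * n) = n * (padicValNat 2 (Fintype.card F - 1) +
      padicValNat 2 (Fintype.card F ^ 2 - 1)) + padicValNat 2 n.factorial := by
  have h1 : 1 < Fintype.card F := Fintype.one_lt_card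
  induction n with
  | zero => simp [gv_zero]
  | succ n ih =>
    have e : 2 * (n + 1) = 2 * n + 1 + 1 := by ring
    have h3 := val_pow_even (Fintype.card F) hF h1 (n + 1) (Nat.succ_ne_zero n)
    rw [e] at h3
    rw [e, gv_succ hF, gv_succ hF, ih, val_pow_odd _ hF h1, h3, Nat.factorial_succ,
      padicValNat.mul (Nat.succ_ne_zero n) (Nat.factorial_ne_zero n)]
    ring

theorem gv_two_mul_add_one (hF : Odd (Fintype.card F)) (n : ℕ) :
    gv F (2 * n + 1) = gv F (2 * n) + padicValNat 2 (Fintype.card F - 1) := by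
  rw [gv_succ hF, val_pow_odd _ hF Fintype.one_lt_card]

theorem gv_one (hF : Odd (Fintype.card F)) : gv F 1 = padicValNat 2 (Fintype.card F - 1) := by
  have := gv_two_mul_add_one hF 0
  rw [mul_zero, gv_zero] at this
  simpa using this

theorem gv_split (hF : Odd (Fintype.card F)) (a n : ℕ) (hn : n < 2 ^ a) :
    gv F (2 * (2 ^ a + n)) = gv F (2 * 2 ^ a) + gv F (2 * n) := by
  rw [gv_two_mul hF, gv_two_mul hF, gv_two_mul hF, val_factorial_add a n hn]
  ring

theorem gv_double (hF : Odd (Fintype.card F)) (a : ℕ) :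
    gv F (2 * (2 * 2 ^ a)) = 2 * gv F (2 * 2 ^ a) + 1 := by
  rw [gv_two_mul hF, gv_two_mul hF, val_factorial_double a]
  ring

theorem factorization_card_GL {ι : Type} [Fintype ι] [DecidableEq ι] :
    (Nat.card (GL ι F)).factorization 2 = gv F (Fintype.card ι) := by
  have h1 : Nat.card (GL ι F) = Nat.card (GL (Fin (Fintype.card ι)) F) :=
    Nat.card_congr (LieClassical.OmegaReindex.glReindex F (Fintype.equivFin ι)).toEquiv
  rw [h1, gv, Nat.factorization_def _ Nat.prime_two]

end Card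

end Cfsg.Agent.H637
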