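import Cfsg.Agent.H637.OrthBasic
import Cfsg.Agent.S0286
import Cfsg.Agent.S0287
import Cfsg.Agent.S0288

/-!
# The `2`-part of the orders of orthogonal groups over fields of odd order

`ov q m = m v₂(q² - 1) + v₂(m!)`.

* `val_plus`, `val_minus`, `val_odd`: the exponent of `2` in the orders for the standard forms;
* `iso_of_disc`: forms with the same discriminant have isomorphic isometry groups;
* `val_even_square`, `val_even_nonsquare`: the exponent of `2` for all forms of even dimension.
-/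

set_option autoImplicit false

namespace Cfsg.Agent.H637

open Matrix Subgroup QuadraticMap
open Cfsg.Agent.LieClassical.OmegaReindex

/-- `m v₂(q² - 1) + v₂(m!)`. -/
def ov (q m : ℕ) : ℕ := m * padicValNat 2 (q ^ 2 - 1) + padicValNat 2 m.factorial

theorem ov_succ (q m : ℕ) :
    ov q (m + 1) = ov q m + padicValNat 2 (q ^ 2 - 1) + padicValNat 2 (m + 1) := by
  rw [ov, ov, Nat.factorial_succ, padicValNat.mul (Nat.succ_ne_zero m) (Nat.factorial_ne_zero m)]
  ring

theorem ov_split (q a n : ℕ) (hn : n < 2 ^ a) : ov q (2 ^ a + n) = ov q (2 ^ a) + ov q n := by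
  rw [ov, ov, ov, val_factorial_add a n hn]
  ring

theorem ov_double (q a : ℕ) : ov q (2 * 2 ^ a) = 2 * ov q (2 ^ a) + 1 := by
  rw [ov, ov, val_factorial_double a]
  ring

theorem ov_zero (q : ℕ) : ov q 0 = 0 := by simp [ov]

theorem val_prod (q : ℕ) (hq : Odd q) (hq1 : 1 < q) (m : ℕ) :
    padicValNat 2 (∏ i ∈ Finset.range m, (q ^ (2 * (i + 1)) - 1)) = ov q m ∧
      (∏ i ∈ Finset.range m, (q ^ (2 * (i + 1)) - 1)) ≠ 0 := by
  induction m with
  | zero => simp [ov_zero]
  | succ m ih =>
    have h1 : q ^ (2 * (m + 1)) - 1 ≠ 0 := by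
      have := Nat.one_lt_pow (n := 2 * (m + 1)) (by omega) hq1
      omega
    rw [Finset.prod_range_succ]
    refine ⟨?_, mul_ne_zero ih.2 h1⟩
    rw [padicValNat.mul ih.2 h1, ih.1, val_pow_even q hq hq1 (m + 1) (Nat.succ_ne_zero m), ov_succ]
    ring

/-- `v₂` of `2 q^k x y` for odd `q`. -/
theorem val_mul4 (q k x y : ℕ) (hq : Odd q) (hx : x ≠ 0) (hy : y ≠ 0) :
    padicValNat 2 (2 * q ^ k * x * y) = 1 + padicValNat 2 x + padicValNat 2 y := by
  have hq0 : q ≠ 0 := hq.pos.ne'
  have hqk : q ^ k ≠ 0 := pow_ne_zero _ hq0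
  rw [padicValNat.mul (mul_ne_zero (mul_ne_zero two_ne_zero hqk) hx) hy,
    padicValNat.mul (mul_ne_zero two_ne_zero hqk) hx, padicValNat.mul two_ne_zero hqk,
    padicValNat.eq_zero_of_not_dvd (n := q ^ k) (hq.pow).not_two_dvd_nat]
  have : padicValNat 2 2 = 1 := padicValNat_self
  omega

theorem val_sq_sub_one (q : ℕ) (hq : Odd q) (hq1 : 1 < q) :
    padicValNat 2 (q ^ 2 - 1) = padicValNat 2 (q - 1) + padicValNat 2 (q + 1) := by
  have h1 : q ^ 2 - 1 = (q - 1) * (q + 1) := by
    have := Nat.sq_sub_sq q 1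
    rw [one_pow] at this
    rw [this]; ring
  rw [h1, padicValNat.mul (by omega) (by omega)]

theorem val_eq_one (x : ℕ) (h : x % 4 = 2) : padicValNat 2 x = 1 := by
  obtain ⟨k, hk⟩ : ∃ k, x = 2 * (2 * k + 1) := ⟨x / 4, by omega⟩
  rw [hk, padicValNat.mul two_ne_zero (by omega), padicValNat_self,
    padicValNat.eq_zero_of_not_dvd (n := 2 * k + 1) (by omega)]

theorem val_plus_aux (q : ℕ) (hq : Odd q) (hq1 : 1 < q) (m : ℕ) :
    1 + padicValNat 2 (q ^ (m + 1) - 1) + ov q m =
      if q % 4 = 1 ∨ Even (m + 1) then ov q (m + 1) else ov q m + 2 := by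
  have hs := val_sq_sub_one q hq hq1
  rcases Nat.even_or_odd (m + 1) with he | ho
  · rw [if_pos (Or.inr he)]
    obtain ⟨j, hj⟩ := he
    have hj' : m + 1 = 2 * j := by omega
    have hj0 : j ≠ 0 := by omega
    rw [ov_succ, hj', val_pow_even q hq hq1 j hj0, padicValNat.mul two_ne_zero hj0,
      padicValNat_self]
    ring
  · obtain ⟨j, hj⟩ := ho
    have h1 : padicValNat 2 (q ^ (m + 1) - 1) = padicValNat 2 (q - 1) := by
      rw [hj]; exact val_pow_odd q hq hq1 j
    have h2 : padicValNat 2 (m + 1) = 0 := padicValNat.eq_zero_of_not_dvd (by omega)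
    by_cases h4 : q % 4 = 1
    · rw [if_pos (Or.inl h4), h1, ov_succ, h2, hs, val_eq_one (q + 1) (by omega)]
      ring
    · have h5 : q % 4 = 3 := by
        obtain ⟨k, hk⟩ := hq
        omega
      rw [if_neg, h1, val_eq_one (q - 1) (by omega)]
      · ring
      · rintro (h | h)
        · exact h4 h
        · exact (Nat.not_even_iff_odd.2 ⟨j, hj⟩) h

theorem pow_mod_four (q : ℕ) (m : ℕ) (h : q % 4 = 1 ∨ Even m) (hq : Odd q) : q ^ m % 4 = 1 := by
  rcases h with h | ⟨j, hj⟩
  · rw [Nat.pow_mod, h, one_pow]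
    rfl
  · have h1 : q * q % 4 = 1 := by
      obtain ⟨k, hk⟩ := hq
      have h2 : q * q = 4 * (k * k + k) + 1 := by rw [hk]; ring
      omega
    rw [hj, ← two_mul, pow_mul, pow_two, Nat.pow_mod, h1, one_pow]
    rfl

theorem val_minus_aux (q : ℕ) (hq : Odd q) (hq1 : 1 < q) (m : ℕ) :
    1 + padicValNat 2 (q ^ (m + 1) + 1) + ov q m =
      if q % 4 = 1 ∨ Even (m + 1) then ov q m + 2 else ov q (m + 1) := by
  by_cases h : q % 4 = 1 ∨ Even (m + 1)
  · have h1 := pow_mod_four q (m + 1) h hq
    rw [if_pos h, val_eq_one (q ^ (m + 1) + 1) (by omega)]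
    ring
  · rw [if_neg h]
    rw [not_or] at h
    have ho : Odd (m + 1) := Nat.not_even_iff_odd.1 h.2
    obtain ⟨j, hj⟩ := ho
    have h0 : q ^ (m + 1) - 1 ≠ 0 := by
      have := Nat.one_lt_pow (n := m + 1) (by omega) hq1
      omega
    have h1 : padicValNat 2 (q ^ (m + 1) - 1) = padicValNat 2 (q - 1) := by
      rw [hj]; exact val_pow_odd q hq hq1 j
    have h2 : padicValNat 2 (m + 1) = 0 := padicValNat.eq_zero_of_not_dvd (by omega)
    have h3 := val_pow_even q hq hq1 (m + 1) (Nat.succ_ne_zero m)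
    have h4 : q ^ (2 * (m + 1)) - 1 = (q ^ (m + 1) + 1) * (q ^ (m + 1) - 1) := by
      rw [mul_comm 2 (m + 1), pow_mul]
      exact Nat.sq_sub_sq _ 1
    rw [h4, padicValNat.mul (by omega) h0, h1, h2] at h3
    have hs := val_sq_sub_one q hq hq1
    have h5 : q % 4 = 3 := by
      have := h.1
      obtain ⟨k, hk⟩ := hq
      omega
    have h6 := val_eq_one (q - 1) (by omega)
    rw [ov_succ, h2]
    omega

section Forms

variable {F : Type*} [Field F] [Fintype F]

theorem two_ne_zero_of_odd (hF : Odd (Fintype.card F)) : (2 : F) ≠ 0 := by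
  intro h
  have h' : (ringChar F) = 2 := by
    have hd : ringChar F ∣ 2 := (ringChar.spec F 2).1 (by exact_mod_cast h)
    rcases (Nat.dvd_prime Nat.prime_two).1 hd with h1 | h1
    · exact absurd h1 (CharP.ringChar_ne_one)
    · exact h1
  have heven := FiniteField.even_card_of_char_two h'
  rw [Nat.odd_iff] at hF
  omega

theorem val_plus (hF : Odd (Fintype.card F)) (m : ℕ) :
    padicValNat 2 (Nat.card (Cfsg.isometryGroup F (⇑(quadPlus (m + 1) F)))) =
      if Fintype.card F % 4 = 1 ∨ Even (m + 1) then ov (Fintype.card F) (m + 1)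
      else ov (Fintype.card F) m + 2 := by
  have h1 : 1 < Fintype.card F := Fintype.one_lt_card
  have hx : Fintype.card F ^ (m + 1) - 1 ≠ 0 := by
    have := Nat.one_lt_pow (n := m + 1) (by omega) h1
    omega
  rw [coe_quadPlus, S0287.result rfl (m + 1) (by omega), Nat.add_sub_cancel,
    val_mul4 _ _ _ _ hF hx (val_prod _ hF h1 m).2, (val_prod _ hF h1 m).1]
  exact val_plus_aux _ hF h1 m

theorem val_minus (hF : Odd (Fintype.card F)) (m : ℕ) (a b : F)
    (hab : ∀ z₁ z₂ : F, z₁ ^ 2 + a * z₁ * z₂ + b * z₂ ^ 2 = 0 → z₁ = 0 ∧ z₂ = 0) :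
    padicValNat 2 (Nat.card (Cfsg.isometryGroup F (⇑(quadMinus m F a b)))) =
      if Fintype.card F % 4 = 1 ∨ Even (m + 1) then ov (Fintype.card F) m + 2
      else ov (Fintype.card F) (m + 1) := by
  have h1 : 1 < Fintype.card F := Fintype.one_lt_card
  have h2 := S0288.result (F := F) rfl (m + 1) (by omega) a b hab
  rw [Nat.add_sub_cancel] at h2
  rw [coe_quadMinus, h2, val_mul4 _ _ _ _ hF (by omega) (val_prod _ hF h1 m).2,
    (val_prod _ hF h1 m).1]
  exact val_minus_aux _ hF h1 m

theorem val_odd (hF : Odd (Fintype.card F)) (m : ℕ) :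
    padicValNat 2 (Nat.card (Cfsg.isometryGroup F (⇑(quadOdd m F)))) =
      ov (Fintype.card F) m + 1 := by
  have h1 : 1 < Fintype.card F := Fintype.one_lt_card
  have h3 : 2 * Fintype.card F ^ (m ^ 2) * ∏ i ∈ Finset.range m, (Fintype.card F ^ (2 * (i + 1)) - 1)
      = 2 * Fintype.card F ^ (m ^ 2) * 1 *
        ∏ i ∈ Finset.range m, (Fintype.card F ^ (2 * (i + 1)) - 1) := by ring
  rw [coe_quadOdd, S0286.result rfl hF m, h3, val_mul4 _ _ _ _ hF one_ne_zero (val_prod _ hF h1 m).2,
    (val_prod _ hF h1 m).1]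
  simp
  ring

/-- The Gram determinant of the polar form. -/
noncomputable def disc {ι : Type} [Fintype ι] [DecidableEq ι] (Q : QuadraticForm F (ι → F)) : F :=
  (LinearMap.BilinForm.toMatrix (Pi.basisFun F ι) (polarBilin Q)).det

omit [Fintype F] in
theorem disc_ne_zero' {ι : Type} [Fintype ι] [DecidableEq ι] (Q : QuadraticForm F (ι → F))
    (hQ : (polarBilin Q).Nondegenerate) : disc Q ≠ 0 :=
  (LinearMap.BilinForm.nondegenerate_iff_det_ne_zero (Pi.basisFun F ι)).1 hQ

omit [Fintype F] in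
theorem disc_plus (m : ℕ) : disc (quadPlus m F) = (-1) ^ m := by
  have h : LinearMap.BilinForm.toMatrix (Pi.basisFun F (Fin m ⊕ Fin m)) (polarBilin (quadPlus m F)) =
      Matrix.fromBlocks 0 1 1 0 := by
    ext (i | i) (j | j)
    · rw [LinearMap.BilinForm.toMatrix_apply, polarBilin_apply_apply, polar_quadPlus]
      simp
    · rw [LinearMap.BilinForm.toMatrix_apply, polarBilin_apply_apply, polar_quadPlus]
      simp only [Pi.basisFun_apply, Matrix.fromBlocks_apply₁₂, Matrix.one_apply, Pi.single_apply,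
        reduceCtorEq, if_false, zero_mul, mul_zero, add_zero, Sum.inl.injEq, Sum.inr.injEq,
        ite_mul, one_mul, Finset.sum_ite_eq', Finset.mem_univ, if_true]
    · rw [LinearMap.BilinForm.toMatrix_apply, polarBilin_apply_apply, polar_quadPlus]
      simp only [Pi.basisFun_apply, Matrix.fromBlocks_apply₂₁, Matrix.one_apply, Pi.single_apply,
        reduceCtorEq, if_false, zero_mul, mul_zero, zero_add, Sum.inl.injEq, Sum.inr.injEq,
        ite_mul, one_mul, Finset.sum_ite_eq', Finset.mem_univ, if_true]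
      by_cases hij : i = j
      · rw [if_pos hij, if_pos hij.symm]
      · rw [if_neg hij, if_neg (fun h => hij h.symm)]
    · rw [LinearMap.BilinForm.toMatrix_apply, polarBilin_apply_apply, polar_quadPlus]
      simp
  rw [disc, h, ClassicalGeometry.Discriminant.det_fromBlocks_zero_left]
  simp

omit [Fintype F] in
theorem disc_minus (m : ℕ) (a b : F) : disc (quadMinus m F a b) = (-1) ^ m * (4 * b - a ^ 2) := by
  have h : LinearMap.BilinForm.toMatrix (Pi.basisFun F ((Fin m ⊕ Fin m) ⊕ Fin 2))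
      (polarBilin (quadMinus m F a b)) =
      Matrix.fromBlocks (Matrix.fromBlocks 0 1 1 0) 0 0 !![2, a; a, 2 * b] := by
    ext ((i | i) | i) ((j | j) | j)
    · rw [LinearMap.BilinForm.toMatrix_apply, polarBilin_apply_apply, polar_quadMinus]
      simp
    · rw [LinearMap.BilinForm.toMatrix_apply, polarBilin_apply_apply, polar_quadMinus]
      simp [Pi.single_apply, Matrix.one_apply, eq_comm]
    · rw [LinearMap.BilinForm.toMatrix_apply, polarBilin_apply_apply, polar_quadMinus]
      simp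
    · rw [LinearMap.BilinForm.toMatrix_apply, polarBilin_apply_apply, polar_quadMinus]
      simp [Pi.single_apply, Matrix.one_apply, eq_comm]
    · rw [LinearMap.BilinForm.toMatrix_apply, polarBilin_apply_apply, polar_quadMinus]
      simp
    · rw [LinearMap.BilinForm.toMatrix_apply, polarBilin_apply_apply, polar_quadMinus]
      simp
    · rw [LinearMap.BilinForm.toMatrix_apply, polarBilin_apply_apply, polar_quadMinus]
      simp
    · rw [LinearMap.BilinForm.toMatrix_apply, polarBilin_apply_apply, polar_quadMinus]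
      simp
    · rw [LinearMap.BilinForm.toMatrix_apply, polarBilin_apply_apply, polar_quadMinus]
      fin_cases i <;> fin_cases j <;> simp
  rw [disc, h, Matrix.det_fromBlocks_zero₂₁, ClassicalGeometry.Discriminant.det_fromBlocks_zero_left,
    Matrix.det_fin_two_of]
  simp
  ring

omit [Fintype F] in
theorem disc_DQ {ι : Type} [Fintype ι] [DecidableEq ι] (c : ι → F) :
    disc (DQ c) = ∏ i, (2 * c i) := by
  have h : LinearMap.BilinForm.toMatrix (Pi.basisFun F ι) (polarBilin (DQ c)) =
      Matrix.diagonal (fun i => 2 * c i) := by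
    ext i j
    rw [LinearMap.BilinForm.toMatrix_apply, polarBilin_apply_apply, polar_DQ, Matrix.diagonal_apply,
      Finset.sum_eq_single i]
    · by_cases hij : i = j
      · subst hij
        simp
      · rw [if_neg hij]
        simp [Pi.single_apply, hij]
    · intro k _ hk
      simp [Pi.single_apply, hk]
    · intro h
      exact absurd (Finset.mem_univ i) h
  rw [disc, h, Matrix.det_diagonal]

/-- Forms with the same dimension and discriminant are equivalent. -/
theorem exists_equiv {ι κ : Type} [Fintype ι] [DecidableEq ι] [Fintype κ] [DecidableEq κ]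
    (h2 : (2 : F) ≠ 0) (Q : QuadraticForm F (ι → F)) (Q' : QuadraticForm F (κ → F))
    (hQ : (polarBilin Q).Nondegenerate) (hQ' : (polarBilin Q').Nondegenerate)
    (hcard : Fintype.card κ = Fintype.card ι) (hd : IsSquare (disc Q * disc Q')) :
    ∃ e : (κ → F) ≃ₗ[F] (ι → F), ∀ x, Q' x = Q (e x) := by
  classical
  rcases isEmpty_or_nonempty κ with hκ | hκ
  · have hι : IsEmpty ι := by rw [← Fintype.card_eq_zero_iff, ← hcard, Fintype.card_eq_zero_iff]; exact hκ
    let e : (κ → F) ≃ₗ[F] (ι → F) :=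
      { toFun := fun _ => 0
        invFun := fun _ => 0
        map_add' := fun _ _ => (add_zero _).symm
        map_smul' := fun _ _ => (smul_zero _).symm
        left_inv := fun _ => Subsingleton.elim _ _
        right_inv := fun _ => Subsingleton.elim _ _ }
    refine ⟨e, fun x => ?_⟩
    have h1 : x = 0 := Subsingleton.elim _ _
    have h3 : e x = (0 : ι → F) := Subsingleton.elim _ _
    rw [h3, h1, QuadraticMap.map_zero, QuadraticMap.map_zero]
  · obtain ⟨k0⟩ := hκ
    have hQ0 := disc_ne_zero' Q hQ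
    have hQ0' := disc_ne_zero' Q' hQ'
    -- `c = (1, …, 1, d)` with `∏ 2 c i = disc Q' * 4 ^ n`
    set n := Fintype.card κ with hn
    set d : F := disc Q' * 2 ^ n with hdd
    set c : κ → F := Function.update (fun _ => 1) k0 d with hc
    have hd0 : d ≠ 0 := mul_ne_zero hQ0' (pow_ne_zero _ h2)
    have hc0 : ∀ i, c i ≠ 0 := by
      intro i
      by_cases hi : i = k0
      · subst hi; rw [hc, Function.update_self]; exact hd0
      · rw [hc, Function.update_of_ne hi]; exact one_ne_zero
    have hprod : ∏ i, (2 * c i) = 2 ^ n * d := by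
      rw [Finset.prod_mul_distrib, Finset.prod_const, Finset.card_univ]
      congr 1
      rw [hc, Finset.prod_update_of_mem (Finset.mem_univ k0)]
      simp
    obtain ⟨t, ht⟩ := hd
    have ht0 : t ≠ 0 := by
      rintro rfl
      rw [mul_zero] at ht
      exact mul_ne_zero hQ0 hQ0' ht
    have h2n : (2 : F) ^ n ≠ 0 := pow_ne_zero _ h2
    obtain ⟨e, he⟩ := exists_diag h2 Q hQ c hcard hc0 (t * (disc Q')⁻¹ * (2 ^ n)⁻¹) (by
      change disc Q = _
      rw [hprod, hdd]
      have : disc Q = t * t * (disc Q')⁻¹ := by rw [← ht, mul_inv_cancel_right₀ hQ0']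
      rw [this]
      field_simp)
    obtain ⟨e', he'⟩ := exists_diag h2 Q' hQ' c rfl hc0 (2 ^ n)⁻¹ (by
      change disc Q' = _
      rw [hprod, hdd]
      field_simp)
    refine ⟨e'.symm.trans e, fun x => ?_⟩
    rw [LinearEquiv.trans_apply, ← he, he', LinearEquiv.apply_symm_apply]

theorem card_iso_eq {ι κ : Type} [Fintype ι] [DecidableEq ι] [Fintype κ] [DecidableEq κ]
    (h2 : (2 : F) ≠ 0) (Q : QuadraticForm F (ι → F)) (Q' : QuadraticForm F (κ → F))
    (hQ : (polarBilin Q).Nondegenerate) (hQ' : (polarBilin Q').Nondegenerate)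
    (hcard : Fintype.card κ = Fintype.card ι) (hd : IsSquare (disc Q * disc Q')) :
    Nat.card (Cfsg.isometryGroup F (⇑Q)) = Nat.card (Cfsg.isometryGroup F (⇑Q')) := by
  obtain ⟨e, he⟩ := exists_equiv h2 Q Q' hQ hQ' hcard hd
  exact Nat.card_congr (isoConj e (⇑Q) (⇑Q') he).toEquiv

theorem isSquare_neg_one_pow_iff (hF : Odd (Fintype.card F)) (m : ℕ) :
    IsSquare ((-1 : F) ^ m) ↔ (Fintype.card F % 4 = 1 ∨ Even m) := by
  have h1 : IsSquare (-1 : F) ↔ Fintype.card F % 4 = 1 := by
    rw [FiniteField.isSquare_neg_one_iff]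
    obtain ⟨k, hk⟩ := hF
    omega
  rcases Nat.even_or_odd m with he | ho
  · rw [he.neg_one_pow]
    exact ⟨fun _ => Or.inr he, fun _ => IsSquare.one⟩
  · rw [ho.neg_one_pow, h1]
    constructor
    · exact Or.inl
    · rintro (h | h)
      · exact h
      · exact absurd h (Nat.not_even_iff_odd.2 ho)

theorem prop_aux (A M N B E : Prop) (hp : ¬ (A ↔ E)) (e3 : E ↔ (M ↔ N)) (h : ¬ (N ↔ B)) :
    (A ↔ (M ↔ B)) ∧ (A ↔ ¬ E) := by
  by_cases hA : A <;> by_cases hM : M <;> by_cases hN : N <;> by_cases hB : B <;>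
    by_cases hE : E <;> simp_all

/-- **The exponent of `2` in the orders of the isometry groups, even dimension.** -/
theorem val_even {ι : Type} [Fintype ι] [DecidableEq ι] (hF : Odd (Fintype.card F))
    (Q : QuadraticForm F (ι → F)) (hQ : (polarBilin Q).Nondegenerate) (m : ℕ)
    (hm : Fintype.card ι = 2 * (m + 1)) :
    (IsSquare (disc Q) → padicValNat 2 (Nat.card (Cfsg.isometryGroup F (⇑Q))) =
      ov (Fintype.card F) (m + 1)) ∧
    (¬ IsSquare (disc Q) → padicValNat 2 (Nat.card (Cfsg.isometryGroup F (⇑Q))) =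
      ov (Fintype.card F) m + 2) := by
  have h2 := two_ne_zero_of_odd hF
  have hQ0 := disc_ne_zero' Q hQ
  by_cases hp : IsSquare (disc Q * (-1) ^ (m + 1))
  · -- plus type
    have hc := card_iso_eq h2 Q (quadPlus (m + 1) F) hQ (quadPlus_nondegenerate (m := m + 1)) (by
      rw [hm, Fintype.card_sum, Fintype.card_fin]; ring) (by rw [disc_plus]; exact hp)
    have hsq : IsSquare (disc Q) ↔ (Fintype.card F % 4 = 1 ∨ Even (m + 1)) := by
      rw [← isSquare_neg_one_pow_iff hF (m + 1)]
      exact (ClassicalGeometry.Universal.isSquare_mul_iff h2 hQ0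
        (pow_ne_zero (m + 1) (neg_ne_zero.2 (one_ne_zero (α := F))))).1 hp
    rw [hc, val_plus hF m]
    constructor
    · intro h
      rw [if_pos (hsq.1 h)]
    · intro h
      rw [if_neg (fun h' => h (hsq.2 h'))]
  · -- minus type
    obtain ⟨b, hb⟩ : ∃ b : F, ¬ IsSquare (-b) := by
      obtain ⟨b, hb⟩ := FiniteField.exists_nonsquare (ClassicalGeometry.Universal.ringChar_ne_two h2)
      exact ⟨-b, by rwa [neg_neg]⟩
    have hb0 : b ≠ 0 := by
      rintro rfl
      apply hb
      rw [neg_zero]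
      exact IsSquare.zero
    have hab : ∀ z₁ z₂ : F, z₁ ^ 2 + 0 * z₁ * z₂ + b * z₂ ^ 2 = 0 → z₁ = 0 ∧ z₂ = 0 := by
      intro z₁ z₂ h
      by_cases hz : z₂ = 0
      · subst hz
        simp at h
        exact ⟨h, rfl⟩
      · exfalso
        apply hb
        refine ⟨z₁ / z₂, ?_⟩
        field_simp
        linear_combination -h
    have hnsq : ¬ IsSquare (-1 * b) := by rwa [neg_one_mul]
    have hm1 : (-1 : F) ≠ 0 := neg_ne_zero.2 one_ne_zero
    have e1 := ClassicalGeometry.Universal.isSquare_mul_iff h2 hm1 hb0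
    have e2 := ClassicalGeometry.Universal.isSquare_mul_iff h2 hQ0 (pow_ne_zero (m + 1) hm1)
    have e3 := ClassicalGeometry.Universal.isSquare_mul_iff h2 (pow_ne_zero m hm1) hm1
    rw [← pow_succ] at e3
    rw [e1] at hnsq
    rw [e2] at hp
    obtain ⟨k1, k2⟩ := prop_aux _ _ _ _ _ hp e3 hnsq
    have hd : IsSquare (disc Q * disc (quadMinus m F 0 b)) := by
      rw [disc_minus]
      have h4 : disc Q * ((-1) ^ m * (4 * b - 0 ^ 2 : F)) = (disc Q * ((-1) ^ m * b)) * (2 * 2) := by
        ring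
      rw [h4]
      refine IsSquare.mul ?_ ⟨2, rfl⟩
      rw [ClassicalGeometry.Universal.isSquare_mul_iff h2 hQ0 (mul_ne_zero (pow_ne_zero m hm1) hb0),
        ClassicalGeometry.Universal.isSquare_mul_iff h2 (pow_ne_zero m hm1) hb0]
      exact k1
    have hc := card_iso_eq h2 Q (quadMinus m F 0 b) hQ (quadMinus_nondegenerate hab) (by
      rw [hm, Fintype.card_sum, Fintype.card_sum, Fintype.card_fin, Fintype.card_fin]; ring) hd
    have hsq : IsSquare (disc Q) ↔ ¬ (Fintype.card F % 4 = 1 ∨ Even (m + 1)) := by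
      rw [← isSquare_neg_one_pow_iff hF (m + 1)]
      exact k2
    rw [hc, val_minus hF m 0 b hab]
    constructor
    · intro h
      rw [if_neg (hsq.1 h)]
    · intro h
      rw [if_pos (by by_contra h'; exact h (hsq.2 h'))]

end Forms

end Cfsg.Agent.H637
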