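import Mathlib

/-!
# Squares in commutator subgroups of Sylow `2`-subgroups of kernels

`Semi N S`: the squares of the elements of `S ⊓ N` lie in `⁅S ⊓ N, S⁆`.
`Good N S`: they lie in `⁅S ⊓ N, S ⊓ N⁆`.
For `χ : X →* Z`, `Semi χ.ker S` is inherited, in the strong form `Good`, by direct products and by
wreath products with a group of order `2`.
-/

set_option autoImplicit false

namespace Cfsg.Agent.H637

open Subgroup
open scoped commutatorElement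

section Basic

variable {X Y Z : Type*} [Group X] [Group Y] [CommGroup Z]

/-- The squares of the elements of `S ⊓ N` lie in `⁅S ⊓ N, S⁆`. -/
def Semi (N S : Subgroup X) : Prop := ∀ x ∈ S ⊓ N, x ^ 2 ∈ ⁅S ⊓ N, S⁆

/-- The squares of the elements of `S ⊓ N` lie in `⁅S ⊓ N, S ⊓ N⁆`. -/
def Good (N S : Subgroup X) : Prop := ∀ x ∈ S ⊓ N, x ^ 2 ∈ ⁅S ⊓ N, S ⊓ N⁆

theorem Good.semi {N S : Subgroup X} (h : Good N S) : Semi N S := fun x hx =>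
  Subgroup.commutator_mono le_rfl inf_le_left (h x hx)

theorem map_inf_ker (f : Y →* X) (χ : X →* Z) (T : Subgroup Y) :
    T.map f ⊓ χ.ker = (T ⊓ (χ.comp f).ker).map f := by
  ext x
  constructor
  · rintro ⟨⟨y, hy, rfl⟩, hx⟩
    exact ⟨y, ⟨hy, hx⟩, rfl⟩
  · rintro ⟨y, ⟨hy, hx⟩, rfl⟩
    exact ⟨⟨y, hy, rfl⟩, hx⟩

theorem Good.map {f : Y →* X} {χ : X →* Z} {T : Subgroup Y} (h : Good (χ.comp f).ker T) :
    Good χ.ker (T.map f) := by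
  intro x hx
  rw [map_inf_ker] at hx ⊢
  obtain ⟨y, hy, rfl⟩ := hx
  rw [← Subgroup.map_commutator]
  exact ⟨y ^ 2, h y hy, map_pow f y 2⟩

theorem Semi.map {f : Y →* X} {χ : X →* Z} {T : Subgroup Y} (h : Semi (χ.comp f).ker T) :
    Semi χ.ker (T.map f) := by
  intro x hx
  rw [map_inf_ker] at hx ⊢
  obtain ⟨y, hy, rfl⟩ := hx
  rw [← Subgroup.map_commutator]
  exact ⟨y ^ 2, h y hy, map_pow f y 2⟩

/-- The subgroup of the elements of `K` whose squares lie in `⁅K, K⁆`. -/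
def sqSub (K : Subgroup X) : Subgroup X where
  carrier := {x | x ∈ K ∧ x ^ 2 ∈ ⁅K, K⁆}
  one_mem' := ⟨K.one_mem, by rw [one_pow]; exact Subgroup.one_mem _⟩
  inv_mem' := by
    rintro x ⟨h1, h2⟩
    exact ⟨K.inv_mem h1, by rw [inv_pow]; exact Subgroup.inv_mem _ h2⟩
  mul_mem' := by
    rintro x y ⟨hx, hx2⟩ ⟨hy, hy2⟩
    refine ⟨K.mul_mem hx hy, ?_⟩
    have e2 : (x * y) ^ 2 = x ^ 2 * ⁅x⁻¹, y⁆ * y ^ 2 := by
      rw [commutatorElement_def, pow_two, pow_two, pow_two]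
      group
    rw [e2]
    exact Subgroup.mul_mem _ (Subgroup.mul_mem _ hx2
      (Subgroup.commutator_mem_commutator (K.inv_mem hx) hy)) hy2

theorem mem_sqSub {K : Subgroup X} {x : X} : x ∈ sqSub K ↔ x ∈ K ∧ x ^ 2 ∈ ⁅K, K⁆ := Iff.rfl

theorem good_of_le_sqSub {N S : Subgroup X} (h : S ⊓ N ≤ sqSub (S ⊓ N)) : Good N S :=
  fun _ hx => (h hx).2

end Basic

section Prod

variable {X₁ X₂ Z : Type*} [Group X₁] [Group X₂] [CommGroup Z]

/-- **Direct products**: if the kernels of `χ₁` on `S₁` and of `χ₂` on `S₂` are `Semi`, the images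
`χ₁ S₁`, `χ₂ S₂` lie in the subgroup generated by a set `R` of values of involutions (in `S₁` and in
`S₂`), then the kernel of `χ₁ χ₂` on `S₁ × S₂` is `Good`. -/
theorem good_prod (χ₁ : X₁ →* Z) (χ₂ : X₂ →* Z) (χ : X₁ × X₂ →* Z)
    (hχ : ∀ a b, χ (a, b) = χ₁ a * χ₂ b) (S₁ : Subgroup X₁) (S₂ : Subgroup X₂)
    (h₁ : Semi χ₁.ker S₁) (h₂ : Semi χ₂.ker S₂) (R : Set Z)
    (hR₁ : ∀ z ∈ R, ∃ a ∈ S₁, a ^ 2 = 1 ∧ χ₁ a = z) (hR₂ : ∀ z ∈ R, ∃ b ∈ S₂, b ^ 2 = 1 ∧ χ₂ b = z)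
    (hS₁ : ∀ a ∈ S₁, χ₁ a ∈ closure R) (hS₂ : ∀ b ∈ S₂, χ₂ b ∈ closure R) :
    Good χ.ker (S₁.prod S₂) := by
  have hcl₁ : closure R ≤ S₁.map χ₁ := by
    rw [closure_le]
    intro z hz
    obtain ⟨a, ha, -, hz'⟩ := hR₁ z hz
    exact ⟨a, ha, hz'⟩
  have hcl₂ : closure R ≤ S₂.map χ₂ := by
    rw [closure_le]
    intro z hz
    obtain ⟨a, ha, -, hz'⟩ := hR₂ z hz
    exact ⟨a, ha, hz'⟩
  have hinv : ∀ z ∈ R, z⁻¹ = z := by
    intro z hz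
    obtain ⟨a, ha, ha2, hz'⟩ := hR₁ z hz
    rw [inv_eq_iff_mul_eq_one, ← hz', ← map_mul, ← pow_two, ha2, map_one]
  set K := S₁.prod S₂ ⊓ χ.ker with hK
  have hmemK : ∀ a b, (a, b) ∈ K ↔ (a ∈ S₁ ∧ b ∈ S₂) ∧ χ₁ a * χ₂ b = 1 := by
    intro a b
    rw [hK, mem_inf, MonoidHom.mem_ker, hχ, Subgroup.mem_prod]
  -- elements `(d, 1)` and `(1, d)`
  have e₁ : ∀ d ∈ S₁ ⊓ χ₁.ker, (d, (1 : X₂)) ∈ sqSub K := by
    intro d hd
    refine ⟨(hmemK _ _).2 ⟨⟨hd.1, S₂.one_mem⟩, ?_⟩, ?_⟩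
    · rw [map_one, mul_one]; exact hd.2
    · have h3 : ⁅S₁ ⊓ χ₁.ker, S₁⁆ ≤ ⁅K, K⁆.comap (MonoidHom.inl X₁ X₂) := by
        rw [commutator_le]
        intro x hx y hy
        obtain ⟨b, hb, hb2⟩ := hcl₂ ((closure R).inv_mem (hS₁ y hy))
        have h4 : (⁅(x, (1 : X₂)), (y, b)⁆ : X₁ × X₂) ∈ ⁅K, K⁆ := by
          refine commutator_mem_commutator ((hmemK _ _).2 ⟨⟨hx.1, S₂.one_mem⟩, ?_⟩)
            ((hmemK _ _).2 ⟨⟨hy, hb⟩, ?_⟩)
          · rw [map_one, mul_one]; exact hx.2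
          · rw [hb2, mul_inv_cancel]
        rw [mem_comap]
        convert h4 using 1
        rw [commutatorElement_def, commutatorElement_def]
        ext
        · rfl
        · simp
      have h5 := h3 (h₁ d hd)
      rw [mem_comap] at h5
      convert h5 using 1
      simp
  have e₂ : ∀ d ∈ S₂ ⊓ χ₂.ker, ((1 : X₁), d) ∈ sqSub K := by
    intro d hd
    refine ⟨(hmemK _ _).2 ⟨⟨S₁.one_mem, hd.1⟩, ?_⟩, ?_⟩
    · rw [map_one, one_mul]; exact hd.2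
    · have h3 : ⁅S₂ ⊓ χ₂.ker, S₂⁆ ≤ ⁅K, K⁆.comap (MonoidHom.inr X₁ X₂) := by
        rw [commutator_le]
        intro x hx y hy
        obtain ⟨b, hb, hb2⟩ := hcl₁ ((closure R).inv_mem (hS₂ y hy))
        have h4 : (⁅((1 : X₁), x), (b, y)⁆ : X₁ × X₂) ∈ ⁅K, K⁆ := by
          refine commutator_mem_commutator ((hmemK _ _).2 ⟨⟨S₁.one_mem, hx.1⟩, ?_⟩)
            ((hmemK _ _).2 ⟨⟨hb, hy⟩, ?_⟩)
          · rw [map_one, one_mul]; exact hx.2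
          · rw [hb2, inv_mul_cancel]
        rw [mem_comap]
        convert h4 using 1
        rw [commutatorElement_def, commutatorElement_def]
        ext
        · simp
        · rfl
      have h5 := h3 (h₂ d hd)
      rw [mem_comap] at h5
      convert h5 using 1
      simp
  -- for `z` in the closure of `R` there are `a`, `b` with `χ₁ a = z`, `χ₂ b = z⁻¹`
  have e₃ : ∀ z ∈ closure R, ∃ a ∈ S₁, ∃ b ∈ S₂, χ₁ a = z ∧ χ₂ b = z⁻¹ ∧ (a, b) ∈ sqSub K := by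
    intro z hz
    induction hz using closure_induction with
    | mem z hz =>
      obtain ⟨a, ha, ha2, haz⟩ := hR₁ z hz
      obtain ⟨b, hb, hb2, hbz⟩ := hR₂ z hz
      refine ⟨a, ha, b, hb, haz, by rw [hbz, hinv z hz], (hmemK _ _).2 ⟨⟨ha, hb⟩, ?_⟩, ?_⟩
      · rw [haz, hbz, ← haz, ← map_mul, ← pow_two, ha2, map_one]
      · have : ((a, b) : X₁ × X₂) ^ 2 = 1 := by
          rw [Prod.pow_mk, ha2, hb2]; rfl
        rw [this]
        exact Subgroup.one_mem _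
    | one => exact ⟨1, S₁.one_mem, 1, S₂.one_mem, map_one _, by rw [map_one, inv_one],
        Subgroup.one_mem _⟩
    | mul x y _ _ ihx ihy =>
      obtain ⟨a, ha, b, hb, h3, h4, h5⟩ := ihx
      obtain ⟨a', ha', b', hb', h3', h4', h5'⟩ := ihy
      exact ⟨a * a', S₁.mul_mem ha ha', b * b', S₂.mul_mem hb hb', by rw [map_mul, h3, h3'],
        by rw [map_mul, h4, h4', mul_inv], Subgroup.mul_mem _ h5 h5'⟩
    | inv x _ ih =>
      obtain ⟨a, ha, b, hb, h3, h4, h5⟩ := ih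
      exact ⟨a⁻¹, S₁.inv_mem ha, b⁻¹, S₂.inv_mem hb, by rw [map_inv, h3],
        by rw [map_inv, h4], Subgroup.inv_mem _ h5⟩
  apply good_of_le_sqSub
  rintro ⟨x, y⟩ hxy
  obtain ⟨⟨hx, hy⟩, hxy1⟩ := (hmemK x y).1 hxy
  obtain ⟨a, ha, b, hb, h3, h4, h5⟩ := e₃ (χ₁ x) (hS₁ x hx)
  have h6 : (a⁻¹ * x, (1 : X₂)) ∈ sqSub K := by
    apply e₁
    refine ⟨S₁.mul_mem (S₁.inv_mem ha) hx, ?_⟩
    change χ₁ (a⁻¹ * x) = 1
    rw [map_mul, map_inv, h3, inv_mul_cancel]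
  have h7 : ((1 : X₁), b⁻¹ * y) ∈ sqSub K := by
    apply e₂
    refine ⟨S₂.mul_mem (S₂.inv_mem hb) hy, ?_⟩
    change χ₂ (b⁻¹ * y) = 1
    rw [map_mul, map_inv, h4, inv_inv, hxy1]
  have h8 : ((x, y) : X₁ × X₂) = (a, b) * ((a⁻¹ * x, 1) * (1, b⁻¹ * y)) := by
    ext <;> simp
  rw [h8]
  exact Subgroup.mul_mem _ h5 (Subgroup.mul_mem _ h6 h7)

end Prod

section Wreath

variable {X₁ X Z : Type*} [Group X₁] [Group X] [CommGroup Z]

/-- **Wreath products with a group of order two.** -/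
theorem good_wreath (χ₁ : X₁ →* Z) (χ : X →* Z) (f : X₁ × X₁ →* X) (s : X) (hs : s ^ 2 = 1)
    (hχs : χ s = 1) (hfs : ∀ a b, s * f (a, b) * s⁻¹ = f (b, a))
    (hχ : ∀ a b, χ (f (a, b)) = χ₁ a * χ₁ b) (S₁ : Subgroup X₁) (h₁ : Semi χ₁.ker S₁)
    (T : Subgroup X) (hsT : s ∈ T) (hST : (S₁.prod S₁).map f ≤ T)
    (hT : ∀ t ∈ T, ∃ a ∈ S₁, ∃ b ∈ S₁, t = f (a, b) ∨ t = f (a, b) * s) :
    Good χ.ker T := by
  set K := T ⊓ χ.ker with hK
  have hfK : ∀ a ∈ S₁, ∀ b ∈ S₁, χ₁ a * χ₁ b = 1 → f (a, b) ∈ K := by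
    intro a ha b hb hab
    exact ⟨hST ⟨(a, b), ⟨ha, hb⟩, rfl⟩, (hχ a b).trans hab⟩
  have hsK : s ∈ K := ⟨hsT, hχs⟩
  have e₁ : s ∈ sqSub K := ⟨hsK, by rw [hs]; exact Subgroup.one_mem _⟩
  have e₂ : ∀ d ∈ S₁ ⊓ χ₁.ker, f (1, d) ∈ sqSub K := by
    intro d hd
    refine ⟨hfK _ S₁.one_mem _ hd.1 (by rw [map_one, one_mul]; exact hd.2), ?_⟩
    have h3 : ⁅S₁ ⊓ χ₁.ker, S₁⁆ ≤ ⁅K, K⁆.comap (f.comp (MonoidHom.inr X₁ X₁)) := by
      rw [commutator_le]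
      intro x hx y hy
      have h4 : (⁅f (1, x), f (y⁻¹, y)⁆ : X) ∈ ⁅K, K⁆ := by
        refine commutator_mem_commutator (hfK _ S₁.one_mem _ hx.1 ?_)
          (hfK _ (S₁.inv_mem hy) _ hy ?_)
        · rw [map_one, one_mul]; exact hx.2
        · rw [map_inv, inv_mul_cancel]
      rw [mem_comap]
      have h6 : (f.comp (MonoidHom.inr X₁ X₁)) ⁅x, y⁆ = ⁅f (1, x), f (y⁻¹, y)⁆ := by
        rw [← map_commutatorElement]
        change f (1, ⁅x, y⁆) = _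
        congr 1
        rw [commutatorElement_def, commutatorElement_def]
        ext
        · simp
        · rfl
      rw [h6]
      exact h4
    have h5 := h3 (h₁ d hd)
    rw [mem_comap] at h5
    convert h5 using 1
    rw [← map_pow]
    simp
  have e₃ : ∀ a ∈ S₁, f (a, a⁻¹) ∈ sqSub K := by
    intro a ha
    have h3 : f (a, a⁻¹) ∈ K := hfK a ha a⁻¹ (S₁.inv_mem ha) (by rw [map_inv, mul_inv_cancel])
    refine ⟨h3, ?_⟩
    have h4 : f (a, a⁻¹) ^ 2 = ⁅f (a, a⁻¹), s⁆ := by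
      rw [commutatorElement_def, mul_assoc, mul_assoc, ← mul_assoc s, ← map_inv, Prod.inv_mk,
        inv_inv, hfs, pow_two]
    rw [h4]
    exact commutator_mem_commutator h3 hsK
  have e₄ : ∀ a ∈ S₁, ∀ b ∈ S₁, χ₁ a * χ₁ b = 1 → f (a, b) ∈ sqSub K := by
    intro a ha b hb hab
    have h3 : f (a, b) = f (a, a⁻¹) * f (1, a * b) := by
      rw [← map_mul, Prod.mk_mul_mk, mul_one, inv_mul_cancel_left]
    rw [h3]
    refine Subgroup.mul_mem _ (e₃ a ha) (e₂ _ ⟨S₁.mul_mem ha hb, ?_⟩)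
    change χ₁ (a * b) = 1
    rw [map_mul, hab]
  apply good_of_le_sqSub
  intro t ht
  obtain ⟨a, ha, b, hb, h | h⟩ := hT t ht.1
  · rw [h]
    apply e₄ a ha b hb
    rw [← hχ, ← h]
    exact ht.2
  · rw [h]
    refine Subgroup.mul_mem _ (e₄ a ha b hb ?_) e₁
    rw [← hχ]
    have h6 : χ t = 1 := ht.2
    rw [h, map_mul, hχs, mul_one] at h6
    exact h6

end Wreath

end Cfsg.Agent.H637
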