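import Cfsg.Agent.H637.Semi

/-!
# `Semi` and `Good` for Sylow `2`-subgroups

`SemiSyl χ`, `GoodSyl χ`: the properties `Semi`, `Good` of the kernel of `χ : X →* Z` in the Sylow
`2`-subgroups of the finite group `X`.
-/

set_option autoImplicit false

namespace Cfsg.Agent.H637

open Subgroup
open scoped commutatorElement

section

variable {X Z : Type*} [Group X] [CommGroup Z]

def SemiSyl (χ : X →* Z) : Prop := ∀ S : Sylow 2 X, Semi χ.ker (S : Subgroup X)
def GoodSyl (χ : X →* Z) : Prop := ∀ S : Sylow 2 X, Good χ.ker (S : Subgroup X)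

theorem GoodSyl.semiSyl {χ : X →* Z} (h : GoodSyl χ) : SemiSyl χ := fun S => (h S).semi

theorem comp_conj (χ : X →* Z) (g : X) : χ.comp (MulAut.conj g).toMonoidHom = χ := by
  ext x
  simp

theorem goodSyl_of_exists [Finite X] {χ : X →* Z} (S : Sylow 2 X) (h : Good χ.ker (S : Subgroup X)) :
    GoodSyl χ := by
  have : Fact (Nat.Prime 2) := ⟨Nat.prime_two⟩
  intro S'
  obtain ⟨g, hg⟩ := MulAction.exists_smul_eq X S S'
  have h1 : (S' : Subgroup X) = (S : Subgroup X).map (MulAut.conj g).toMonoidHom := by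
    rw [← hg]; rfl
  rw [h1]
  apply Good.map
  rw [comp_conj]
  exact h

theorem semiSyl_of_exists [Finite X] {χ : X →* Z} (S : Sylow 2 X) (h : Semi χ.ker (S : Subgroup X)) :
    SemiSyl χ := by
  have : Fact (Nat.Prime 2) := ⟨Nat.prime_two⟩
  intro S'
  obtain ⟨g, hg⟩ := MulAction.exists_smul_eq X S S'
  have h1 : (S' : Subgroup X) = (S : Subgroup X).map (MulAut.conj g).toMonoidHom := by
    rw [← hg]; rfl
  rw [h1]
  apply Semi.map
  rw [comp_conj]
  exact h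

/-- Every involution value of `χ` is attained in every Sylow subgroup. -/
theorem exists_mem_sylow [Finite X] {χ : X →* Z} {a : X} (ha : a ^ 2 = 1) (S : Sylow 2 X) :
    ∃ b ∈ (S : Subgroup X), b ^ 2 = 1 ∧ χ b = χ a := by
  have : Fact (Nat.Prime 2) := ⟨Nat.prime_two⟩
  have h1 : IsPGroup 2 (zpowers a) := by
    intro ⟨x, hx⟩
    obtain ⟨n, rfl⟩ := hx
    refine ⟨1, ?_⟩
    apply Subtype.ext
    change (a ^ n) ^ (2 ^ 1) = 1
    rw [pow_one, ← zpow_natCast, ← zpow_mul, mul_comm, zpow_mul, zpow_natCast, ha, one_zpow]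
  obtain ⟨S', hS'⟩ := h1.exists_le_sylow
  obtain ⟨g, hg⟩ := MulAction.exists_smul_eq X S' S
  refine ⟨g * a * g⁻¹, ?_, ?_, ?_⟩
  · rw [← hg]
    exact ⟨a, hS' (mem_zpowers a), rfl⟩
  · rw [conj_pow, ha, mul_one, mul_inv_cancel]
  · rw [map_mul, map_mul, map_inv, mul_comm (χ g), mul_inv_cancel_right]

/-- The property of the Sylow subgroups of the kernel. -/
theorem sq_mem_commutator_of_goodSyl [Finite X] {χ : X →* Z} (h : GoodSyl χ) (N : Subgroup X)
    (hN : N = χ.ker) (P : Sylow 2 N) (x : (P : Subgroup N)) :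
    x ^ 2 ∈ commutator (P : Subgroup N) := by
  have : Fact (Nat.Prime 2) := ⟨Nat.prime_two⟩
  subst hN
  -- the image of `P` is `S ⊓ N`
  have hP : IsPGroup 2 ((P : Subgroup χ.ker).map χ.ker.subtype) := P.2.map _
  obtain ⟨S, hS⟩ := hP.exists_le_sylow
  have h1 : (P : Subgroup χ.ker).map χ.ker.subtype = (S : Subgroup X) ⊓ χ.ker := by
    have h2 : IsPGroup 2 ((S : Subgroup X).subgroupOf χ.ker) := S.2.comap_subtype
    have h3 : (P : Subgroup χ.ker) ≤ (S : Subgroup X).subgroupOf χ.ker := by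
      intro y hy
      exact hS ⟨y, hy, rfl⟩
    have h4 : (S : Subgroup X).subgroupOf χ.ker = P := P.3 h2 h3
    rw [← h4, subgroupOf_map_subtype]
  have h5 : ((x : χ.ker) : X) ∈ (S : Subgroup X) ⊓ χ.ker := by
    rw [← h1]
    exact ⟨x, x.2, rfl⟩
  have h6 := h S _ h5
  rw [← h1, ← map_commutator] at h6
  obtain ⟨y, hy, hyx⟩ := h6
  have h7 : y = ((x ^ 2 : (P : Subgroup χ.ker)) : χ.ker) := by
    apply Subtype.ext
    rw [Subgroup.coe_pow]
    exact hyx
  rw [h7, ← map_subtype_commutator] at hy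
  obtain ⟨w, hw, hwx⟩ := hy
  have h8 : w = x ^ 2 := Subtype.ext hwx
  rw [← h8]
  exact hw

/-- Gluing of Sylow subgroups along `f : X₁ × X₂ → X`. -/
theorem sylow_prod {X₁ X₂ : Type*} [Group X₁] [Group X₂] [Finite X] [Finite X₁] [Finite X₂]
    (f : X₁ × X₂ →* X) (hf : Function.Injective f)
    (hc : (Nat.card X).factorization 2 = (Nat.card X₁).factorization 2 +
      (Nat.card X₂).factorization 2) (S₁ : Sylow 2 X₁) (S₂ : Sylow 2 X₂) :
    ∃ S : Sylow 2 X, (S : Subgroup X) = ((S₁ : Subgroup X₁).prod (S₂ : Subgroup X₂)).map f := by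
  have : Fact (Nat.Prime 2) := ⟨Nat.prime_two⟩
  have h1 : Nat.card (((S₁ : Subgroup X₁).prod (S₂ : Subgroup X₂)).map f) =
      2 ^ (Nat.card X).factorization 2 := by
    rw [hc, pow_add, ← S₁.card_eq_multiplicity, ← S₂.card_eq_multiplicity,
      Nat.card_congr (Subgroup.equivMapOfInjective _ f hf).toEquiv.symm,
      Nat.card_congr (Subgroup.prodEquiv _ _).toEquiv, Nat.card_prod]
  exact ⟨Sylow.ofCard _ h1, Sylow.coe_ofCard _ h1⟩

theorem goodSyl_prod {X₁ X₂ : Type*} [Group X₁] [Group X₂] [Finite X] [Finite X₁] [Finite X₂]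
    (χ₁ : X₁ →* Z) (χ₂ : X₂ →* Z) (χ : X →* Z) (f : X₁ × X₂ →* X) (hf : Function.Injective f)
    (hc : (Nat.card X).factorization 2 = (Nat.card X₁).factorization 2 +
      (Nat.card X₂).factorization 2)
    (hχ : ∀ a b, χ (f (a, b)) = χ₁ a * χ₂ b) (h₁ : SemiSyl χ₁) (h₂ : SemiSyl χ₂) (R : Set Z)
    (hR₁ : ∀ z ∈ R, ∃ a, a ^ 2 = 1 ∧ χ₁ a = z) (hR₂ : ∀ z ∈ R, ∃ b, b ^ 2 = 1 ∧ χ₂ b = z)
    (hS₁ : ∀ S : Sylow 2 X₁, ∀ a ∈ (S : Subgroup X₁), χ₁ a ∈ closure R)
    (hS₂ : ∀ S : Sylow 2 X₂, ∀ b ∈ (S : Subgroup X₂), χ₂ b ∈ closure R) : GoodSyl χ := by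
  obtain ⟨S₁⟩ := (inferInstance : Nonempty (Sylow 2 X₁))
  obtain ⟨S₂⟩ := (inferInstance : Nonempty (Sylow 2 X₂))
  obtain ⟨S, hS⟩ := sylow_prod f hf hc S₁ S₂
  apply goodSyl_of_exists S
  rw [hS]
  apply Good.map
  refine good_prod χ₁ χ₂ (χ.comp f) hχ S₁ S₂ (h₁ S₁) (h₂ S₂) R ?_ ?_ (hS₁ S₁) (hS₂ S₂)
  · intro z hz
    obtain ⟨a, ha, haz⟩ := hR₁ z hz
    obtain ⟨b, hb, hb2, hbz⟩ := exists_mem_sylow (χ := χ₁) ha S₁
    exact ⟨b, hb, hb2, hbz.trans haz⟩
  · intro z hz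
    obtain ⟨a, ha, haz⟩ := hR₂ z hz
    obtain ⟨b, hb, hb2, hbz⟩ := exists_mem_sylow (χ := χ₂) ha S₂
    exact ⟨b, hb, hb2, hbz.trans haz⟩

theorem goodSyl_wreath {X₁ : Type*} [Group X₁] [Finite X] [Finite X₁]
    (χ₁ : X₁ →* Z) (χ : X →* Z) (f : X₁ × X₁ →* X) (hf : Function.Injective f)
    (hc : (Nat.card X).factorization 2 = 2 * (Nat.card X₁).factorization 2 + 1)
    (s : X) (hs : s ^ 2 = 1) (hsf : ∀ y, f y ≠ s)
    (hχs : χ s = 1) (hfs : ∀ a b, s * f (a, b) * s⁻¹ = f (b, a))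
    (hχ : ∀ a b, χ (f (a, b)) = χ₁ a * χ₁ b) (h₁ : SemiSyl χ₁) : GoodSyl χ := by
  have : Fact (Nat.Prime 2) := ⟨Nat.prime_two⟩
  obtain ⟨S₁⟩ := (inferInstance : Nonempty (Sylow 2 X₁))
  set B : Subgroup X := ((S₁ : Subgroup X₁).prod (S₁ : Subgroup X₁)).map f with hB
  have hsB : ∀ x ∈ B, s * x * s⁻¹ ∈ B := by
    rintro _ ⟨⟨a, b⟩, ⟨ha, hb⟩, rfl⟩
    rw [hfs]
    exact ⟨(b, a), ⟨hb, ha⟩, rfl⟩
  have hsinv : s⁻¹ = s := by rw [inv_eq_iff_mul_eq_one, ← pow_two, hs]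
  have hss : s * s = 1 := by rw [← pow_two, hs]
  -- the group `B ∪ B s`
  let T : Subgroup X :=
    { carrier := {t | t ∈ B ∨ t * s ∈ B}
      one_mem' := Or.inl B.one_mem
      mul_mem' := by
        rintro x y (hx | hx) (hy | hy)
        · exact Or.inl (B.mul_mem hx hy)
        · right; rw [mul_assoc]; exact B.mul_mem hx hy
        · right
          have : x * y * s = (x * s) * (s * y * s⁻¹) := by
            rw [hsinv]
            simp only [mul_assoc]
            rw [← mul_assoc s s, hss, one_mul]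
          rw [this]
          exact B.mul_mem hx (hsB y hy)
        · left
          have : x * y = (x * s) * (s * (y * s) * s⁻¹) := by
            rw [hsinv]
            simp only [mul_assoc]
            rw [hss, mul_one, ← mul_assoc s s, hss, one_mul]
          rw [this]
          exact B.mul_mem hx (hsB _ hy)
      inv_mem' := by
        rintro x (hx | hx)
        · exact Or.inl (B.inv_mem hx)
        · right
          have : x⁻¹ * s = s * (x * s)⁻¹ * s⁻¹ := by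
            rw [mul_inv_rev, hsinv, ← mul_assoc, hss, one_mul]
          rw [this]
          exact hsB _ (B.inv_mem hx) }
  have hBT : B ≤ T := fun x hx => Or.inl hx
  have hsT : s ∈ T := Or.inr (by rw [hss]; exact B.one_mem)
  have hsnB : s ∉ B := by
    rintro ⟨y, -, hy⟩
    exact hsf y hy
  have hcB : Nat.card B * 2 = 2 ^ (Nat.card X).factorization 2 := by
    rw [hc, pow_succ, two_mul, pow_add, ← S₁.card_eq_multiplicity,
      ← Nat.card_congr (Subgroup.equivMapOfInjective _ f hf).toEquiv,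
      Nat.card_congr (Subgroup.prodEquiv _ _).toEquiv, Nat.card_prod]
  have hcT : Nat.card T = 2 ^ (Nat.card X).factorization 2 := by
    rw [← hcB]
    have h1 : (B.subgroupOf T).index = 2 := by
      rw [Subgroup.index_eq_two_iff]
      refine ⟨⟨s, hsT⟩, ?_⟩
      rintro ⟨x, hx⟩
      rw [mem_subgroupOf, mem_subgroupOf]
      change Xor (x * s ∈ B) (x ∈ B)
      rcases hx with hx | hx
      · right
        refine ⟨hx, fun h => hsnB ?_⟩
        have := B.mul_mem (B.inv_mem hx) h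
        rwa [inv_mul_cancel_left] at this
      · left
        refine ⟨hx, fun h => hsnB ?_⟩
        have := B.mul_mem (B.inv_mem h) hx
        rwa [inv_mul_cancel_left] at this
    have h2 := (B.subgroupOf T).card_mul_index
    rw [h1, Nat.card_congr (Subgroup.subgroupOfEquivOfLe hBT).toEquiv] at h2
    exact h2.symm
  have hT : ∀ t ∈ T, ∃ a ∈ (S₁ : Subgroup X₁), ∃ b ∈ (S₁ : Subgroup X₁),
      t = f (a, b) ∨ t = f (a, b) * s := by
    rintro t (ht | ht)
    · obtain ⟨⟨a, b⟩, ⟨ha, hb⟩, h⟩ := ht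
      exact ⟨a, ha, b, hb, Or.inl h.symm⟩
    · obtain ⟨⟨a, b⟩, ⟨ha, hb⟩, h⟩ := ht
      refine ⟨a, ha, b, hb, Or.inr ?_⟩
      rw [h, mul_assoc, hss, mul_one]
  apply goodSyl_of_exists (Sylow.ofCard T hcT)
  rw [Sylow.coe_ofCard]
  exact good_wreath χ₁ χ f s hs hχs hfs hχ S₁ (h₁ S₁) T hsT hBT hT

end

end Cfsg.Agent.H637
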